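import Cfsg.Statements.S1949
import Cfsg.Agent.H2.Sect
import Cfsg.Agent.L0.Fitting

set_option autoImplicit false
open Cfsg

namespace Cfsg.Agent.S1949
open Subgroup CfsgH2 CfsgL0
open scoped commutatorElement

theorem fix_of_commAut {P : Type*} [Group P] [Finite P] {p : ℕ} [Fact p.Prime] (hP : IsPGroup p P)
    {α : MulAut P} (ha : (orderOf α).Coprime p) {H K L : Subgroup P} [H.Normal]
    (hH : ∀ x ∈ H, α x = x) (hK : ∀ β ∈ zpowers α, ∀ x ∈ K, x⁻¹ * β x ∈ L)
    (hL : L ⊓ centralizer (H : Set P) ≤ H) : ∀ x ∈ K, α x = x := by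
  have h1 : H ≤ fixAut (zpowers α).subtype := fun x hx β => by
    obtain ⟨k, hk⟩ := mem_zpowers_iff.mp β.2
    have := MulAction.mem_fixedBy_zpow (α := P) (g := α) (a := x) (hH x hx) k
    rw [hk] at this
    exact this
  have := le_fixAut_of_commAut_le (zpowers α).subtype (N := H) (K := K)
    (coprime_card_of_coprime_p (hP.to_subgroup H) (by rwa [Nat.card_zpowers]))
    (Or.inr (isSolvable_of_isPGroup (hP.to_subgroup H))) h1
    ((le_inf (show commAut (zpowers α).subtype K ≤ L from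
      commAut_le.mpr fun x hx (β : zpowers α) => hK β β.2 x hx)
      ((commAut_mono _ le_top).trans (commAut_le_centralizer _ h1))).trans hL)
  exact fun x hx => this hx ⟨α, mem_zpowers α⟩

/-- Let P be a finite p-group and G a group of automorphisms of P containing the inner automorphisms. Then there is a G-invariant subgroup D of P, contained in the subgroup generated by the elements x⁻¹α(x) with x in P and α in O^p(G), of exponent dividing p when p is odd and dividing 4 when p = 2, with [D, P] ≤ Z(D), such that every automorphism in G of order prime to p that fixes D elementwise is the identity; moreover every maximal abelian subgroup A of D is normal in P and every automorphism in G fixing A elementwise has p-power order. -/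
theorem result {P : Type*} [Group P] [Finite P] {p : ℕ} [Fact p.Prime] (hP : IsPGroup p P)
    (G : Subgroup (MulAut P)) (hG : Cfsg.Inn P ≤ G) :
    ∃ D : Subgroup P,
      (∀ α ∈ G, D.map α.toMonoidHom = D) ∧
      D ≤ Subgroup.closure {y : P | ∃ α ∈ Cfsg.pResidual p ↥G, ∃ x : P, y = x⁻¹ * (α : MulAut P) x} ∧
      (∀ d ∈ D, d ^ p = 1 ∨ (p = 2 ∧ d ^ 4 = 1)) ∧
      ⁅D, (⊤ : Subgroup P)⁆ ≤ D ⊓ Subgroup.centralizer (D : Set P) ∧
      (∀ α ∈ G, (orderOf α).Coprime p → (∀ d ∈ D, α d = d) → α = 1) ∧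
      ∀ A : Subgroup P, A ≤ D → IsMulCommutative ↥A →
        (∀ B : Subgroup P, A ≤ B → B ≤ D → IsMulCommutative ↥B → B = A) →
        A.Normal ∧ ∀ α ∈ G, (∀ a ∈ A, α a = a) → ∃ k : ℕ, orderOf α = p ^ k := by
  have hp : p.Prime := Fact.out
  obtain ⟨P₁, hP₁⟩ : ∃ P₁, P₁ = closure {y : P | ∃ α ∈ Cfsg.pResidual p ↥G, ∃ x : P,
    y = x⁻¹ * (α : MulAut P) x} := ⟨_, rfl⟩
  rw [← hP₁]
  have nrm : ∀ {H : Subgroup P}, (∀ α ∈ G, ∀ x ∈ H, α x ∈ H) → H.Normal := fun h =>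
    ⟨fun x hx g => h (MulAut.conj g) (hG ⟨g, rfl⟩) x hx⟩
  have inv₁ : ∀ α ∈ G, ∀ x ∈ P₁, α x ∈ P₁ := fun α hα => by
    change P₁ ≤ P₁.comap α.toMonoidHom
    rw [hP₁, closure_le]
    rintro _ ⟨β, hβ, x, rfl⟩
    exact subset_closure ⟨⟨α, hα⟩ * β * ⟨α, hα⟩⁻¹, Normal.conj_mem inferInstance β hβ _, α x, by simp⟩
  have invC : ∀ {H : Subgroup P}, (∀ α ∈ G, ∀ x ∈ H, α x ∈ H) →
      ∀ α ∈ G, ∀ x ∈ centralizer (H : Set P), α x ∈ centralizer (H : Set P) :=
    fun h α hα x hx y hy => by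
      have := congrArg α (hx _ (h α⁻¹ (inv_mem hα) y hy))
      simpa using this
  obtain ⟨H, hH⟩ := (Set.toFinite {H : Subgroup P | (∀ α ∈ G, ∀ x ∈ H, α x ∈ H) ∧ H ≤ P₁ ∧
    ∀ h ∈ H, h ^ p ∈ H ⊓ centralizer (H : Set P) ∧
      ∀ g : P, ⁅h, g⁆ ∈ H ⊓ centralizer (H : Set P)}).exists_maximal
      ⟨⊥, by simp, bot_le, by simp⟩
  obtain ⟨hc, hle₁, h1⟩ := hH.prop
  have := nrm hc
  have := nrm inv₁
  have hself : P₁ ⊓ centralizer (H : Set P) ≤ H := by
    by_contra hne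
    set Z := H ⊓ centralizer (H : Set P) with hZ
    obtain ⟨x, hx1, hx2, hx3, hx4⟩ := exists_central_mod' hP (N := P₁ ⊓ centralizer (H : Set P))
      (K := Z) (fun h => hne (h.trans inf_le_left))
    let X := (P₁ ⊓ centralizer (H : Set P)) ⊓ centralMod p Z
    have hle : H ⊔ X ≤ centralMod p Z := sup_le h1 inf_le_right
    have hZ' : Z ≤ (H ⊔ X) ⊓ centralizer ((H ⊔ X : Subgroup P) : Set P) := by
      refine le_inf (inf_le_left.trans le_sup_left) ?_
      rw [le_centralizer_iff]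
      exact sup_le (le_centralizer_iff.mp inf_le_right)
        ((inf_le_left.trans inf_le_right).trans (centralizer_le (fun y hy => hy.1)))
    have := hH.le_of_ge ⟨fun α hα => ?_, sup_le hle₁ (inf_le_left.trans inf_le_left),
      fun h hh => ⟨hZ' (hle hh).1, fun g => hZ' ((hle hh).2 g)⟩⟩ (le_sup_left : H ≤ H ⊔ X)
    · exact hx2 ⟨this (mem_sup_right ⟨hx1, hx3, hx4⟩), hx1.2⟩
    · change H ⊔ X ≤ (H ⊔ X).comap α.toMonoidHom
      exact sup_le (fun y hy => mem_sup_left (hc α hα y hy)) fun y hy => mem_sup_right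
        ⟨⟨inv₁ α hα y hy.1.1, invC hc α hα y hy.1.2⟩, centralMod_invariant p α (Z := Z)
          (fun w hw => ⟨hc α hα w hw.1, invC hc α hα w hw.2⟩) y hy.2⟩
  obtain ⟨q, k, hqk, hq, hpq, hqc⟩ : ∃ q k : ℕ, q = p ^ k ∧ (q = p ∨ p = 2 ∧ q = 4) ∧ p ∣ q ∧
      p ∣ q.choose 2 := by
    by_cases h2 : p = 2
    · exact ⟨4, 2, by rw [h2]; rfl, Or.inr ⟨h2, rfl⟩, by rw [h2]; decide, by rw [h2]; decide⟩
    · exact ⟨p, 1, (pow_one p).symm, Or.inl rfl, dvd_rfl, prime_dvd_choose_two hp h2⟩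
  have hcomm : ∀ x ∈ H, ∀ y : P, ∀ z ∈ H, Commute z ⁅x, y⁆ := fun x hx y z hz =>
    ((h1 x hx).2 y).2 z hz
  have hmul : ∀ x ∈ H, ∀ y ∈ H, (x * y) ^ q = x ^ q * y ^ q := fun x hx y hy => by
    obtain ⟨c, hc⟩ := hqc
    rw [mul_pow_class_two (hcomm y hy x x hx) (hcomm y hy x y hy), hc, pow_mul,
      ← comm_pow_left (hcomm y hy x y hy),
      comm_eq_one_iff.mpr (Commute.symm ((h1 y hy).1.2 x hx)), one_pow, mul_one]
  let D : Subgroup P :=
    { carrier := {x | x ∈ H ∧ x ^ q = 1}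
      one_mem' := ⟨one_mem _, one_pow _⟩
      mul_mem' := fun {x y} hx hy => ⟨mul_mem hx.1 hy.1, by
        rw [hmul x hx.1 y hy.1, hx.2, hy.2, one_mul]⟩
      inv_mem' := fun {x} hx => ⟨inv_mem hx.1, by rw [inv_pow, hx.2, inv_one]⟩ }
  have hDH : D ≤ H := fun x hx => hx.1
  have invD : ∀ α ∈ G, ∀ x ∈ D, α x ∈ D := fun α hα x hx =>
    ⟨hc α hα x hx.1, by rw [← map_pow, hx.2, map_one]⟩
  have hDP : ⁅D, (⊤ : Subgroup P)⁆ ≤ D ⊓ centralizer (D : Set P) := by
    rw [commutator_le]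
    intro d hd g _
    refine ⟨⟨((h1 d hd.1).2 g).1, ?_⟩, centralizer_le hDH ((h1 d hd.1).2 g).2⟩
    rw [← comm_pow_left (hcomm d hd.1 g d hd.1), hd.2, commutatorElement_one_left]
  have detect : ∀ α ∈ G, (orderOf α).Coprime p → (∀ d ∈ D, α d = d) → α = 1 := by
    intro α hα ha h
    have hZ := aut_fix_abelian ha (Z := H ⊓ centralizer (H : Set P)) (hP.to_subgroup _)
      (isMulCommutative_iff.mpr fun a ha b hb => hb.2 a ha.1)
      (fun x hx => ⟨hc α hα x hx.1, invC hc α hα x hx.2⟩) (fun x hx hxp => h x ⟨hx.1, by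
        obtain ⟨c, rfl⟩ := hpq
        rw [pow_mul, hxp, one_pow]⟩)
    have hHfix : ∀ x ∈ H, α x = x := fun x hx => by
      have h2 : (x⁻¹ * α x) ^ q = 1 := by
        obtain ⟨c, rfl⟩ := hpq
        rw [hmul _ (inv_mem hx) _ (hc α hα x hx), ← map_pow, pow_mul x, map_pow,
          hZ _ (h1 x hx).1, inv_pow, pow_mul x, inv_mul_cancel]
      exact aut_apply_eq_of_fixed ha (k := k) (h _ ⟨mul_mem (inv_mem hx) (hc α hα x hx), h2⟩)
        (hqk ▸ h2)
    ext x
    refine fix_of_commAut hP ha (K := ⊤) hHfix (fun β hβ x _ => ?_) hself x (mem_top x)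
    rw [hP₁]
    exact subset_closure ⟨⟨β, zpowers_le.mpr hα hβ⟩, subset_closure
      (Nat.Coprime.coprime_dvd_left (by
        rw [← Subgroup.orderOf_coe]; exact orderOf_dvd_of_mem_zpowers hβ) ha), x, rfl⟩
  refine ⟨D, fun α hα => eq_of_le_of_card_ge (by rintro _ ⟨x, hx, rfl⟩; exact invD α hα x hx)
    (card_map_of_injective α.injective).ge, hDH.trans hle₁, fun d hd => ?_, hDP, detect,
    fun A hAD hA hmax => ?_⟩
  · rcases hq with rfl | ⟨h2, rfl⟩
    · exact Or.inl hd.2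
    · exact Or.inr ⟨h2, hd.2⟩
  have hAC : D ⊓ centralizer (A : Set P) ≤ A := fun x hx =>
    hmax _ le_sup_left (sup_le hAD (zpowers_le.mpr hx.1)) (isMulCommutative_sup_zpowers hA hx.2) ▸
      mem_sup_right (mem_zpowers x)
  have hAn : A.Normal := by
    rw [← normalizer_eq_top_iff, eq_top_iff, le_normalizer_iff_commutator_le_left]
    exact (commutator_mono hAD le_rfl).trans
      (hDP.trans ((inf_le_inf_left D (centralizer_le hAD)).trans hAC))
  refine ⟨hAn, fun α hα h => ?_⟩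
  obtain ⟨j, m, hm, hjm⟩ := Nat.exists_eq_pow_mul_and_not_dvd (orderOf_pos α).ne' p hp.ne_one
  have ho : (orderOf (α ^ p ^ j)).Coprime p := by
    refine Nat.Coprime.coprime_dvd_left (orderOf_dvd_of_pow_eq_one (n := m) ?_)
      ((hp.coprime_iff_not_dvd.mpr hm).symm)
    rw [← pow_mul, ← hjm, pow_orderOf_eq_one]
  have h2 := detect _ (pow_mem hα _) ho (fix_of_commAut hP ho (H := A) (L := D) (fun x hx => by
    have := MulAction.mem_fixedBy_zpow (α := P) (g := α) (a := x) (h x hx) ((p ^ j : ℕ) : ℤ)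
    rw [zpow_natCast] at this
    exact this) (fun β hβ x hx =>
      mul_mem (inv_mem hx) (invD β (zpowers_le.mpr (pow_mem hα _) hβ) x hx)) hAC)
  obtain ⟨i, -, hi⟩ := (Nat.dvd_prime_pow hp).mp (orderOf_dvd_of_pow_eq_one h2)
  exact ⟨i, hi⟩

end Cfsg.Agent.S1949
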