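import Cfsg.Statements.S2588
import Cfsg.Agent.H7.Herm

set_option autoImplicit false
open Cfsg

namespace Cfsg.Agent.S2588


/-- An invertible matrix A over the field with q² elements is conjugate in GL_n(q²) to an element of the general unitary group GU_n(q) (isometries of the Hermitian form Σ u_i v_i^q) if and only if A is similar to the inverse transpose of its entrywise q-th power (A ~ A^(−qT), the image of A under the map sending a matrix to the inverse transpose of its entrywise q-th power — inverse transpose composed with the field automorphism — whose fixed points form GU_n(q)). -/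
theorem result {K : Type*} [Field K] [Fintype K] {q n : ℕ} (hK : Fintype.card K = q ^ 2) (A : GL (Fin n) K) : (∃ B : ↥(Cfsg.GU n K q), IsConj A (B : GL (Fin n) K)) ↔ IsConj (A : Matrix (Fin n) (Fin n) K) (((A : Matrix (Fin n) (Fin n) K).map (fun x : K => x ^ q)).transpose)⁻¹ := by
  obtain ⟨σ, hσ, h2⟩ := CfsgH7.exists_qfrob hK
  have e : ∀ M : Matrix (Fin n) (Fin n) K, (M.map (fun x : K => x ^ q)).transpose = CfsgH7.ct σ M := by
    intro M
    ext i j
    simp [CfsgH7.ct_apply, hσ]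
  rw [e]
  constructor
  · rintro ⟨B, hB⟩
    obtain ⟨P, hP⟩ := isConj_iff.1 hB
    have h1 := (CfsgH7.mem_GU_iff hσ _).1 B.2
    rw [← hP, Units.val_mul, Units.val_mul, CfsgH7.ct_mul, CfsgH7.ct_mul] at h1
    have hu := (CfsgH7.isUnit_ct σ P.isUnit).mul P.isUnit
    refine ⟨hu.unit, ?_⟩
    change (CfsgH7.ct σ (P : Matrix (Fin n) (Fin n) K) * (P : Matrix (Fin n) (Fin n) K)) * _ =
      _ * (CfsgH7.ct σ (P : Matrix (Fin n) (Fin n) K) * (P : Matrix (Fin n) (Fin n) K))
    have hA : IsUnit (CfsgH7.ct σ (A : Matrix (Fin n) (Fin n) K)).det :=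
      (Matrix.isUnit_iff_isUnit_det _).1 (CfsgH7.isUnit_ct σ A.isUnit)
    have h3 := congrArg (fun M => (CfsgH7.ct σ (A : Matrix (Fin n) (Fin n) K))⁻¹ *
      (CfsgH7.ct σ (P : Matrix (Fin n) (Fin n) K) * M * (P : Matrix (Fin n) (Fin n) K))) h1
    simp only [← Matrix.mul_assoc, ← CfsgH7.ct_mul, Units.inv_mul, CfsgH7.ct_one, mul_one,
      one_mul] at h3
    rw [← Matrix.mul_assoc, ← h3]
    simp only [Matrix.mul_assoc, Units.inv_mul, mul_one]
    simp only [← Matrix.mul_assoc]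
    rw [CfsgH7.ct_mul, ← Matrix.mul_assoc, Matrix.nonsing_inv_mul _ hA, one_mul]
  · rintro ⟨P, hP⟩
    have hA : IsUnit (CfsgH7.ct σ (A : Matrix (Fin n) (Fin n) K)).det :=
      (Matrix.isUnit_iff_isUnit_det _).1 (CfsgH7.isUnit_ct σ A.isUnit)
    obtain ⟨Q, hQ⟩ := CfsgH7.exists_unitary_of_form h2 A P (by
      rw [Matrix.mul_assoc, hP.eq, ← Matrix.mul_assoc, Matrix.mul_nonsing_inv _ hA, one_mul])
    exact ⟨⟨Q * A * Q⁻¹, (CfsgH7.mem_GU_iff hσ _).2 hQ⟩, isConj_iff.2 ⟨Q, rfl⟩⟩

end Cfsg.Agent.S2588
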