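import Cfsg.Statements.S2622
import Cfsg.Agent.H8.Spinor

set_option autoImplicit false
open Cfsg

namespace Cfsg.Agent.S2622

open Module

universe u v

theorem aux {F : Type u} [Field F] [Finite F] [CharP F 2] (n : ℕ) : ∀ (V : Type v) [AddCommGroup V]
    [Module F V] [FiniteDimensional F V], finrank F V = n → ∀ (B : LinearMap.BilinForm F V),
    B.IsSymm → B.Nondegenerate → (n = 0 ∨ ∃ v : V, B v v ≠ 0) →
    ∃ b : Fin n → V, ∀ i j, B (b i) (b j) = if i = j then 1 else 0 := by
  have h2 : (2 : F) = 0 := CharTwo.two_eq_zero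
  induction n with
  | zero => intro V _ _ _ _ B _ _ _; exact ⟨Fin.elim0, fun i => i.elim0⟩
  | succ n ih =>
    intro V _ _ _ hV B hS hB hna
    obtain ⟨v0, hv0⟩ := hna.resolve_left (by omega)
    have hdim : ∀ v : V, B v v = 1 → finrank F (B.orthogonal (F ∙ v)) = n := fun v hv => by
      rw [LinearMap.BilinForm.finrank_orthogonal hB, finrank_span_singleton (by
        rintro rfl; simp at hv), hV]; simp
    have hmem : ∀ v x : V, x ∈ B.orthogonal (F ∙ v) ↔ B v x = 0 := fun v x => by
      rw [LinearMap.BilinForm.mem_orthogonal_iff]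
      constructor
      · intro h; exact h v (Submodule.mem_span_singleton_self v)
      · intro h y hy
        obtain ⟨c, rfl⟩ := Submodule.mem_span_singleton.1 hy
        simp [h]
    have hnd : ∀ v : V, B v v = 1 → (B.restrict (B.orthogonal (F ∙ v))).Nondegenerate :=
      fun v hv => LinearMap.BilinForm.restrict_nondegenerate_orthogonal_spanSingleton B hB
        hS.isRefl (by simp [hv])
    obtain ⟨v, hv, hv'⟩ : ∃ v : V, B v v = 1 ∧ (n = 0 ∨ ∃ x ∈ B.orthogonal (F ∙ v), B x x ≠ 0) := by
      obtain ⟨a, ha⟩ := CfsgH8.isSquare_of_two_eq_zero h2 (B v0 v0)⁻¹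
      have h1 : B (a • v0) (a • v0) = 1 := by
        simp only [map_smul, LinearMap.smul_apply, smul_eq_mul]
        rw [← mul_assoc, ← ha, inv_mul_cancel₀ hv0]
      set v := a • v0
      by_cases h : n = 0 ∨ ∃ x ∈ B.orthogonal (F ∙ v), B x x ≠ 0
      · exact ⟨v, h1, h⟩
      push Not at h
      have : Nontrivial (B.orthogonal (F ∙ v)) :=
        Module.nontrivial_of_finrank_pos (R := F) (by rw [hdim v h1]; omega)
      obtain ⟨x, hx⟩ := exists_ne (0 : B.orthogonal (F ∙ v))
      obtain ⟨y, hy⟩ : ∃ y : B.orthogonal (F ∙ v), B x y ≠ 0 := by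
        by_contra hc
        push Not at hc
        exact hx ((hnd v h1).1 x hc)
      have hx1 : B v x = 0 := (hmem v x).1 x.2
      have hy1 : B v y = 0 := (hmem v y).1 y.2
      have hx2 : B x v = 0 := by rw [hS.eq, hx1]
      have hy2 : B y v = 0 := by rw [hS.eq, hy1]
      refine ⟨v + x, by simp [h1, hx1, hx2, h.2 x x.2], Or.inr ⟨v + (B x y)⁻¹ • (y : V), ?_, ?_⟩⟩
      · rw [hmem]
        simp [h1, hx2, hy1, hy]
        linear_combination h2
      · simp [h1, hy1, hy2, h.2 y y.2]
    obtain ⟨b, hb⟩ := ih (B.orthogonal (F ∙ v)) (hdim v hv) (B.restrict _) (hS.restrict _) (hnd v hv)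
      (hv'.imp_right fun ⟨x, hx, hx'⟩ => ⟨⟨x, hx⟩, hx'⟩)
    refine ⟨Fin.cons v (fun i => b i), fun i j => ?_⟩
    refine Fin.cases ?_ (fun i => ?_) i <;> refine Fin.cases ?_ (fun j => ?_) j
    · simp [hv]
    · simpa [Fin.succ_ne_zero, (Fin.succ_ne_zero j).symm] using (hmem v _).1 (b j).2
    · rw [hS.eq]; simpa [Fin.succ_ne_zero] using (hmem v _).1 (b i).2
    · simpa using hb i j

/-- Over a finite field of characteristic two, a non-degenerate symmetric bilinear form that is not alternating (some vector v has B(v, v) ≠ 0) admits an orthonormal basis. -/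
theorem result {F V : Type*} [Field F] [Finite F] [CharP F 2] [AddCommGroup V] [Module F V] [FiniteDimensional F V] {n : ℕ} (hV : Module.finrank F V = n) (B : LinearMap.BilinForm F V) (hS : B.IsSymm) (hB : B.Nondegenerate) (hna : ∃ v : V, B v v ≠ 0) : ∃ b : Module.Basis (Fin n) F V, ∀ i j, B (b i) (b j) = if i = j then 1 else 0 := by
  obtain ⟨b, hb⟩ := aux n V hV B hS hB (Or.inr hna)
  have hli : LinearIndependent F b :=
    LinearMap.BilinForm.linearIndependent_of_iIsOrtho (B := B) (fun i j hij => (hb i j).trans (if_neg hij))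
      (fun i => by simp [hb])
  exact ⟨basisOfLinearIndependentOfCardEqFinrank' b hli (by simp [hV]), fun i j => by simpa using hb i j⟩

end Cfsg.Agent.S2622
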