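import Cfsg.Statements.S0214
import Cfsg.Agent.H4.StrEmb

set_option autoImplicit false
open Cfsg

namespace Cfsg.Agent.S0214

open CfsgH4

/-- Let H be a proper subgroup of the finite group G and P a nontrivial Sylow 2-subgroup of H. Then H is strongly embedded in G if and only if N_G(X) ≤ H for every nontrivial subgroup X of P. -/
theorem result {G : Type*} [Group G] [Finite G] (H : Subgroup G) (hH : H ≠ ⊤) (P : Sylow 2 ↥H) (hP : (P : Subgroup ↥H) ≠ ⊥) : Cfsg.IsStronglyEmbedded H ↔ (∀ X : Subgroup ↥H, X ≤ (P : Subgroup ↥H) → X ≠ ⊥ → Subgroup.normalizer ((X.map H.subtype : Subgroup G) : Set G) ≤ H) := by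
  rw [isStronglyEmbedded_iff]
  constructor
  · rintro ⟨-, -, h⟩ X hX hX1 g hg
    obtain ⟨t, ht, h2⟩ := exists_involution_mem_of_isPGroup (P.2.to_le hX) hX1
    refine h g t t.2 (by rw [Subgroup.orderOf_coe, h2]) ?_
    exact Subgroup.map_subtype_le _ ((Subgroup.mem_normalizer_iff''.1 hg t).1 ⟨t, ht, rfl⟩)
  · intro h
    obtain ⟨u, _, hu⟩ := exists_involution_mem_of_isPGroup P.2 hP
    refine ⟨hH, even_card_of_involution_mem u.2 (by rw [Subgroup.orderOf_coe, hu]),
      fun g t ht h3 h4 => ?_⟩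
    refine mem_of_normalizers_le (p := 2) (k := 1) ?_ ht (ne_one_of_orderOf h3)
      (by rw [pow_one, sq, mul_self_of_orderOf h3]) h4
    intro X hXH hX hX1 n hn
    obtain ⟨a, ha⟩ := exists_conj_le_sylow P (H := X.subgroupOf H) hX.comap_subtype
    have h5 := h ((X.subgroupOf H).map (MulAut.conj a).toMonoidHom) (by
      rintro _ ⟨y, hy, rfl⟩
      exact ha y hy) (by
      rw [Ne, Subgroup.map_eq_bot_iff_of_injective _ (MulAut.conj a).injective,
        Subgroup.subgroupOf_eq_bot, disjoint_iff, inf_eq_left.2 hXH]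
      exact hX1)
    have h6 : ((X.subgroupOf H).map (MulAut.conj a).toMonoidHom).map H.subtype =
        X.map (MulAut.conj (a : G)).toMonoidHom := by
      ext y
      constructor
      · rintro ⟨_, ⟨z, hz, rfl⟩, rfl⟩
        exact ⟨z, hz, rfl⟩
      · rintro ⟨z, hz, rfl⟩
        exact ⟨_, ⟨⟨z, hXH hz⟩, hz, rfl⟩, rfl⟩
    rw [h6] at h5
    have h7 : (a : G) * n * (a : G)⁻¹ ∈ H := h5 (Subgroup.le_normalizer_map _ ⟨n, hn, rfl⟩)
    exact (H.mul_mem_cancel_left a.2).1 ((H.mul_mem_cancel_right (H.inv_mem a.2)).1 h7)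

end Cfsg.Agent.S0214
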