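import Cfsg.Statements.S0223
import Cfsg.Agent.H4.StrEmb

set_option autoImplicit false
open Cfsg

namespace Cfsg.Agent.S0223

open CfsgH4

/-- Let H be a proper subgroup of even order of the finite group G. Then H is strongly embedded if and only if (i) C_G(t) ≤ H for every involution t of H and (ii) H controls fusion of its involutions: involutions of H conjugate in G are conjugate in H. -/
theorem result {G : Type*} [Group G] [Finite G] (H : Subgroup G) (hH : H ≠ ⊤) (heven : Even (Nat.card H)) : Cfsg.IsStronglyEmbedded H ↔ ((∀ t ∈ H, orderOf t = 2 → Subgroup.centralizer ({t} : Set G) ≤ H) ∧ (∀ t ∈ H, ∀ s ∈ H, orderOf t = 2 → orderOf s = 2 → IsConj t s → ∃ h ∈ H, h * t * h⁻¹ = s)) := by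
  rw [isStronglyEmbedded_iff]
  constructor
  · rintro ⟨-, -, h⟩
    refine ⟨fun t ht h2 g hg => h g t ht h2 ?_, fun t ht s hs h2 _ h3 => ?_⟩
    · rw [mul_assoc, ← Subgroup.mem_centralizer_singleton_iff.1 hg]; simpa using ht
    · obtain ⟨g, rfl⟩ := isConj_iff.1 h3
      exact ⟨g, by simpa using h g⁻¹ t ht h2 (by simpa using hs), rfl⟩
  · rintro ⟨h1, h2⟩
    refine ⟨hH, heven, fun g t ht h3 h4 => ?_⟩
    have h5 : IsConj t (g⁻¹ * t * g) := isConj_iff.2 ⟨g⁻¹, by simp⟩
    obtain ⟨h, hh, h6⟩ := h2 t ht _ h4 h3 ((orderOf_eq_of_isConj h5).symm.trans h3) h5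
    have : g * h ∈ H := h1 t ht h3 (Subgroup.mem_centralizer_singleton_iff.2 (by
      calc g * h * t = g * (h * t * h⁻¹) * h := by group
        _ = _ := by rw [h6]; group))
    exact (H.mul_mem_cancel_right hh).1 this

end Cfsg.Agent.S0223
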