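import Cfsg.Statements.S0224
import Cfsg.Agent.H4.StrEmb

set_option autoImplicit false
open Cfsg

namespace Cfsg.Agent.S0224

open CfsgH4

/-- Let H be a proper subgroup of even order of the finite group G. Then H is strongly embedded if and only if each involution of H fixes exactly one point (namely the coset H) in the action of G on the cosets of H. -/
theorem result {G : Type*} [Group G] [Finite G] (H : Subgroup G) (hH : H ≠ ⊤) (heven : Even (Nat.card H)) : Cfsg.IsStronglyEmbedded H ↔ ∀ t ∈ H, orderOf t = 2 → Nat.card {c : G ⧸ H // t • c = c} = 1 := by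
  rw [isStronglyEmbedded_iff]
  have key : ∀ t g : G, t • (g : G ⧸ H) = g ↔ g⁻¹ * t * g ∈ H := by
    intro t g
    rw [MulAction.Quotient.smul_coe, smul_eq_mul, eq_comm, QuotientGroup.eq, mul_assoc]
  constructor
  · rintro ⟨-, -, h⟩ t ht h2
    rw [Nat.card_eq_one_iff_exists]
    refine ⟨⟨((1 : G) : G ⧸ H), (key _ _).2 (by simpa using ht)⟩, ?_⟩
    rintro ⟨c, hc⟩
    obtain ⟨g, rfl⟩ := QuotientGroup.mk_surjective c
    apply Subtype.ext
    apply QuotientGroup.eq.2
    simpa using h g t ht h2 ((key _ _).1 hc)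
  · intro h
    refine ⟨hH, heven, fun g t ht h3 h4 => ?_⟩
    obtain ⟨c, hc⟩ := Nat.card_eq_one_iff_exists.1 (h t ht h3)
    have := (hc ⟨((1 : G) : G ⧸ H), (key _ _).2 (by simpa using ht)⟩).trans
      (hc ⟨g, (key _ _).2 h4⟩).symm
    simpa using QuotientGroup.eq.1 (congrArg Subtype.val this)

end Cfsg.Agent.S0224
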