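import Cfsg.Statements.S0448
import Cfsg.Agent.H9.J1Top

set_option autoImplicit false
open Cfsg

namespace Cfsg.Agent.S0448

/-- Janko's first group: a finite simple group with a 2-central involution whose centraliser is isomorphic to (cyclic of order 2) × (alternating group of degree 5) has order 175560. -/
theorem result {G : Type*} [Group G] [Finite G] [IsSimpleGroup G] (t : G) (ht : Cfsg.IsTwoCentralInvolution t) (e : Subgroup.centralizer ({t} : Set G) ≃* Multiplicative (ZMod 2) × alternatingGroup (Fin 5)) : Cfsg.IsJ1 G := by
  obtain ⟨i⟩ := CfsgH9.J1.iso_of_centralizer ht e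
  exact ⟨inferInstance, (Nat.card_congr i.toEquiv).trans CfsgH9.J1.simple_JJ.2⟩

end Cfsg.Agent.S0448
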