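import Cfsg.Statements.S0457
import Cfsg.Agent.H6.J1

set_option autoImplicit false
open Cfsg

namespace Cfsg.Agent.S0457

open CfsgH6 CfsgH6.J1 in
theorem a1 : mcode 24 7 Cfsg.jankoMatrixX = R 1 := by decide +kernel
open CfsgH6 CfsgH6.J1 in
theorem a2 : mcode 24 7 Cfsg.jankoMatrixY = R 2 := by decide +kernel

/-- The subgroup of GL(7, 11) generated by the two explicit Janko matrices is simple of order 175560. -/
theorem result : ∃ x y : GL (Fin 7) (ZMod 11), (x : Matrix (Fin 7) (Fin 7) (ZMod 11)) = Cfsg.jankoMatrixX ∧ (y : Matrix (Fin 7) (Fin 7) (ZMod 11)) = Cfsg.jankoMatrixY ∧ Cfsg.IsJ1 (Subgroup.closure ({x, y} : Set (GL (Fin 7) (ZMod 11)))) := by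
  obtain ⟨x, -, hx⟩ := CfsgH6.J1.S0_m0.get (i := 1) (by decide +kernel)
  obtain ⟨y, -, hy⟩ := CfsgH6.J1.S0_m0.get (i := 2) (by decide +kernel)
  exact ⟨x, y, (CfsgH6.PP.mc CfsgH6.J1.P_ok).inj (hx.trans a1.symm),
    (CfsgH6.PP.mc CfsgH6.J1.P_ok).inj (hy.trans a2.symm), CfsgH6.J1.main _ _ hx hy⟩

end Cfsg.Agent.S0457
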