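import Cfsg.Statements.S1554
import Cfsg.Agent.S1553

set_option autoImplicit false
open scoped Pointwise
open Cfsg

namespace Cfsg.Agent.S1554

open CfsgH5 MulAction

/-- chain of the pointwise stabiliser -/
noncomputable def cA : List Level :=
  [⟨4, [0xbb4c93ae2453ac893e8c9d4b018820, 0xbb1f3a4232ab916218ed4a8ab18820, 0xb99b28523343aaa4b16f258a718820, 0xbc92655a2c3b9706cea47d0a818820], 0x7dbfd0,
    ap 120 0xffffffffffffffffffffffffffffff 0xb926faa22da3a0b6255231cb618820bcc8cb2a265b8f47c9096c0b518820bbd8459e29b39559b606920b418820bd6cb22627638cfa224a834b318820ba1474922b3398d85676a3cb218820000000000000000000000000000000bb4c93ae2453ac893e8c9d4b018820bd17661a2a23933ac1a7448af18820000000000000000000000000000000bc0ea332364b892451ebaccad18820bae957b6289ba44b1cd0524ac18820bb1f3a4232ab916218ed4a8ab18820ba64d4562f83a87312d362caa18820ba91094e346b9e63d8955b0a918820bc92655a2c3b9706cea47d0a818820b99b28523343aaa4b16f258a718820b9e086be3593a6952d94b10a618820000000000000000000000000000000bdab49ca307b9ac5a928398a418820000000000000000000000000000000000000000000000000000000000000000000000000000000000000000000000000000000000000000000000000,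
    ap 2 3 0x3e90cf7bb000, ap 3 7 0xdb4814122d1300000⟩]

theorem semireg {o : Finset GolayPt} (ho : o ∈ octads) {p : GolayPt} (hp : p ∉ o) {x : M24}
    (h1 : ∀ a ∈ o, x • a = a) (h2 : x • p = p) : x = 1 := by
  obtain ⟨g, e1, e2⟩ := trans1_Sup (p := p) (p' := pt 4) ho.1 oct0_mem.1 (ho.2.trans oct0_mem.2.symm)
    (iff_of_false hp (by decide +kernel))
  have := eq_one_of_fix_base (g * x * g⁻¹) fun a ha => by
    have : a ∈ ts oct0 ∨ a = pt 4 := by revert a; decide +kernel
    rcases this with h | rfl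
    · exact (mem_fixingSubgroup_iff _).1 ((conj_mem_fixing g x o).1 ((mem_fixingSubgroup_iff _).2 h1))
        a (by rwa [e2])
    · rw [← e1, mul_smul, inv_smul_smul, mul_smul, h2]
  simpa using this

theorem transA {o : Finset GolayPt} (ho : o ∈ octads) {p q : GolayPt} (hp : p ∉ o) (hq : q ∉ o) :
    ∃ x : M24, (∀ a ∈ o, x • a = a) ∧ x • q = p := by
  obtain ⟨g, e1, e2⟩ := trans1_Sup (p := p) (p' := pt 4) ho.1 oct0_mem.1 (ho.2.trans oct0_mem.2.symm)
    (iff_of_false hp (by decide +kernel))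
  obtain ⟨k, hk, e⟩ := move_of_chain (c := cA) (H := Fix [0, 1, 2, 3, 5, 14, 17, 23] []) (valid_Fix (by decide +kernel))
    (by decide +kernel) (by norm_num) rfl (a := g • q) (by
      have : g • q ∉ ts oct0 := by rwa [← e2, smul_mem_smul_iffM]
      revert this; generalize g • q = a; revert a; decide +kernel)
  refine ⟨g⁻¹ * k * g, fun a ha => ?_, by rw [conj_smul_eq, e, e1]⟩
  rw [conj_smul_eq]
  have : g • a ∈ ts oct0 := by rwa [← e2, smul_mem_smul_iffM]
  rw [← pt_pn (g • a)]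
  exact hk.1 _ (by revert this; generalize g • a = a; revert a; decide +kernel)

/-- An octad stabiliser is a split extension: the joint stabiliser of the octad and a point outside it is a complement to the pointwise stabiliser of the octad, and is isomorphic to the alternating group of degree 8. -/
theorem result (o : Finset Cfsg.GolayPt) (ho : o ∈ Cfsg.octads) (p : Cfsg.GolayPt) (hp : p ∉ o) : (Cfsg.M24 ⊓ fixingSubgroup (Equiv.Perm Cfsg.GolayPt) (o : Set Cfsg.GolayPt)) ⊓ (Cfsg.M24 ⊓ MulAction.stabilizer (Equiv.Perm Cfsg.GolayPt) o ⊓ MulAction.stabilizer (Equiv.Perm Cfsg.GolayPt) p) = ⊥ ∧ (Cfsg.M24 ⊓ fixingSubgroup (Equiv.Perm Cfsg.GolayPt) (o : Set Cfsg.GolayPt)) ⊔ (Cfsg.M24 ⊓ MulAction.stabilizer (Equiv.Perm Cfsg.GolayPt) o ⊓ MulAction.stabilizer (Equiv.Perm Cfsg.GolayPt) p) = (Cfsg.M24 ⊓ MulAction.stabilizer (Equiv.Perm Cfsg.GolayPt) o) ∧ Nonempty (↥(Cfsg.M24 ⊓ MulAction.stabilizer (Equiv.Perm Cfsg.GolayPt) o ⊓ MulAction.stabilizer (Equiv.Perm Cfsg.GolayPt)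 p) ≃* alternatingGroup (Fin 8)) := by
  refine ⟨?_, ?_, ?_⟩
  · rw [eq_bot_iff]
    rintro x ⟨⟨h1, h2⟩, -, h3⟩
    exact congrArg Subtype.val (semireg ho hp (x := ⟨x, h1⟩) ((mem_fixingSubgroup_iff _).1 h2) h3)
  · apply le_antisymm (sup_le (inf_le_inf_left _ (fixing_le_stab o)) inf_le_left)
    rintro x ⟨h1, h2⟩
    obtain ⟨a, ha, e⟩ := transA ho hp (q := x p) (by rwa [← stab_mem_iff ⟨x, h2⟩] at hp)
    have ha' : (a : Equiv.Perm GolayPt) ∈ M24 ⊓ fixingSubgroup (Equiv.Perm GolayPt) (o : Set GolayPt) :=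
      ⟨a.2, (mem_fixingSubgroup_iff _).2 ha⟩
    rw [← Subgroup.mul_mem_cancel_left _ (Subgroup.mem_sup_left ha')]
    exact Subgroup.mem_sup_right ⟨⟨M24.mul_mem a.2 h1, Subgroup.mul_mem _ (fixing_le_stab o ha'.2) h2⟩, e⟩
  · let B := M24 ⊓ stabilizer (Equiv.Perm GolayPt) o ⊓ stabilizer (Equiv.Perm GolayPt) p
    let ψ : B →* Equiv.Perm o := (stabHom (Equiv.Perm GolayPt) o).comp
      (Subgroup.inclusion (inf_le_left.trans inf_le_right))
    have hinj : Function.Injective ψ := by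
      rw [injective_iff_map_eq_one]
      intro x hx
      have := semireg ho hp (x := ⟨x, x.2.1.1⟩) ((mem_ker_stabHom _).1 hx) x.2.2
      exact Subtype.ext (congrArg (fun y : M24 => (y : Equiv.Perm GolayPt)) this)
    have hr : ψ.range = alternatingGroup o := by
      rw [← S1553.range_eq ho]
      apply le_antisymm
      · rintro _ ⟨x, rfl⟩
        exact ⟨⟨⟨x, x.2.1.1⟩, x.2.1.2⟩, rfl⟩
      · rintro _ ⟨x, rfl⟩
        obtain ⟨a, ha, e⟩ := transA ho hp (q := x.1 • p) (by rwa [← stab_mem_iff x] at hp)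
        refine ⟨⟨(a * x.1 : M24), ⟨(a * x.1).2, ?_⟩, e⟩, ?_⟩
        · exact (stabilizer M24 o).mul_mem (fixing_le_stab o ((mem_fixingSubgroup_iff _).2 ha)) x.2
        · exact Equiv.ext fun y => Subtype.ext (ha _ ((stab_mem_iff x _).2 y.2))
    have e : o ≃ Fin 8 := Fintype.equivFinOfCardEq (by rw [Fintype.card_coe, ho.2])
    exact ⟨(MonoidHom.ofInjective hinj).trans ((MulEquiv.subgroupCongr hr).trans e.altCongrHom)⟩

end Cfsg.Agent.S1554
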