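import Cfsg.Statements.S1586
import Cfsg.Agent.H5.Graph
import Cfsg.Agent.H5.Steiner

set_option autoImplicit false
open Cfsg

namespace Cfsg.Agent.S1586

open CfsgH5 MulAction
open scoped Pointwise

set_option linter.constructorNameAsVariable false
set_option linter.unusedSectionVars false

noncomputable section

variable {α : Type*} [Fintype α] [DecidableEq α] {B : Set (Finset α)}

theorem inter_cases (hα : Fintype.card α = 22) (hB : IsSteinerSystem 3 6 B) {b c : Finset α}
    (hb : b ∈ B) (hc : c ∈ B) : (b ∩ c).card = 0 ∨ (b ∩ c).card = 2 ∨ (b ∩ c).card = 6 := by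
  have l3 : ∀ s : Finset α, s.card = 3 → lam B s = 1 := fun s hs => lam_top hB hs
  have l2 : ∀ s : Finset α, s.card = 2 → lam B s = 5 := fun s hs => by
    have := lam_step hB.1 s (by rwa [hs]); rw [hs, hα] at this; omega
  have l1 : ∀ s : Finset α, s.card = 1 → lam B s = 21 := fun s hs => by
    have := lam_step hB.1 s (by rwa [hs]); rw [hs, hα] at this; omega
  have l0 : ∀ s : Finset α, s.card = 0 → lam B s = 77 := fun s hs => by
    have := lam_step hB.1 s (by rwa [hs]); rw [hs, hα] at this; omega
  have h6 := hB.1 b hb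
  have l4 : ∀ s ⊆ b, 3 ≤ s.card → lam B s = 1 := fun s hs h3 => by
    obtain ⟨t, ht, h⟩ := Finset.exists_subset_card_eq h3
    rw [lam, Finset.card_eq_one]
    refine ⟨b, ?_⟩
    ext c
    simp only [Finset.mem_filter, mem_blocks, Finset.mem_singleton]
    exact ⟨fun k => (hB.2 t h).unique ⟨k.1, ht.trans k.2⟩ ⟨hb, ht.trans hs⟩,
      fun k => by rw [k]; exact ⟨hb, hs⟩⟩
  have key := nmeet_eq (B := B) (b := b) (fun i => [77, 21, 5, 1, 1, 1, 1].getD i 0)
    (fun i => [16, 0, 4, 0, 0, 0, 1].getD i 0) (fun s hs => by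
      have := Finset.card_le_card hs
      rw [h6] at this
      interval_cases h : s.card
      exacts [l0 s h, l1 s h, l2 s h, l3 s h, l4 s hs (by omega), l4 s hs (by omega),
        l4 s hs (by omega)]) (by rw [h6]; decide)
  have h1 := key (b ∩ c) Finset.inter_subset_left
  have h2 : 0 < nmeet B b (b ∩ c) := Finset.card_pos.2 ⟨c, by simp [mem_blocks, hc]⟩
  have h3 := Finset.card_le_card (Finset.inter_subset_left : b ∩ c ⊆ b)
  rw [h1] at h2
  rw [h6] at h3
  interval_cases (b ∩ c).card <;> simp at h2 ⊢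

/-- numbering -/
abbrev E : Enc (Fin 22) 22 := Enc.fin 22

theorem card_pop (s : Finset (Fin 22)) : s.card = pop24 (E.mask s) := by
  rw [E.card_eq_popc, pop24_eq, popc_eq, popc_eq]
  congr 1
  ext j
  simp only [Finset.mem_filter, Finset.mem_range, E.testBit_mask]
  exact ⟨fun h => ⟨by omega, h.2⟩, fun h => ⟨h.2.1, h.2⟩⟩

/-- the labelled sets in `P` are blocks -/
def Good (B : Set (Finset α)) (e : Fin 22 ≃ α) (P : List ℕ) : Prop :=
  ∀ m ∈ P, m < 2 ^ 22 ∧ (E.toSet m).map e.toEmbedding ∈ B

/-- the set with three given points added -/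
def tri (t x y z : ℕ) : ℕ :=
  Nat.lor t (Nat.lor (Nat.shiftLeft 1 x) (Nat.lor (Nat.shiftLeft 1 y) (Nat.shiftLeft 1 z)))

/-- a test on all sets `t ∪ {x, y, z}` -/
def allTri (t : ℕ) (f : ℕ → Bool) : Bool :=
  allLt 22 fun x => allLt x fun y => allLt y fun z => force (tri t x y z) f

theorem allTri_sound {t : Finset (Fin 22)} {f : ℕ → Bool} (h : allTri (E.mask t) f = true)
    {s : Finset (Fin 22)} (hs : s.card = 3) : f (E.mask (t ∪ s)) = true := by
  have key : ∀ x y z : Fin 22, z < y → y < x → f (E.mask (t ∪ {x, y, z})) = true := by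
    intro x y z h1 h2
    have := (allLt_iff _ _).1 ((allLt_iff _ _).1 ((allLt_iff _ _).1 h x x.2) y h2) z h1
    rwa [E.mask_union, E.mask_insert, E.mask_insert, E.mask_singleton, ← force_eq _ f]
  obtain ⟨x, y, z, h1, h2, h3, rfl⟩ := Finset.card_eq_three.1 hs
  rcases lt_or_gt_of_ne h1 with k1 | k1 <;> rcases lt_or_gt_of_ne h2 with k2 | k2 <;>
    rcases lt_or_gt_of_ne h3 with k3 | k3
  · convert key z y x k1 k3 using 3; ext; simp; tauto
  · convert key y z x k2 k3 using 3; ext; simp; tauto
  · exact absurd (k1.trans k3) k2.asymm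
  · convert key y x z k2 k1 using 3; ext; simp; tauto
  · convert key z x y k1 k2 using 3; ext; simp; tauto
  · exact absurd (k3.trans k1) k2.asymm
  · convert key x z y k3 k2 using 3; ext; simp; tauto
  · exact key x y z k3 k1

/-- the checks for one step -/
def stepChk (P : List ℕ) (t : ℕ) (gs : List ℕ) (r : ℕ) : Bool :=
  band (Nat.blt t 4194304) <| band (Nat.beq (pop24 t) 3) <|
  band (allL gs fun g => band (isPerm 5 31 22 g) (force (pinv 5 31 22 g) fun h =>
    allL P fun m => force (pact 5 31 22 h m) (memL P))) <|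
  allTri t fun c => bimp (Nat.beq (pop24 c) 6) <|
    bimp (allL P fun m => force (pop24 (Nat.land c m)) (tb 69)) <|
      bor (Nat.beq c r) (anyL gs fun g => force (pact 5 31 22 g c) fun d =>
        band (Nat.blt d c) (Nat.beq (Nat.land t d) t))

theorem map_smul (e : Fin 22 ≃ α) (σ : Equiv.Perm (Fin 22)) (s : Finset (Fin 22)) :
    s.map (σ.trans e).toEmbedding = (σ • s).map e.toEmbedding := by
  ext a
  simp [Finset.mem_smul_finset, Finset.mem_map, Equiv.eq_symm_apply]

theorem step_sound (hα : Fintype.card α = 22) (hB : IsSteinerSystem 3 6 B) {P gs : List ℕ} {t r : ℕ}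
    (h : stepChk P t gs r = true) (hP : ∃ e, Good B e P) : ∃ e, Good B e (r :: P) := by
  simp only [stepChk, band_eq, Bool.and_eq_true, blt_true_iff, beq_true_iff, allL_iff, force_eq,
    memL_iff] at h
  obtain ⟨h1, h2, h3, h4⟩ := h
  obtain ⟨t, rfl⟩ : ∃ s, E.mask s = t := ⟨_, E.mask_toSet h1⟩
  rw [← card_pop] at h2
  have key : ∀ n, ∀ s : Finset (Fin 22), E.mask s < n → t ⊆ s → ∀ e, Good B e P →
      s.map e.toEmbedding ∈ B → ∃ e, Good B e (r :: P) := by
    intro n
    induction n with
    | zero => intro s hs; omega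
    | succ n ih =>
      intro s hs hts e he hsB
      have h6 : s.card = 6 := by rw [← hB.1 _ hsB, Finset.card_map]
      have := allTri_sound h4 (s := s \ t) (by rw [Finset.card_sdiff_of_subset hts, h6, h2])
      rw [Finset.union_sdiff_of_subset hts] at this
      simp only [bimp_eq, bor_eq, Bool.or_eq_true, Bool.not_eq_true', anyL_iff, band_eq, force_eq,
        Bool.and_eq_true, blt_true_iff, beq_true_iff, ← card_pop, h6] at this
      rcases this with h5 | h5 | h5 | ⟨g, hg, h5, h7⟩
      · cases h5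
      · refine absurd ((allL_iff _ _).2 fun m hm => ?_) (by rw [h5]; simp)
        have := inter_cases hα hB hsB (he m hm).2
        rw [← Finset.map_inter, Finset.card_map, card_pop, E.mask_inter, E.mask_toSet (he m hm).1] at this
        rcases this with k | k | k <;> rw [k] <;> rfl
      · refine ⟨e, fun m hm => ?_⟩
        rcases List.mem_cons.1 hm with rfl | hm
        · rw [← h5, E.toSet_mask]; exact ⟨E.mask_lt s, hsB⟩
        · exact he m hm
      · obtain ⟨σ, rfl⟩ := E.exists_of_isPerm (by norm_num) (by norm_num) (h3 g hg).1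
        rw [← E.mask_smul (by norm_num) (by norm_num)] at h5 h7
        refine ih (σ • s) (by omega) ((E.subset_iff_mask _ _).2 h7) (σ⁻¹.trans e) (fun m hm => ?_)
          (by rwa [map_smul, inv_smul_smul])
        have := (h3 _ hg).2 m hm
        rw [← show E.pcode 5 σ⁻¹ = pinv 5 31 22 (E.pcode 5 σ) from E.pcode_inv (by norm_num) σ,
          ← E.mask_toSet (he m hm).1, ← E.mask_smul (by norm_num) (by norm_num)] at this
        refine ⟨(he m hm).1, ?_⟩
        rw [map_smul, ← E.toSet_mask (σ⁻¹ • _)]
        exact (he _ this).2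
  obtain ⟨e, he⟩ := hP
  obtain ⟨c, ⟨hc, htc⟩, -⟩ := hB.2 (t.map e.toEmbedding) (by rw [Finset.card_map, h2])
  have e1 : (c.map e.symm.toEmbedding).map e.toEmbedding = c := by simp [Finset.map_map]
  exact key _ (c.map e.symm.toEmbedding) (Nat.lt_succ_self _)
    (Finset.map_subset_map.1 (e1.symm ▸ htc)) e he (e1.symm ▸ hc)

/-- the checks for all steps -/
def stepsChk (L : List (ℕ × List ℕ × ℕ)) : List ℕ → Bool :=
  List.rec (motive := fun _ => List ℕ → Bool) (fun _ => true)
    (fun x _ ih P => band (stepChk P x.1 x.2.1 x.2.2) (ih (x.2.2 :: P))) L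

theorem steps_sound (hα : Fintype.card α = 22) (hB : IsSteinerSystem 3 6 B)
    (L : List (ℕ × List ℕ × ℕ)) {P : List ℕ} (h : stepsChk L P = true) (hP : ∃ e, Good B e P) :
    ∃ e, Good B e (L.foldl (fun P x => x.2.2 :: P) P) := by
  induction L generalizing P with
  | nil => exact hP
  | cons x L ih =>
    have h' : band (stepChk P x.1 x.2.1 x.2.2) (stepsChk L (x.2.2 :: P)) = true := h
    rw [band_eq, Bool.and_eq_true] at h'
    exact ih h'.2 (step_sound hα hB h'.1 hP)

/-- the search -/
def steps : List (ℕ × List ℕ × ℕ) :=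
  [(0x7, [0x2b49ca307b9ac5a928398a320820, 0x2b49ca307b9ac5a9283988518820, 0x2b49ca307b9ac5a928394c418820, 0x2b49ca307b9ac5a92831ca418820, 0x2b49ca307b9ac5a927418a418820, 0x2b49ca307b9ac5a909398a418820, 0x2b49ca307b9ac5a548398a418820, 0x2b49ca307b9ac52d28398a418820, 0x2b49ca307b9ab62928398a418820, 0x2b49ca307b98d5a928398a418820, 0x2b49ca307b5cc5a928398a418820, 0x2b49ca3073dac5a928398a418820, 0x2b49ca2f839ac5a928398a418820, 0x2b49ca117b9ac5a928398a418820, 0x2b49c6507b9ac5a928398a418820, 0x2b494e307b9ac5a928398a418820, 0x2b3a4a307b9ac5a928398a418820, 0x2959ca307b9ac5a928398a418820], 0x3f),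
   (0x43, [0x2b49ca307b9ac5a927418a418820, 0x2b49ca307b9ac5a909398a418820, 0x2b49ca307b9ac5a548398a418820, 0x2b49ca307b9ac52d28398a418820, 0x2b49ca307b9ab62928398a418820, 0x2b49ca307b98d5a928398a418820, 0x2b49ca307b5cc5a928398a418820, 0x2b49ca3073dac5a928398a418820, 0x2b49ca2f839ac5a928398a418820, 0x2b49ca117b9ac5a928398a418820, 0x2b49c6507b9ac5a928398a418820, 0x2b494e307b9ac5a928398a418820, 0x2b3a4a307b9ac5a928398a418820, 0x2959ca307b9ac5a928398a418820], 0x3c3),
   (0x403, [0x2b49ca307b9ab62928398a418820, 0x2b49ca307b98d5a928398a418820, 0x2b49ca307b5cc5a928398a418820, 0x2b49ca3073dac5a928398a418820, 0x2b49ca2f839ac5a928398a418820, 0x2b49ca117b9ac5a928398a418820, 0x2b49c6507b9ac5a928398a418820, 0x2b494e307b9ac5a928398a418820, 0x2b3a4a307b9ac5a928398a418820, 0x2959ca307b9ac5a928398a418820], 0x3c03),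
   (0x4003, [0x2b49ca2f839ac5a928398a418820, 0x2b49ca117b9ac5a928398a418820, 0x2b49c6507b9ac5a928398a418820, 0x2b494e307b9ac5a928398a418820, 0x2b3a4a307b9ac5a928398a418820, 0x2959ca307b9ac5a928398a418820], 0x3c003),
   (0x40003, [], 0x3c0003),
   (0x45, [0x2b49ca307b9ac52d28398a418820, 0x2b49ca307b9ab62928398a418820, 0x2b49ca307b98d5a928398a418820, 0x2b49ca3073dac5a928398a418820, 0x2b49ca2f839ac5a928398a418820, 0x2b49ca117b9ac5a928398a418820, 0x2b494e307b9ac5a928398a418820, 0x2b3a4a307b9ac5a928398a418820, 0x2959ca307b9ac5a928398a418820], 0x44445),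
   (0x85, [0x2b49ca307b9ab62928398a418820, 0x2b49ca307b98d5a928398a418820, 0x2b49ca2f839ac5a928398a418820, 0x2b49ca117b9ac5a928398a418820, 0x2b3a4a307b9ac5a928398a418820, 0x2959ca307b9ac5a928398a418820], 0x88885),
   (0x105, [0x2b49ca307b98d5a928398a418820, 0x2b49ca117b9ac5a928398a418820, 0x2959ca307b9ac5a928398a418820], 0x111105),
   (0x205, [], 0x222205),
   (0x49, [0x2959ca117b98d5a909398a418820, 0x2b3a4a2f839ab62927418a418820], 0x92049),
   (0x40081, [], 0x61089),
   (0x901, [], 0x204909),
   (0x209, [], 0x108609),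
   (0x51, [0x22f83ab3a49ab62927418a418820], 0x120851),
   (0x91, [], 0x210491),
   (0x111, [], 0x4a111),
   (0x211, [], 0x85211),
   (0x61, [], 0x209061),
   (0xa1, [], 0x1060a1),
   (0x121, [], 0xa0521),
   (0x221, [], 0x50a21),
   (0x46, [0x293aca0f8b98b6a9074988328820], 0xa1046),
   (0x86, [], 0x52086),
   (0x106, [], 0x208506),
   (0x206, [], 0x104a06),
   (0x4a, [], 0x4884a),
   (0x8a, [], 0x8448a),
   (0x10a, [], 0x12210a),
   (0x20a, [], 0x21120a),
   (0x52, [], 0x206052),
   (0x92, [], 0x109092),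
   (0x112, [], 0x90912),
   (0x212, [], 0x60612),
   (0x62, [], 0x110462),
   (0xa2, [], 0x2208a2),
   (0x122, [], 0x45122),
   (0x222, [], 0x8a222),
   (0x4c, [], 0x3000cc),
   (0x10c, [], 0xc030c),
   (0x40c, [], 0x30c0c),
   (0x100c, [], 0xf00c),
   (0x54, [], 0x18254),
   (0x94, [], 0x24194),
   (0x414, [], 0x182414),
   (0x814, [], 0x241814),
   (0x64, [], 0x2964),
   (0xa4, [], 0x16a4),
   (0x4024, [], 0x294024),
   (0x8024, [], 0x168024),
   (0x58, [], 0x1558),
   (0x98, [], 0x2a98),
   (0x4018, [], 0x154018),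
   (0x8018, [], 0x2a8018),
   (0x68, [], 0x24268),
   (0xa8, [], 0x181a8),
   (0x428, [], 0x242428),
   (0x828, [], 0x181828),
   (0x70, [], 0xc00f0),
   (0x130, [], 0x300330),
   (0x430, [], 0xcc30),
   (0x1030, [], 0x33030),
   (0x4c0, [], 0x2a4c0),
   (0x8c0, [], 0x158c0),
   (0x4140, [], 0x18c140),
   (0x10140, [], 0x270140),
   (0x640, [], 0x280e40),
   (0x1240, [], 0x143240),
   (0x580, [], 0x140d80),
   (0x1180, [], 0x283180),
   (0x4280, [], 0x24c280),
   (0x10280, [], 0x1b0280),
   (0x700, [], 0x16700),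
   (0xb00, [], 0x29b00),
   (0x5400, [], 0x325400),
   (0x9400, [], 0xd9400),
   (0x6800, [], 0xe6800),
   (0xa800, [], 0x31a800)]

/-- the blocks -/
def blk (k : ℕ) : ℕ := ap 22 4194303 0x3f000f0c03c030f000fc0003111114888854444162220524812461089812425086094821461049112844485211824185060a128148450a212841185208682141904a061221288448a48842a1120a818149090922424486061244118a208a21144888a222c00330c030c0c30300f00c060950241946090524181400a590016a4a500916802400556002a98550062a80180909a0181a89090a1818283003c3003300330c0330300a9300158c063050270140a039014324050360283180930a01b0280059c0029b00c95000d940039a0031a800 k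

theorem exists_label (hα : Fintype.card α = 22) (hB : IsSteinerSystem 3 6 B) :
    ∃ e : Fin 22 ≃ α, (∀ k, k < 77 → (E.toSet (blk k)).map e.toEmbedding ∈ B) ∧
      ∀ c ∈ B, ∃ k, k < 77 ∧ (E.toSet (blk k)).map e.toEmbedding = c := by
  obtain ⟨e, he⟩ := steps_sound hα hB steps (P := []) (by decide +kernel)
    ⟨(Fintype.equivFinOfCardEq hα).symm, by simp [Good]⟩
  have h1 : ∀ k, k < 77 → (E.toSet (blk k)).map e.toEmbedding ∈ B := fun k hk =>
    (he _ ((memL_iff _ _).1 ((allLt_iff 77 fun k => memL (steps.foldl (fun P x => x.2.2 :: P) [])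
      (blk k)).1 (by decide +kernel) k hk))).2
  refine ⟨e, h1, fun c hc => ?_⟩
  have e1 : (c.map e.symm.toEmbedding).map e.toEmbedding = c := by simp [Finset.map_map]
  obtain ⟨s, hs, h3⟩ := Finset.exists_subset_card_eq (s := c.map e.symm.toEmbedding) (n := 3)
    (by rw [Finset.card_map, hB.1 c hc]; norm_num)
  have := allTri_sound (t := ∅) (f := fun c => anyLt 77 fun k => Nat.beq (Nat.land c (blk k)) c)
    (by rw [E.mask_empty]; decide +kernel) h3
  rw [Finset.empty_union, anyLt_iff] at this
  obtain ⟨k, hk, h4⟩ := this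
  rw [beq_true_iff, ← E.mask_toSet (m := blk k) (ap_lt 22 _ _), ← E.subset_iff_mask] at h4
  exact ⟨k, hk, (hB.2 (s.map e.toEmbedding) (by rw [Finset.card_map, h3])).unique
    ⟨h1 k hk, Finset.map_subset_map.2 h4⟩ ⟨hc, e1 ▸ Finset.map_subset_map.2 hs⟩⟩

/-- adjacency masks -/
def adj : ℕ → ℕ := tab16 100 0xfffffffffffffffffffffffff
  [0x8904a0a10460450a8254000008a08505208508a0982a8000009060910a044a1086148c000009090620508452045147000000910a046090861049284c00000920508906089208a28b000000a04444444521121033c000000a088888889122110ccc000000a1111111121111230f0000000a222222222222223f00000000c0003c003c03c3fc000000000c003c003c03c3c3c000000000c03c003c03c03fc0000000000c3c003c003ffc000000000000fc0003fffc000000000000000fffffc0000000000000000000,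
   0x4860620604608604000140d804a06046060a04a0800028318050a20a08a08a204400024c2805208a0a2084620880001b0280451222211204446000001670046211112220888a0000029b006120852085221120000325400604a104a121212100000d940060852085222121100000e680062104a104911222000031a8008449208612048490662400000848610492208485099240000085204a1085088460a5180000086108520490448a05a180000088520a085090460641680000088a10504a0a08905419400000,
   0x31402a801403000224415401832801540280300011882a801815818181800c00000c142426816424242400c00003028181a829824241803000018142424282a4181824030000242818182818cc00cc00c0000000e4c00f01b30033000c00003001b0033024f0030c0300000055000cc30270c00f003000000aa0033030448844448904885000002a4c044448888450844900000158c0505105045085108400018c14051045051044910480002701404890910908504904000280e404909089090908508000143240,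
   0x167000002a81402210445122029b00000294280148208a2221800cc00cc00000c00db000cc180330033000000f0024c030c2400f0030c000030960030c0c24030c00f000003069000f00c14181818180000c00c281825414242424240000c0301424194281824241800030142418241428241818240003028182418140c15401540000c000330029640c2a802a80000c00c00c016a4301680294000300218429402430294016800030012481680240d4015401400c000030c015580e802a802800c000c03002a98,
   0x167026418011204a05210000029b02582402842050a21000d9400000019980a84a1046000e680000002658a060520860032540000001a65110a085060031a800000025a6441104a0600c158000019801405a04884a00c2a4000026401450448448a030164000025802922112210a03029800001a402a880a1120a01940c000181414009520605202680c0001828280608909092025430000241428212209091201a83000024281418404606120158c0000154140006491046202a4c000016828009092208a2,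
   0x30f30f03c003c0030000000000f3330f00c3c00030000000d940015540544444450000000e68002a9450a08888500000032540016aa22091110500000031a8002969881222205000000c1581540180a6092049000000c2a42a8018a0846108900000301642940261112049090000030298168025440908609000001940d418180069120851000002680d424240904a10491000002543281824121204a111000001a83282418248048521100000158c1981800098a09061000002a4c1a424006051060a1,
   0x3fffff0000000000000003fffc0003f0000000000cccccc003c003c3000000000330cf30c30003c03]

/-- the relation on numbers -/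
def rel (i j : ℕ) : Bool :=
  if i = 99 then decide (j < 22) else if i < 22 then decide (22 ≤ j ∧ j < 99) && (blk (j - 22)).testBit i
  else decide (22 ≤ j ∧ j < 99) && decide (Nat.land (blk (i - 22)) (blk (j - 22)) = 0)

theorem adj_eq : ∀ i < 100, ∀ j < 100, (adj i).testBit j = (rel i j || rel j i) := by decide +kernel

theorem adj_inj : ∀ i < 100, ∀ j < 100, adj i = adj j → i = j := by decide +kernel

theorem adj_irr : ∀ i < 100, (adj i).testBit i = false := by decide +kernel

/-- first generator -/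
def paH : ℕ := 0xeb6fb9c42270c7774ac994c93d5ac3612f2704a59b4cdf0a753692e25453458c2cb846af27d70284da21eacd235441fc7400011950c69c30d801982c16f09b72db0e22dd661c6e0e1d4896050b12182968f6e4ca910f9e

/-- second generator -/
def pbH : ℕ := 0x96cf15c70ef1bdb4da63478ea5396ed66db65760545d5e42c0c52192189ef8d9e2632b3a7a2a82c86f514465f113601f8b3012087460e2618f0a4e0ac39893a640d253e16829a42acaa9c216af4c3ce242e05858aa55002

theorem paH_perm : isPerm 7 127 100 paH = true := by decide +kernel

theorem pbH_perm : isPerm 7 127 100 pbH = true := by decide +kernel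

theorem forestH : ptForest (permOps 7 127 100) [paH, pbH] (fun _ => 0)
    (ap 1 1 0xda992496cbfa55828f7731e4a)
    (ap 4 15 0x388576446558767778735566288876524766677666667a777547217751456535869575557344764547626473676587578360) = true := by decide +kernel

/-- strong generators -/
def lowH : List Level :=
  [⟨0, [0xeb6fb9c42270c7774ac994c93d5ac3612f2704a59b4cdf0a753692e25453458c2cb846af27d70284da21eacd235441fc7400011950c69c30d801982c16f09b72db0e22dd661c6e0e1d4896050b12182968f6e4ca910f9e,
     0x96cf15c70ef1bdb4da63478ea5396ed66db65760545d5e42c0c52192189ef8d9e2632b3a7a2a82c86f514465f113601f8b3012087460e2618f0a4e0ac39893a640d253e16829a42acaa9c216af4c3ce242e05858aa55002],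
    0xfffffffffffffffffffffffff, id,
    ap 4 15 0x42031001102203818045631322837004035543542162254126017880769815385061376455768154619241184825502220,
    ap 3 7 0x6e492491c92592391a4db71a6db8e36e38db6da45365269a6dc6db6d36db69a69b6db51b6d8⟩,
   ⟨1, [0xc3729e29d6705aa33ec54a18eadfa56eb5dbd5c7147cd584c52b0ab9150e48c22f129e80d0d039a4884b08862384870f9d90f42a39436113400a3b18a2cda27ea20c61eb5b064ec9d3712b8b17300443b54cd32b0ebcc80,
     0xc74714f9d42dd8c14ae56bf4ed57bd52ed9c355a2a7e9992c7c9d9ab80a1aad82a5d443461b463c666b148825ae2c75cc94695ec54485e3b9929c378f217b08708d9f385c70d0e5048b244098a222020106083151e30280],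
    0x3ffffffffffffffffffe, id,
    ap 3 7 0x2693ea701497a09be54602a028a846eb2cb843d2d28ff5399001eec640,
    ap 3 7 0x1d9238e34e39248db8dc6e46e37234db4d26e26d36dc69b6a28514db4c0⟩,
   ⟨2, [0xbf831dec586d56af6e7d3a53ac5cbb66ad1a1523cb951a13e7f0e6c991320448b04d1b0c1ddba0814c96244cb98285532706092a4102592e5ae0e223a8dcac66bc50c16355b76ca90a03c7d8346ac480e1e45e287aa4080,
     0xc787062bd7e94ead6add79f4e8d5bb66c5ca94234a84f9fc3971e6c983162409130d1b50f102172b5a3038758b54688f1f70b122552f5b2a306533a4eecb966ead72f66c888f2038a94244c1030a1068a16303861024080],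
    0x3ffffffffffffffc, id,
    ap 3 7 0x1334ca490424dc408721b0b011adc62901888b50a648200,
    ap 3 7 0x2491c8e36e26d385b69a6da7136dc69389b4cb6d3724800⟩,
   ⟨6, [0xc58ef60c37eedbb57284e9f46cd7ad62a52a75664a97360bf7d024468f262c385119b26ad1ebc74edbb670e55aa5ab14a84e997ae62c088f16304880e1868a2038a132a4901f4278c982e591233a70da44a682030a08080,
     0xc58ef61c17ee5abb6e8cfa13aad3a94ac56b35e6cb992a03e82fe2428b0e4c791199336ad1b3772e1ebc74ed4a84e9952b58b572f60c4710102450d182c307223ca94244d09e3e80e9c4688b96306529a486c1840a08080],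
    0x3fffffffc0, id,
    ap 2 3 0x33586e14d860921c000,
    ap 3 7 0x1c72444b49b6e269391c4db800000⟩,
   ⟨11, [0xc78b0dec17eedab96ead2a94e8cea13ecd6b15e6ca992e2c2890e0be80fe4c6911dcb86cddab464cdebc76e94a84e998b05eb96ac56a90214a911233a70d9a3e78c17325880f223860b1a28a132a4840712181850808080,
     0xc78b0debf82edbb96a8cfa13aad3a94acd7b15a6cb992a0bf80fa2c3890a4c79119ab464cdcb86cddebc74ed4a84e996ac56a98b05eb912348950213e78d9a3a70b98325868b182888f2038a93284848710181840a08080],
    0x31a800, id,
    ap 1 1 0x108000,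
    ap 2 3 0x90188000000⟩]

/-- words for the strong generators -/
def slpH : List (ℕ × ℕ) :=
  [(0xc3729e29d6705aa33ec54a18eadfa56eb5dbd5c7147cd584c52b0ab9150e48c22f129e80d0d039a4884b08862384870f9d90f42a39436113400a3b18a2cda27ea20c61eb5b064ec9d3712b8b17300443b54cd32b0ebcc80, 0x4210802100430), (0xc74714f9d42dd8c14ae56bf4ed57bd52ed9c355a2a7e9992c7c9d9ab80a1aad82a5d443461b463c666b148825ae2c75cc94695ec54485e3b9929c378f217b08708d9f385c70d0e5048b244098a222020106083151e30280, 0x18c211), (0xbf831dec586d56af6e7d3a53ac5cbb66ad1a1523cb951a13e7f0e6c991320448b04d1b0c1ddba0814c96244cb98285532706092a4102592e5ae0e223a8dcac66bc50c16355b76ca90a03c7d8346ac480e1e45e287aa4080, 0x20982409c042), (0xc787062bd7e94ead6add79f4e8d5bb66c5ca94234a84f9fc3971e6c983162409130d1b50f102172b5a3038758b54688f1f70b122552f5b2a306533a4eecb966ead72f66c888f2038a94244c1030a1068a16303861024080, 0x2218c42), (0xc58ef60c37eedbb57284e9f46cd7ad62a52a75664a97360bf7d024468f262c385119b26ad1ebc74edbb670e55aa5ab14a84e997ae62c088f16304880e1868a2038a132a4901f4278c982e591233a70da44a682030a08080,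 0x24194a599495), (0xc58ef61c17ee5abb6e8cfa13aad3a94ac56b35e6cb992a03e82fe2428b0e4c791199336ad1b3772e1ebc74ed4a84e9952b58b572f60c4710102450d182c307223ca94244d09e3e80e9c4688b96306529a486c1840a08080, 0x4741c8d4), (0xc78b0dec17eedab96ead2a94e8cea13ecd6b15e6ca992e2c2890e0be80fe4c6911dcb86cddab464cdebc76e94a84e998b05eb96ac56a90214a911233a70d9a3e78c17325880f223860b1a28a132a4840712181850808080, 0x4072c20391487), (0xc78b0debf82edbb96a8cfa13aad3a94acd7b15a6cb992a0bf80fa2c3890a4c79119ab464cdcb86cddebc74ed4a84e996ac56a98b05eb912348950213e78d9a3a70b98325868b182888f2038a93284848710181840a08080, 0x90d83d486)]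

theorem slpH_chk : band (slpChk (permOps 7 127 100) slpH [paH, pbH])
    (allL (gens lowH) (memL ([paH, pbH] ++ slpH.map Prod.fst))) = true := by decide +kernel

theorem lowH_chk : lowC (permOps 7 127 100) lowH = true := by decide +kernel

theorem lowH_ord : ordC (permOps 7 127 100) lowH = 88704000 := by decide +kernel

/-- the permutation group -/
def AH : Subgroup (Equiv.Perm (Fin 100)) :=
  (PC 100 7 127 (by norm_num) (by norm_num)).grp [paH, pbH]

theorem validH : ∀ s ∈ [paH, pbH], (PC 100 7 127 (by norm_num) (by norm_num)).In ⊤ s :=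
  PC_valid _ _ (by
    simp only [allL_iff, List.mem_cons, List.not_mem_nil, or_false, forall_eq_or_imp, forall_eq]
    exact ⟨paH_perm, pbH_perm⟩)

theorem le_cardH : 88704000 ≤ Nat.card AH :=
  lowH_ord ▸ Codes.low_slp _ validH slpH_chk lowH_chk

theorem card_autG : Nat.card (autG 100 adj 0) = 88704000 :=
  le_antisymm ((card_autG_le adj [99, 0, 1, 2, 98, 6, 77, 93, 97, 22, 3, 38, 39, 40, 41, 60, 61, 72, 73, 88, 89, 7, 18, 19, 25, 26, 27, 76, 92, 94, 4, 5, 42, 43, 44, 45, 46, 47, 48, 49, 50, 51, 52, 53, 54, 55, 56, 57, 62, 63, 64, 65, 66, 67, 68, 69, 78, 79, 80, 81, 82, 83, 84, 85, 8, 9, 10, 11, 12, 13, 14, 15, 16, 17, 20, 21, 23, 24, 28, 29, 30, 31, 32, 33, 34, 35, 36, 37, 58, 59, 70, 71, 74, 75, 86, 87, 90, 91, 95, 96]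
      (by decide +kernel) 0 (by simp) (fun i hi => Or.inr (by revert i; decide +kernel))).trans
      (by decide +kernel))
    (le_cardH.trans (Subgroup.card_le_of_le (grp_le_autG _ _ adj validH (by decide +kernel))))

end

/-- The Higman–Sims graph built from an S(3, 6, 22) has exactly 88704000 automorphisms. -/
theorem result {α : Type*} [Fintype α] [DecidableEq α] (hα : Fintype.card α = 22) {B : Set (Finset α)} (hB : Cfsg.IsSteinerSystem 3 6 B) : Nat.card (Cfsg.pointBlockGraph B ≃g Cfsg.pointBlockGraph B) = 88704000 := by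
  obtain ⟨e, h1, h2⟩ := exists_label hα hB
  let V : Fin 100 → Option (α ⊕ B) := fun i =>
    if h : i.1 = 99 then none else if h' : i.1 < 22 then some (Sum.inl (e ⟨i, h'⟩))
    else some (Sum.inr ⟨_, h1 (i - 22) (by omega)⟩)
  have hr : ∀ i j, pointBlockRel B (V i) (V j) ↔ rel i j = true := by
    intro i j
    have := j.2
    by_cases a1 : i.1 = 99 <;> by_cases a2 : i.1 < 22 <;> by_cases b1 : j.1 = 99 <;>
      by_cases b2 : j.1 < 22 <;> simp only [V, rel, a1, a2, b1, b2, dite_true, dite_false, if_true,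
        if_false, pointBlockRel] <;> try simp <;> try omega
    · exact ⟨fun h => ⟨by omega, h⟩, fun h => h.2⟩
    · rw [E.disjoint_iff_mask, E.mask_toSet (m := blk _) (ap_lt 22 _ _),
        E.mask_toSet (m := blk _) (ap_lt 22 _ _)]
      exact ⟨fun h => ⟨by omega, h⟩, fun h => h.2⟩
  have hs : ∀ i j, pointBlockRel B (V i) (V j) ∨ pointBlockRel B (V j) (V i) ↔
      (adj i).testBit j = true := fun i j => by
    rw [hr, hr, adj_eq i i.2 j j.2, Bool.or_eq_true]
  have hinj : Function.Injective V := fun i j h => Fin.ext (adj_inj i i.2 j j.2 (by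
    have h3 : ∀ i, adj i < 2 ^ 100 := fun i => ap_lt 100 _ _
    refine Nat.eq_of_testBit_eq fun k => ?_
    by_cases hk : k < 100
    · rw [Bool.eq_iff_iff, ← hs i ⟨k, hk⟩, ← hs j ⟨k, hk⟩, h]
    · rw [Nat.testBit_lt_two_pow ((h3 i).trans_le (Nat.pow_le_pow_right (by norm_num) (by omega))),
        Nat.testBit_lt_two_pow ((h3 j).trans_le (Nat.pow_le_pow_right (by norm_num) (by omega)))]))
  have hsurj : Function.Surjective V := by
    rintro (_ | a | ⟨c, hc⟩)
    · exact ⟨99, rfl⟩
    · have := (e.symm a).2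
      exact ⟨⟨e.symm a, by omega⟩, by simp [V, this, show (e.symm a).1 ≠ 99 by omega]⟩
    · obtain ⟨k, hk, rfl⟩ := h2 c hc
      exact ⟨⟨k + 22, by omega⟩, by simp [V, show k ≠ 77 by omega]⟩
  have hb : Function.Bijective V := ⟨hinj, hsurj⟩
  rw [card_aut_eq _ (Equiv.ofBijective V hb) adj fun a b => ?_, card_autG]
  show (pointBlockGraph B).Adj (V a) (V b) ↔ _
  rw [pointBlockGraph, SimpleGraph.fromRel_adj, hs]
  refine ⟨fun h => h.2, fun h => ⟨fun h' => ?_, h⟩⟩
  rw [hinj h', adj_irr b b.2] at h
  cases h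

end Cfsg.Agent.S1586
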