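import Cfsg.Statements.S1599
import Cfsg.Agent.H5.M12
import Cfsg.Agent.H5.Str

set_option autoImplicit false
open scoped Pointwise
open Cfsg

namespace Cfsg.Agent.S1599

open CfsgH5 MulAction

/-- orbit labels -/
noncomputable def cl : ℕ → ℕ := (ap 3 7 0xa00a0880886012636880920110002410190094420512482496012492c00092092490092514132482414892d12490482002492482482492122992400182090482492492c0000049240080090441248288688)

/-- images under the generators -/
noncomputable def img (s k : ℕ) : ℕ := bif' (Nat.beq s 0x7d26b28222ab870b9c8c506c69250d) ((ap 8 255 0xc9aa8765043ab006caa4528b1fd834183900af935528c58eadb92dab8cd477028a33456c13d3cf080e2e9c83c095034f7fa55d7d6a4db1ce1467d28153d5c8966e577b1ec3aeda4329055b1b0c41ba2376218061a6247151a94a982fa35c941ca08912c6be860f26326978b401a238736ba1cdd1d9cba772355e31846d68ac3cb2b610d69f483f639a4064709e829b171d88c785274c11bda816662b3707b53015bb74360b3d8f60d71a6f193e9d7a4b2a629109b8c459bfd07e3b255fb35449920ab78d5a4458db22bc79507599cc2c7c475620c142900d97c24e46)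 k) (bif' (Nat.beq s 0x7ceae5b143b520d29e46892e848440) ((ap 8 255 0xaf3d4944d31927128d7778705ac29d3a66db58686967c59726be9eb533cea402b695a10724230d146f6c6d6ed750ad523c4c5351d4d5d642aa4b45434a403fae4e473e4f41ab464daca9a848b339ca36383b0e2ab2b1b00cc82b1a1bcf251c2d37c70f2911c916cbc6351e218f5559627975837a7374bc93a2282eb8b7922c9c991f150091010a0b807c7d7e827190133205099a94b4bd061db9c3c1cd3120188b7f8e8c888a898576818486877b64725461d92f60035ca5c0badad0cc569f575e635f10086b30221765d8046a5dbb5b9834d1a3a6d2a096c4a79bbf) k) (bif' (Nat.beq s 0x2be955ca26b39a49a9093c2ec18440) ((ap 8 255 0xab9c9ba118215d444c652a24386a5133c4177f5b0b48c5cbc37980148b160645150d121a5c466d59a09395aca3a5adb0db969ea8a4a2aea7afa6d8b39fa991dad99a989997aab194b2929d901d390476bf5807016e2328694f310ec1c9197d551e3ec256428c7541476009254a87b50a6bce842b4d26d2342c524e723d40d5b7c800b48a57787c0c5362cd20836167d3356f37c673b6bcd44377745e1c7a5f133a3b8ecf491f4b64cc2782222d292f6368d12e85326670d08630d650367b8f3f1bb87ed7cabebbc03cb902080f81ba54c76c711089bd058d0311885a)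 k) (bif' (Nat.beq s 0xbae957b6289ba44b1cd0524ac18820) ((ap 8 255 0xa3aea2a417d62e0204d2723d8c6a5e5a4118c94f3e47c57403161c143679bcbd15b6777150ba8630a0ac9593abdaadb2afaa9d92a19b9cd8dbd9a7b39f91a9a5a69a99989796b190b0a89e944a8e4ccf1f3a494b87b50a685b547b3f7f701b2f810bbe32b9380fc448d1b87e1d6e23286bce2b844d2665626164632a24cd292083cc223b53272d82573440b7c82c678d888f8973c60d06110512cb5180c7d010588a397607bf015200780cb47cd5554e69605d6c5666195f6d59215c8b0e6fc17d0925cad7c2bbc00842443c751e46317a851a13374543d3c3d43533) k) (0))))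

theorem htr : ∀ k, k < 220 → ∃ g ∈ HQ, g • fam (qTab k) = fam (qTab (nthD [0, 1, 2, 3, 197] 0 (cl k))) :=
  tab_orbits qTab_ok (S := [0xa1675b0e2475c4859c01531ed4c246, 0xbd4b4710ec7ada09c52850ec111a50])
    (fun s hs => in_Fix_fam quart0_ok (by revert s; decide +kernel))
    (rt := fun k => nthD [0, 1, 2, 3, 197] 0 (cl k)) (nx := (ap 8 255 0xcf3884a7bbd09a11b1bd63c086062bda97227e7d914ec566666532004c45791604ae42a9598c3b3c0b487035aad6c4b87e9573b2be877f02d62eb948d10c014c68720aac8eb53c613168a0811ac48b36b1227a0c82a5d98fb09d019ec0bb640b996cbea8a4d7bd392da03ebf2ac7259212166c810e03a49bb22a6e29ca1c27db37c93b5927091e0e6e57a914a22e1d0d6751889d8faf02129b06ad092872b7bf7f96c314299c697b95437dae5d43924fa669738228add7b5138cd30d2307c1473e07b4862479a30436d4451544a8000a781a555890775d208e757c1f)) (gen := (ap 1 1 0xca65d4c44da3cbf13c799b6a0c2ee0b4eb3ac09502422c1d174e120)) (dep := (ap 4 15 0x6674536365525467576657022361324545575645735774386664343146636713356945587342537567673486821825577535265454647674555261244777885787455756767576827882681544474564363574686565654856634465667274776465645454266516656633630000))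
    (by decide +kernel)

theorem cases_cl : ∀ k, k < 220 → k = 197 ∨ cl k = cl 3 ∨ cl k = cl 2 ∨ cl k = cl 0 ∨ cl k = cl 1 := by
  have : (allLt 220 fun k => decide (k = 197 ∨ cl k = cl 3 ∨ cl k = cl 2 ∨ cl k = cl 0 ∨ cl k = cl 1)) = true := by decide +kernel
  intro k hk
  simpa using (allLt_iff _ _).1 this k hk

theorem std : (orbit ↥HQ (fam (qTab 3))).ncard = 12 ∧ (orbit ↥HQ (fam (qTab 2))).ncard = 27 ∧ (orbit ↥HQ (fam (qTab 0))).ncard = 72 ∧ (orbit ↥HQ (fam (qTab 1))).ncard = 108 ∧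
    quartets (ts dod0) = {fam quart0} ∪ orbit ↥HQ (fam (qTab 3)) ∪ orbit ↥HQ (fam (qTab 2)) ∪ orbit ↥HQ (fam (qTab 0)) ∪ orbit ↥HQ (fam (qTab 1)) := by
  have pk := fun k0 hk0 => tab_orbit_pack2 qTab_ok grp_chQ (img := img) (cl := cl)
    (by decide +kernel) htr (k0 := k0) hk0
  refine ⟨?_, ?_, ?_, ?_, ?_⟩
  · rw [(pk 3 (by norm_num)).2]; decide +kernel
  · rw [(pk 2 (by norm_num)).2]; decide +kernel
  · rw [(pk 0 (by norm_num)).2]; decide +kernel
  · rw [(pk 1 (by norm_num)).2]; decide +kernel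
  · ext x
    simp only [Set.mem_union, Set.mem_singleton_iff, (pk 3 (by norm_num)).1, (pk 2 (by norm_num)).1, (pk 0 (by norm_num)).1, (pk 1 (by norm_num)).1, qTab_complete]
    constructor
    · rintro ⟨k, hk, rfl⟩
      rcases cases_cl k hk with rfl | h | h | h | h
      · exact Or.inl (Or.inl (Or.inl (Or.inl (by rw [qTab_base]))))
      · exact Or.inl (Or.inl (Or.inl (Or.inr ⟨k, hk, h, rfl⟩)))
      · exact Or.inl (Or.inl (Or.inr ⟨k, hk, h, rfl⟩))
      · exact Or.inl (Or.inr ⟨k, hk, h, rfl⟩)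
      · exact Or.inr ⟨k, hk, h, rfl⟩
    · rintro ((((rfl | ⟨k, hk, -, rfl⟩) | ⟨k, hk, -, rfl⟩) | ⟨k, hk, -, rfl⟩) | ⟨k, hk, -, rfl⟩)
      · exact ⟨197, by norm_num, by rw [qTab_base]⟩
      all_goals exact ⟨k, hk, rfl⟩

/-- A quartet stabiliser has five orbits on the quartets of its dodecad, of sizes 1, 12, 27, 72, 108. -/
theorem result (d : Finset Cfsg.GolayPt) (hd : d ∈ Cfsg.dodecads) (Q : Finset (Finset Cfsg.GolayPt)) (hQ : Q ∈ Cfsg.quartets d) : ∃ X₁ ∈ Cfsg.quartets d, ∃ X₂ ∈ Cfsg.quartets d, ∃ X₃ ∈ Cfsg.quartets d, ∃ X₄ ∈ Cfsg.quartets d, (MulAction.orbit ↥(MulAction.stabilizer Cfsg.M24 d ⊓ MulAction.stabilizer Cfsg.M24 Q) X₁).ncard = 12 ∧ (MulAction.orbit ↥(MulAction.stabilizer Cfsg.M24 d ⊓ MulAction.stabilizer Cfsg.M24 Q) X₂).ncard = 27 ∧ (MulAction.orbit ↥(MulAction.stabilizer Cfsg.M24 d ⊓ MulAction.stabilizer Cfsg.M24 Q) X₃).ncard = 72 ∧ (MulAction.orbit ↥(MulAction.stabilizer Cfsg.M24 d ⊓ MulAction.stabilizer Cfsg.M24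 Q) X₄).ncard = 108 ∧ Cfsg.quartets d = {Q} ∪ MulAction.orbit ↥(MulAction.stabilizer Cfsg.M24 d ⊓ MulAction.stabilizer Cfsg.M24 Q) X₁ ∪ MulAction.orbit ↥(MulAction.stabilizer Cfsg.M24 d ⊓ MulAction.stabilizer Cfsg.M24 Q) X₂ ∪ MulAction.orbit ↥(MulAction.stabilizer Cfsg.M24 d ⊓ MulAction.stabilizer Cfsg.M24 Q) X₃ ∪ MulAction.orbit ↥(MulAction.stabilizer Cfsg.M24 d ⊓ MulAction.stabilizer Cfsg.M24 Q) X₄ := by
  obtain ⟨g', e1, e2⟩ := trans_quart0 hd hQ
  set g := g'⁻¹ with hg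
  have f1 : g • ts dod0 = d := by rw [← e1]; exact inv_smul_smul g' d
  have f2 : g • fam quart0 = Q := by rw [← e2]; exact inv_smul_smul g' Q
  obtain ⟨h0, h1, h2, h3, hu⟩ := std
  have oc := fun y : Finset (Finset GolayPt) => orbit_conj g (conj_HQ f1 f2) y
  refine ⟨g • fam (qTab 3), f1 ▸ smul_mem_quartets g (qTab_mem 3 (by norm_num)), g • fam (qTab 2), f1 ▸ smul_mem_quartets g (qTab_mem 2 (by norm_num)), g • fam (qTab 0), f1 ▸ smul_mem_quartets g (qTab_mem 0 (by norm_num)), g • fam (qTab 1), f1 ▸ smul_mem_quartets g (qTab_mem 1 (by norm_num)),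
    by rw [oc, Set.ncard_smul_set, h0], by rw [oc, Set.ncard_smul_set, h1], by rw [oc, Set.ncard_smul_set, h2], by rw [oc, Set.ncard_smul_set, h3], ?_⟩
  rw [oc, oc, oc, oc, ← f2, ← Set.smul_set_singleton, ← Set.smul_set_union, ← Set.smul_set_union, ← Set.smul_set_union, ← Set.smul_set_union, ← hu,
    smul_quartets, f1]

end Cfsg.Agent.S1599
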