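import Cfsg.Statements.S1600
import Cfsg.Agent.H5.M12
import Cfsg.Agent.H5.Str

set_option autoImplicit false
open scoped Pointwise
open Cfsg

namespace Cfsg.Agent.S1600

open CfsgH5 MulAction

/-- a chain based at a point outside the dodecad -/
noncomputable def cE : List Level :=
  [⟨5, [0x2cd51b1a84b9e4c7b86daa16980820, 0xa3ad78b4a652c83abd329b0e880820], 0xfacca0,
    ap 120 0xffffffffffffffffffffffffffffff 0x2cd51b1a84b9e4c7b86daa16980820994f1ba1c4b29237d190a9972688208a8b372566a3e4d3d988b8eb02082089e65a496873d3055c66b32ad20820badd4290ec7d510b292d88e7230820000000000000000000000000000000a3ad78b4a652c83abd329b0e8808200000000000000000000000000000005d9d49a2292d4ccb9e12535e3208208aa6fa22f2a96093ac8db31c6188200000000000000000000000000000000000000000000000000000000000007ccf1b36835a90c2d48674af04882075177531e68d909a94709b4e490820000000000000000000000000000000000000000000000000000000000000a55773a26355a4673d242c22d60820000000000000000000000000000000bdab49ca307b9ac5a928398a418820000000000000000000000000000000000000000000000000000000000000000000000000000000000000000000000000000000000000000000000000000000000000000000000000000000,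
    ap 2 3 0x2d4410204000, ap 3 7 0x29a408500680600000⟩,
   ⟨3, [0xb5dd4799509d4895c5833c8ad40820], 0x10108,
    ap 120 0xffffffffffffffffffffffffffffff 0xb2e8e991437d4cdb9e508b0a940820000000000000000000000000000000000000000000000000000000000000000000000000000000000000000000000000000000000000000000000000000000000000000000000000000000000000000000000000000000000000000000000000000000000000000000b5dd4799509d4895c5833c8ad40820000000000000000000000000000000000000000000000000000000000000000000000000000000000000000000000000000000000000000000000000bdab49ca307b9ac5a928398a418820000000000000000000000000000000000000000000000000000000000000000000000000000000000000000000,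
    ap 1 1 0x10000, ap 2 3 0x200010000⟩,
   ⟨4, [0xbae957b6289ba44b1cd0524ac18820], 0x1010,
    ap 120 0xffffffffffffffffffffffffffffff 0xbae957b6289ba44b1cd0524ac18820000000000000000000000000000000000000000000000000000000000000000000000000000000000000000000000000000000000000000000000000000000000000000000000000000000000000000000000000000000000000000000000000000000000000000000bdab49ca307b9ac5a928398a418820000000000000000000000000000000000000000000000000000000000000000000000000000000000000000000000000000000000000000000000000,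
    ap 1 1 0x0, ap 1 1 0x1000⟩]

theorem mv {a : GolayPt} (ha : a ∉ ts dod0) : ∃ g ∈ Fix [0, 1, 2] [dod0], g • a = pt 5 :=
  move_of_chain (c := cE) (valid_Fix (by decide +kernel)) (by decide +kernel) (by norm_num) rfl
    (by revert ha; revert a; decide +kernel)

theorem card_std : Nat.card (Fix [0, 1, 2] [dod0]) = 72 := by
  have := grp_drop_Fix chD_valid' chD_check grp_chD 3 (P' := [0, 1, 2]) rfl (by decide)
  rw [List.append_nil] at this
  rw [← this, CM.card_grp (CM.valid_drop chD_valid' 3) (check_drop chD_check 3)]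
  decide +kernel

/-- The pointwise stabiliser of three points of a dodecad inside the dodecad stabiliser (order 72) is transitive on the complementary dodecad. -/
theorem result (d : Finset Cfsg.GolayPt) (hd : d ∈ Cfsg.dodecads) (p q r : Cfsg.GolayPt) (hp : p ∈ d) (hq : q ∈ d) (hr : r ∈ d) (hpq : p ≠ q) (hpr : p ≠ r) (hqr : q ≠ r) : Nat.card ↥(MulAction.stabilizer Cfsg.M24 d ⊓ MulAction.stabilizer Cfsg.M24 p ⊓ MulAction.stabilizer Cfsg.M24 q ⊓ MulAction.stabilizer Cfsg.M24 r) = 72 ∧ ∀ x ∉ d, ∀ y ∉ d, ∃ g ∈ (MulAction.stabilizer Cfsg.M24 d ⊓ MulAction.stabilizer Cfsg.M24 p ⊓ MulAction.stabilizer Cfsg.M24 q ⊓ MulAction.stabilizer Cfsg.M24 r), ((g : ↥Cfsg.M24) : Equiv.Perm Cfsg.GolayPt) x = y := by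
  obtain ⟨g0, e0⟩ := trans_dodecads hd dod0_mem
  have m : ∀ v ∈ d, g0 • v ∈ ts dod0 := fun v hv => by rw [← e0, smul_mem_smul_iffM]; exact hv
  have n : ∀ v w : GolayPt, v ≠ w → g0 • v ≠ g0 • w := fun v w h e => h (smul_left_cancel g0 e)
  obtain ⟨g1, hg1, e1, e2, e3⟩ := transD3 (m p hp) (m q hq) (m r hr) (n _ _ hpq) (n _ _ hpr) (n _ _ hqr)
  rw [← mul_smul] at e1 e2 e3
  have ed : (g1 * g0) • d = ts dod0 := by rw [mul_smul, e0, hg1.2 dod0 (by simp)]
  generalize g1 * g0 = g at e1 e2 e3 ed
  have key : ∀ x : M24, x ∈ stabilizer M24 d ⊓ stabilizer M24 p ⊓ stabilizer M24 q ⊓ stabilizer M24 r ↔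
      g * x * g⁻¹ ∈ Fix [0, 1, 2] [dod0] := fun x => by
    simp only [Subgroup.mem_inf, mem_Fix, List.forall_mem_cons, List.not_mem_nil, ← e1, ← e2, ← e3,
      ← ed, ← mem_stabilizer_iff, conj_mem_stabilizer]
    tauto
  refine ⟨by rw [Nat.card_congr (conjEquiv g key).toEquiv, card_std], fun x hx y hy => ?_⟩
  obtain ⟨a, ha, ea⟩ := mv (a := g • x) (by rw [← ed, smul_mem_smul_iffM]; exact hx)
  obtain ⟨b, hb, eb⟩ := mv (a := g • y) (by rw [← ed, smul_mem_smul_iffM]; exact hy)
  refine ⟨g⁻¹ * (b⁻¹ * a) * g, (key _).2 ?_, ?_⟩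
  · simpa [mul_assoc] using Subgroup.mul_mem _ (Subgroup.inv_mem _ hb) ha
  · show (g⁻¹ * (b⁻¹ * a) * g) • x = y
    rw [mul_smul, mul_smul, mul_smul, ea, ← eb, inv_smul_smul, inv_smul_smul]

end Cfsg.Agent.S1600
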