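import Cfsg.Statements.S1617
import Cfsg.Agent.H4.PTr

set_option autoImplicit false
open Cfsg

namespace Cfsg.Agent.S1617

/-- A generating conjugacy class of involutions on which the group (with trivial solvable radical) acts with rank 3 is a class of 3-transpositions. -/
theorem result {G : Type*} [Group G] [Finite G] (hsol : ∀ N : Subgroup G, N.Normal → Group.IsSolvable ↥N → N = ⊥) {D : Set G} (hinv : ∀ d ∈ D, orderOf d = 2) (hconj : ∃ d ∈ D, D = conjugatesOf d) (hgen : Subgroup.closure D = ⊤) (hrank : ∀ x ∈ D, ∃ y ∈ D, ∃ z ∈ D, {w : G | ∃ g : G, Commute g x ∧ g * y * g⁻¹ = w} ≠ {w : G | ∃ g : G, Commute g x ∧ g * x * g⁻¹ = w} ∧ {w : G | ∃ g : G, Commute g x ∧ g * z * g⁻¹ = w} ≠ {w : G | ∃ g : G, Commute g x ∧ g * x * g⁻¹ = w} ∧ {w : G | ∃ g : G, Commute g x ∧ g * y * g⁻¹ = w} ≠ {w : G | ∃ g : G, Commute g x ∧ g * z * g⁻¹ = w} ∧ D = {w : G | ∃ g : G, Commute g x ∧ g * x * g⁻¹ = w}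 ∪ {w : G | ∃ g : G, Commute g x ∧ g * y * g⁻¹ = w} ∪ {w : G | ∃ g : G, Commute g x ∧ g * z * g⁻¹ = w}) : Cfsg.IsThreeTranspositionClass D := by
  obtain ⟨d, hd, hD⟩ := hconj
  have cl0 : ∀ a, a ∈ D ↔ IsConj d a := fun a => by rw [hD]; rfl
  have cj : ∀ g, ∀ a ∈ D, g * a * g⁻¹ ∈ D := fun g a ha =>
    (cl0 _).2 (((cl0 a).1 ha).trans (isConj_iff.2 ⟨g, rfl⟩))
  have cl : ∀ a ∈ D, ∀ b ∈ D, IsConj a b := fun a ha b hb => ((cl0 a).1 ha).symm.trans ((cl0 b).1 hb)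
  obtain ⟨w, hw, dw, n⟩ := CfsgH4.exists_comm_conj hsol (hinv d hd)
  have wD := (cl0 w).2 hw
  have key : ∃ m, ∀ e ∈ D, d * e ≠ e * d → orderOf (d * e) = m := by
    have k : ∀ y z : G, (∃ g : G, Commute g d ∧ g * y * g⁻¹ = w) → ∀ e, d * e ≠ e * d →
        ((∃ g : G, Commute g d ∧ g * d * g⁻¹ = e) ∨ (∃ g : G, Commute g d ∧ g * y * g⁻¹ = e) ∨
          ∃ g : G, Commute g d ∧ g * z * g⁻¹ = e) → orderOf (d * e) = orderOf (d * z) := by
      rintro y z ⟨g, gd, rfl⟩ e de (⟨k, kd, rfl⟩ | ⟨k, kd, rfl⟩ | ⟨k, kd, rfl⟩)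
      · exact absurd ((kd.symm.mul_right (Commute.refl d)).mul_right kd.symm.inv_right) de
      · have := ((gd.symm.inv_right.mul_right dw).mul_right gd.symm)
        rw [show g⁻¹ * (g * y * g⁻¹) * g = y by group] at this
        exact absurd ((kd.symm.mul_right this).mul_right kd.symm.inv_right) de
      · rw [show d * (k * z * k⁻¹) = k * (d * z) * k⁻¹ by
          rw [← mul_assoc, ← mul_assoc, ← kd.eq]; group]
        exact (MulAut.conj k).orderOf_eq _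
    obtain ⟨y, -, z, -, -, -, -, e⟩ := hrank d hd
    rcases e.le wD with (⟨g, gd, e1⟩ | h) | h
    · exact absurd (by rw [← e1, gd.eq, mul_inv_cancel_right]) n
    · exact ⟨_, fun x hx dx => k y z h x dx (or_assoc.1 (e.le hx))⟩
    · exact ⟨_, fun x hx dx => k z y h x dx ((or_assoc.1 (e.le hx)).imp_right Or.symm)⟩
  obtain ⟨m, hm⟩ := key
  refine ⟨⟨hinv, CfsgH4.three_of_const hsol hinv cj cl hgen hd wD dw n.symm (m := m)
    fun x hx y hy xy => ?_⟩, ⟨d, hd, hD⟩, hgen⟩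
  obtain ⟨g, rfl⟩ := isConj_iff.1 (cl d hd x hx)
  rw [← hm _ (cj g⁻¹ y hy) (fun e => xy (by
    calc _ = g * (d * (g⁻¹ * y * g⁻¹⁻¹)) * g⁻¹ := by group
      _ = _ := by rw [e]; group)), ← (MulAut.conj g).orderOf_eq (d * _)]
  congr 1
  simp [mul_assoc]

end Cfsg.Agent.S1617
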