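import Cfsg.Statements.S1628
import Cfsg.Agent.H2.Ru9

set_option autoImplicit false
open Cfsg

namespace Cfsg.Agent.S1628





/-- The Conway–Wales lattice as stored is even with no vectors of true norm 2: stored norms are multiples of 8, never equal to 8, and the minimum over nonzero vectors is 16. -/
theorem result : (∀ x ∈ Cfsg.Spor.ruLattice, (8 : ℤ) ∣ Cfsg.Spor.ruNorm x) ∧ (∀ x ∈ Cfsg.Spor.ruLattice, Cfsg.Spor.ruNorm x ≠ 8) ∧ (∀ x ∈ Cfsg.Spor.ruLattice, x ≠ 0 → 16 ≤ Cfsg.Spor.ruNorm x) ∧ ∃ x ∈ Cfsg.Spor.ruLattice, Cfsg.Spor.ruNorm x = 16 := by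
  have h1 : ∀ x ∈ Cfsg.Spor.ruLattice, (8 : ℤ) ∣ Cfsg.Spor.ruNorm x := fun x hx => by
    obtain ⟨c, hc⟩ := CfsgRu.mem_iff.1 hx
    rw [← CfsgRu.nm_fr, ← hc]
    exact CfsgRu.eight_dvd c
  have h2 : ∀ x ∈ Cfsg.Spor.ruLattice, x ≠ 0 → 16 ≤ Cfsg.Spor.ruNorm x := fun x hx h0 => by
    obtain ⟨c, hc⟩ := CfsgRu.mem_iff.1 hx
    rw [← CfsgRu.nm_fr]
    exact CfsgRu.min_norm (hc ▸ CfsgRu.mem_A0' c) fun h => h0 (CfsgRu.fr_inj h)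
  refine ⟨h1, fun x hx h => ?_, h2, CfsgRu.wd 15, CfsgRu.wd_mem 15, by decide +kernel⟩
  have := h2 x hx (by rintro rfl; simp [Cfsg.Spor.ruNorm] at h)
  omega

end Cfsg.Agent.S1628
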