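import Cfsg.Statements.S1638
import Cfsg.Agent.H5.Orb

set_option autoImplicit false
open scoped Pointwise
open Cfsg

namespace Cfsg.Agent.S1638

open CfsgH5 MulAction

/-- test that a pair lies with the four standard points in an octad -/
noncomputable def inO (m : ℕ) : Bool := Nat.beq (pop24 (ld (syn (Nat.lor 0x800007 m)))) 2

/-- pairs avoiding the two standard points -/
noncomputable def dom (m : ℕ) : Bool :=
  band (Nat.beq (pop24 m) 2) (band (bnot (tb m 23)) (bnot (tb m 0)))

theorem dom_iff (t : Finset GolayPt) : dom (mk t) = true ↔ t.card = 2 ∧ pt 23 ∉ t ∧ pt 0 ∉ t := by
  simp only [dom, band_eq, Bool.and_eq_true, beq_true_iff, ← card_eq_pop, bnot_eq, Bool.not_eq_true',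
    ← tb_mk_pt _ (by norm_num : 23 < 24), ← tb_mk_pt _ (by norm_num : 0 < 24), Bool.not_eq_true]

theorem inO_iff {t : Finset GolayPt} (h : t.card = 2 ∧ pt 23 ∉ t ∧ pt 0 ∉ t) (hd : Disjoint (ts 6) t) :
    (∃ o ∈ octads, pt 23 ∈ o ∧ pt 0 ∈ o ∧ ts 6 ∪ t ⊆ o) ↔ inO (mk t) = true := by
  have e : ts 0x800007 = insert (pt 23) (insert (pt 0) (ts 6)) := by decide +kernel
  have hd' : Disjoint (ts 0x800007) t := by
    rw [e, Finset.disjoint_insert_left, Finset.disjoint_insert_left]; exact ⟨h.2.1, h.2.2, hd⟩
  rw [inO, beq_true_iff, ← mk_ts (by norm_num : 0x800007 < 16777216), ← mk_union,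
    ← six_subset_octad_iff (by rw [Finset.card_union_of_disjoint hd', h.1]; decide +kernel), e]
  simp only [Finset.insert_union, Finset.insert_subset_iff]

theorem ex_smul (g : M24) (p q : GolayPt) (T U : Finset GolayPt) :
    (∃ o ∈ octads, g • p ∈ o ∧ g • q ∈ o ∧ g • T ∪ g • U ⊆ o) ↔
      ∃ o ∈ octads, p ∈ o ∧ q ∈ o ∧ T ∪ U ⊆ o := by
  rw [← Finset.smul_finset_union]
  constructor
  · rintro ⟨o, ho, h1, h2, h⟩
    exact ⟨g⁻¹ • o, (smul_mem_octads_iff _).2 ho, Finset.mem_inv_smul_finset_iff.2 h1,
      Finset.mem_inv_smul_finset_iff.2 h2, Finset.smul_finset_subset_iff.1 h⟩
  · rintro ⟨o, ho, h1, h2, h⟩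
    exact ⟨g • o, (smul_mem_octads_iff _).2 ho, Finset.smul_mem_smul_finset h1,
      Finset.smul_mem_smul_finset h2, Finset.smul_finset_subset_smul_finset h⟩

theorem std {U U' : Finset GolayPt} (h : dom (mk U) = true) (h' : dom (mk U') = true)
    (hn : U ≠ ts 6) (hn' : U' ≠ ts 6)
    (hi : bif' (Nat.beq (Nat.land 6 (mk U)) 0) (bif' (inO (mk U)) 1 2) 0 =
      bif' (Nat.beq (Nat.land 6 (mk U')) 0) (bif' (inO (mk U')) 1 2) 0) :
    ∃ g ∈ Fix [23, 0] [6], g • U = U' := by
  have key : ∀ V : Finset GolayPt, dom (mk V) = true → V ≠ ts 6 →
      band (dom (mk V)) (bnot (Nat.beq (mk V) 6)) = true := fun V h1 h2 => by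
    rw [h1, Bool.eq_false_iff.2 (mt (beq_true_iff _ _).1 fun h => h2 (by rw [← h, ts_mk]))]; rfl
  exact small_orbits (S := [0xbd26b3ba09411451b251356cf68440, 0xbd5f653906830e5191b14d17390440]) (valid_Fix (by decide +kernel))
    (dom := fun m => band (dom m) (bnot (Nat.beq m 6)))
    (iv := fun m => bif' (Nat.beq (Nat.land 6 m) 0) (bif' (inO m) 1 2) 0)
    (R := nthD [159, 18, 3] 0) (gen := (ap 1 1 0x200000000000000000000000000000400000040000000000000000000000000000000001000611004000000000010000000000000000000400004000400000000000000000008000000000000000000000000000800800800001000000000000000000000041000000002000000000000000000000008000400000000000000000000000000000000000000000000000040400000000040000000009020200080000000000000000000000000000800000000000008000000000000200000000008000000000000088400000008400000000000000008000008000000000000000000000000000000080000000000000000000040000000000000000000000000100000040000001021001000000000000000000000000000000000000000000008080200000000001000000000000000000008000000000000000000000001000000000002000000100400000000000004000010000000000000000000000001000008000000000000000000800000000040000000000000000000800101040000200040040000001000000000000000000000040000000000000000000000000000080420000000000000000000011000000000000000008000000000001000009020040000000000200000000001000000000000000100000000000000060040000000000001000000010000000208000001000000100000000401101240))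 (dep := (ap 4 15 0xa0000000000000000000000000000000008000000000050000000000000000000000000000000000000000000000000000000000000000000000000600000000000000000000000000050000000000000000000009000050000000000000000500000000000000000000000050007000000000000000000000000000000000000000000000000500000000000000060000000000000660000700060000000002000000000000000000000000000000000000000050000600000000000000000600000000000000000000000000000000000000000000030000000000000a005002000007000000080000000000000007000000000000000000900000000100000000000000000000000000000200000000000000000000700000000000000000000000400000000000000000000000000000000000000000000040000000000000000000000000700000000000000030000000000030000b700000700000000000000000000008000000000000000000000a0000000000700000000000000000000000000000000000000000000000000000000300000400000000000000000000000000000000005003000000000000000000000000000000000000000000000000000000000000000000000000000000000000000000100000000000000004000000000000000000000000000000000000000000000000000000000000000000000000000000000007000000000000000000000000000000000000000000000000006000000000050000000000500000000000000000000000000000000000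000500000009000000600805000050000000000000000000000300000000500000000000000000000009000000500400900030000000900000000000005000000000000007000000000000000000000000000000000004000000000000000000000000000000000000006000000000000000000000000050000000000000000000000000000000006005000000000000000000200000000000000000000000040000000000000000000000000000500000000000000000000000000000000000000000600000000000000000000000000000000000000000000000000000009000700008400000000000002000000000000000700004000000000000000000000700000000000000000700000000000000000000000000900000000000000000000000600000000000000000000070000000000000000000000000000000000000000000000000000000000000000000400000000000000000700000000007000000007000000000000000000000000000000000000000000000000000000000000000000000000000000000000400000000000000000000000000000000000000000000007000000000000000000000000000000000000000000000000000000000060000000000000000300000000a0000000000000000000000000000010000069000010000000000070000000000000003000000000040000000008000000000000000000000000000000000000000000000000000000000800000000000000003000000000000000000000000000000000000070000000000000000000000000070000000300050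00093000000000000000000000000000001000000000000004000000000000000060008000000000000000000000000000000000000000000000000000000000006000000000700300000000000000000000000000000000000000001000000000000000000000000000000000000000000008000000000000000000600000000000000000000000000080000000000000000000000000000900000000060000000000a00000000000000000000000000000000000000000000600000000000000000000050000000000000000000000000000000000600000000000000000a00000000000000000000000000000000000000600000005000000000000000000009000400000000000000000000000000000004000000000000000000000000000000002406000400000006000000000000006000000000000000006000000000000000000000000000000000000000000000600000000000000000000000000000006400000000000000500000005000803600000090000000000002000000000000007004006000009000000040000000000000000000007000000000000000000000000040000000000000000009000000000000000000000900000000000000000000006000000000000000000000000000000000000000000000080000000000000000000000000000000000000000003000000000000000000000000000070000000070000300000000000000000000000000000000000000700000000000000000000000000000000000000000000040008000000000000000000000000000000000000000000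0000000000000000060000000040000000000000000000000900000000000000040000000700070680008000000000000080040090008000000000060000000000007000000000000000000000000000000020000000000000000000000000000000000000000000080000000000000000006000000000000000000000b000000000000000000000090000000000000000000000000000000900000000000000050000000300050760000000000400000000500000000000000000000000000000000000000000000a00000000000000000000000000000008000000000000000800000005000508600000500000000000000000000000000800000000000000020000000800050a600000000000000008000000050003056000000007000700400005086005400000))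
    (by decide +kernel) (((dom_iff U).1 h).1.le.trans (by norm_num))
    (((dom_iff U').1 h').1.le.trans (by norm_num)) (key U h hn) (key U' h' hn') hi

theorem disj_iff (t : Finset GolayPt) : Disjoint (ts 6) t ↔ Nat.beq (Nat.land 6 (mk t)) 0 = true := by
  rw [E24.disjoint_iff_mask, E24.mask_toSet (by norm_num), beq_true_iff]

/-- Fix two points p ≠ q and a pair s of two further points. Among the pairs avoiding p, q and disjoint from s, exactly 30 lie in an octad together with p, q and s and exactly 160 do not; and any two pairs other than s that meet s in equally many points and agree on that octad property are carried to one another by an element of the group of the length-24 code fixing p, q and s. -/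
theorem result (p q : Cfsg.GolayPt) (hpq : p ≠ q) (s : Finset Cfsg.GolayPt) (hs : (s.card = 2 ∧ p ∉ s ∧ q ∉ s)) : {t : Finset Cfsg.GolayPt | (t.card = 2 ∧ p ∉ t ∧ q ∉ t) ∧ Disjoint s t ∧ (∃ o ∈ Cfsg.octads, p ∈ o ∧ q ∈ o ∧ s ∪ t ⊆ o)}.ncard = 30 ∧ {t : Finset Cfsg.GolayPt | (t.card = 2 ∧ p ∉ t ∧ q ∉ t) ∧ Disjoint s t ∧ ¬ (∃ o ∈ Cfsg.octads, p ∈ o ∧ q ∈ o ∧ s ∪ t ⊆ o)}.ncard = 160 ∧ ∀ t t' : Finset Cfsg.GolayPt, (t.card = 2 ∧ p ∉ t ∧ q ∉ t) → (t'.card = 2 ∧ p ∉ t' ∧ q ∉ t') → t ≠ s → t' ≠ s → (s ∩ t).card = (s ∩ t').card → ((∃ o ∈ Cfsg.octads, p ∈ o ∧ q ∈ o ∧ s ∪ t ⊆ o) ↔ (∃ o ∈ Cfsg.octads, p ∈ o ∧ q ∈ o ∧ s ∪ t' ⊆ o)) → ∃ g : Equiv.Perm Cfsg.GolayPt, g ∈ Cfsg.M24 ∧ g p = p ∧ g q = q ∧ g • s = s ∧ g • t = t' := by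
  obtain ⟨a, b, hab, rfl⟩ := Finset.card_eq_two.1 hs.1
  have hs' := hs.2
  simp only [Finset.mem_insert, Finset.mem_singleton, not_or] at hs'
  obtain ⟨g, e1, e2, e3, e4⟩ := trans4 hpq hs'.1.1 hs'.2.1 hs'.1.2 hs'.2.2 hab
  have e : g • ({a, b} : Finset GolayPt) = ts 6 := by
    rw [Finset.smul_finset_insert, Finset.smul_finset_singleton, e3, e4]; decide +kernel
  generalize ({a, b} : Finset GolayPt) = s at *
  refine ⟨?_, ?_, fun U U' h3 h3' hn hn' hc h => ?_⟩
  · rw [ncard_transport g (B := {t : Finset GolayPt | (t.card = 2 ∧ g • p ∉ t ∧ g • q ∉ t) ∧
      Disjoint (g • s) t ∧ (∃ o ∈ octads, g • p ∈ o ∧ g • q ∈ o ∧ g • s ∪ t ⊆ o)}) (fun x => by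
        simp only [Set.mem_ofPred_eq, card_smulM, disjoint_smulM, ex_smul, smul_mem_smul_iffM]),
      e, e1, e2, ncard_small _ (fun m => band (dom m) (band (Nat.beq (Nat.land 6 m) 0) (inO m)))
        (fun s => by
        simp only [Set.mem_ofPred_eq, band_eq, Bool.and_eq_true, dom_iff, ← disj_iff]
        exact and_congr_right fun h1 => and_congr_right fun h2 => inO_iff h1 h2)
        (fun s hs => hs.1.1.le.trans (by norm_num))]
    decide +kernel
  · rw [ncard_transport g (B := {t : Finset GolayPt | (t.card = 2 ∧ g • p ∉ t ∧ g • q ∉ t) ∧
      Disjoint (g • s) t ∧ ¬ (∃ o ∈ octads, g • p ∈ o ∧ g • q ∈ o ∧ g • s ∪ t ⊆ o)}) (fun x => by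
        simp only [Set.mem_ofPred_eq, card_smulM, disjoint_smulM, ex_smul, smul_mem_smul_iffM]),
      e, e1, e2, ncard_small _
        (fun m => band (dom m) (band (Nat.beq (Nat.land 6 m) 0) (bnot (inO m)))) (fun s => by
        simp only [Set.mem_ofPred_eq, band_eq, Bool.and_eq_true, dom_iff, ← disj_iff, bnot_eq,
          Bool.not_eq_true', ← Bool.not_eq_true]
        exact and_congr_right fun h1 => and_congr_right fun h2 => not_congr (inO_iff h1 h2))
        (fun s hs => hs.1.1.le.trans (by norm_num))]
    decide +kernel
  · have k : ∀ V : Finset GolayPt, (V.card = 2 ∧ p ∉ V ∧ q ∉ V) →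
        ((g • V).card = 2 ∧ pt 23 ∉ g • V ∧ pt 0 ∉ g • V) := fun V hV => by
      rwa [← e1, ← e2, card_smulM, smul_mem_smul_iffM, smul_mem_smul_iffM]
    have hdd : Disjoint (ts 6) (g • U) ↔ Disjoint (ts 6) (g • U') := by
      rw [← e, disjoint_smulM, disjoint_smulM, Finset.disjoint_iff_inter_eq_empty,
        Finset.disjoint_iff_inter_eq_empty, ← Finset.card_eq_zero, ← Finset.card_eq_zero, hc]
    obtain ⟨k, hk, e'⟩ := std ((dom_iff _).2 (k U h3)) ((dom_iff _).2 (k U' h3'))
      (by rw [← e]; exact fun h => hn (smul_left_cancel g h))
      (by rw [← e]; exact fun h => hn' (smul_left_cancel g h)) (by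
        by_cases hd : Disjoint (ts 6) (g • U)
        · have hd' := hdd.1 hd
          have : inO (mk (g • U)) = inO (mk (g • U')) := by
            rw [Bool.eq_iff_iff, ← inO_iff (k U h3) hd, ← inO_iff (k U' h3') hd', ← e, ← e1, ← e2,
              ex_smul, ex_smul, h]
          rw [(disj_iff _).1 hd, (disj_iff _).1 hd', this]
        · have hd' := mt hdd.2 hd
          rw [disj_iff, Bool.not_eq_true] at hd hd'
          rw [hd, hd', bif'_false, bif'_false])
    refine ⟨(g⁻¹ * k * g : M24), (g⁻¹ * k * g).2, (conj_smul_eq g k p p).2 ?_,
      (conj_smul_eq g k q q).2 ?_, (conj_smul_eq g k s s).2 ?_, (conj_smul_eq g k U U').2 e'⟩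
    · rw [e1]; exact hk.1 _ (by simp)
    · rw [e2]; exact hk.1 _ (by simp)
    · rw [e]; exact hk.2 _ (by simp)

end Cfsg.Agent.S1638
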