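import Cfsg.Statements.S1643
import Cfsg.Agent.H5.OvQ

set_option autoImplicit false
open scoped Pointwise
open Cfsg

namespace Cfsg.Agent.S1643

open CfsgH5 MulAction

/-- chain of the affine group -/
noncomputable def cB : List Level :=
  [⟨0, [0xb82d5a4e5183dcd62d4941cc520c41], 0x7fffff,
    ap 120 0xffffffffffffffffffffffffffffff 0xb82d5a4e5183dcd62d4941cc520c41b8416ad2728c1ee6b16a4a0e629062b8820b56939460f7358b5250731483b8c4105ab49ca307b9ac5a928398a4b9062082d5a4e5183dcd62d4941cc5bd20c410137ace3b49ca30ab16a4a1b8690620809bd671da4e518558b525b94348310404deb38ed2728c2ac5a9bc9428a430401e7b38d56968c24d63b8e4a145218200f3d9c6ab4b46126bbac7250a290c10079ece355a5a3093bda928398a41882056717b56939461b86d4941cc520c4102b38bdab49ca3b8c36a4a0e62906208159c5ed5a4e5b9461b52507314831040ace2f6ad27b9ca30da928398a41882056717b569ba4e5186d4941cc520c4102b38bdabbda4e518558b5250d20c410137ace3b8ed2728c2ac5a928690620809bd67b9c76939461562d494348310404debbd9c6ab4b46126b1c9428a430401e7b9ece355a5a309358e4a145218200fbdab49ca307b9ac5a928398a418820,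
    ap 1 1 0x24824, ap 3 7 0x5395cb774e5de5db8⟩,
   ⟨1, [0xbd6717b56939461b52507314831040], 0x5335e,
    ap 120 0xffffffffffffffffffffffffffffff 0xbb8b3505e6a2c503d5838a2cd24920000000000000000000000000000000baa87891c15d5122bc4cb266680da0000000000000000000000000000000000000000000000000000000000000b9dd52b263544287d8cda117212600bd6717b56939461b52507314831040000000000000000000000000000000000000000000000000000000000000b954fa08ec8d88974c265c2a343640bd22e5a0a2b4e0d51c81ac9ec49860000000000000000000000000000000bcdeb38ed2728c2ac5a92869062080000000000000000000000000000000bc565b4144abd23a39029b4e1930c0bbcf671aad2d1849ac7250a290c100baecaaa68899e468960478dc268580bdab49ca307b9ac5a928398a418820000000000000000000000000000000,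
    ap 1 1 0x0, ap 4 15 0x5070041006802093a00⟩]

/-- chain of the projective group -/
noncomputable def cL : List Level :=
  [⟨23, [0x5883388a1c8f5140b46cd317aed7], 0xffffff,
    ap 120 0xffffffffffffffffffffffffffffff 0xbdab49ca307b9ac5a928398a41882005c2c419c450e47a8a05a36698bd7605ae1620ce228723d4502d1b34c5eb02ed70b1067114391ea28168d9a62f03d76b85883388a1c8f5140b46cd31045ebb5c2c419c450e47a8a05a366902155a46e6189af0ba509ad84395367a6261d0572a8816d4e89b99282ec07813130e82b95440b6a744dcc9417603a0b216caa5c6d0ca6c3a5158984fb48c7805aa226ec8ad142b9e3acc40b1da98d1f394157594623048c43aa00050e54ab0a4e2bbb0c419c456a5f60582872a55852715dd8620ce22b52f03ec143952ac2938aeec31067115a97c462291a79b21649a97506a874960782231148d3cd90b24d4ba83543a4bb362f92963311153a69385ca20b1c0005d284d6c21ca9b2155a46e6189afb25f05888e3c66a299956d25718500b464b320f48142e6bd4325533b8980b3d643ccac6c8684c04e8a8d5a5c20b2ce568d2289a817926c9220e556e0005883388a1c8f5140b46cd317aed7,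
    ap 2 3 0x15586a946880, ap 3 7 0x9cba5dbc72dd6dd19⟩,
   ⟨0, [0xb82d5a4e5183dcd62d4941cc520c41], 0x7fffff,
    ap 120 0xffffffffffffffffffffffffffffff 0xb82d5a4e5183dcd62d4941cc520c41b8416ad2728c1ee6b16a4a0e629062b8820b56939460f7358b5250731483b8c4105ab49ca307b9ac5a928398a4b9062082d5a4e5183dcd62d4941cc5bd20c410137ace3b49ca30ab16a4a1b8690620809bd671da4e518558b525b94348310404deb38ed2728c2ac5a9bc9428a430401e7b38d56968c24d63b8e4a145218200f3d9c6ab4b46126bbac7250a290c10079ece355a5a3093bda928398a41882056717b56939461b86d4941cc520c4102b38bdab49ca3b8c36a4a0e62906208159c5ed5a4e5b9461b52507314831040ace2f6ad27b9ca30da928398a41882056717b569ba4e5186d4941cc520c4102b38bdabbda4e518558b5250d20c410137ace3b8ed2728c2ac5a928690620809bd67b9c76939461562d494348310404debbd9c6ab4b46126b1c9428a430401e7b9ece355a5a309358e4a145218200fbdab49ca307b9ac5a928398a418820,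
    ap 1 1 0x24824, ap 3 7 0x5395cb774e5de5db8⟩,
   ⟨1, [0xbd6717b56939461b52507314831040], 0x5335e,
    ap 120 0xffffffffffffffffffffffffffffff 0xbb8b3505e6a2c503d5838a2cd24920000000000000000000000000000000baa87891c15d5122bc4cb266680da0000000000000000000000000000000000000000000000000000000000000b9dd52b263544287d8cda117212600bd6717b56939461b52507314831040000000000000000000000000000000000000000000000000000000000000b954fa08ec8d88974c265c2a343640bd22e5a0a2b4e0d51c81ac9ec49860000000000000000000000000000000bcdeb38ed2728c2ac5a92869062080000000000000000000000000000000bc565b4144abd23a39029b4e1930c0bbcf671aad2d1849ac7250a290c100baecaaa68899e468960478dc268580bdab49ca307b9ac5a928398a418820000000000000000000000000000000,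
    ap 1 1 0x0, ap 4 15 0x5070041006802093a00⟩]

/-- chain of the translations -/
noncomputable def cS : List Level :=
  [⟨0, [0xb82d5a4e5183dcd62d4941cc520c41], 0x7fffff,
    ap 120 0xffffffffffffffffffffffffffffff 0xb82d5a4e5183dcd62d4941cc520c41b8416ad2728c1ee6b16a4a0e629062b8820b56939460f7358b5250731483b8c4105ab49ca307b9ac5a928398a4b9062082d5a4e5183dcd62d4941cc5b948310416ad2728c1ee6b16a4a0e6b98a418820b56939460f7358b52507b9cc520c4105ab49ca307b9ac5a928ba0e629062082d5a4e5183dcd62d49ba5073148310416ad2728c1ee6b16aba928398a418820b56939460f7358bbad4941cc520c4105ab49ca307b9acbb16a4a0e629062082d5a4e5183dcdbb58b525073148310416ad2728c1eebb9ac5a928398a418820b56939460fbbdcd62d4941cc520c4105ab49ca30bc1ee6b16a4a0e629062082d5a4e51bc60f7358b525073148310416ad272bca307b9ac5a928398a418820b5693bce5183dcd62d4941cc520c4105ab4bd2728c1ee6b16a4a0e629062082d5bd6939460f7358b525073148310416bdab49ca307b9ac5a928398a418820,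
    ap 1 1 0x0, ap 5 31 0x443214c74254b635cf84653a56c0⟩]

/-- chain of a dodecad stabiliser -/
noncomputable def cD : List Level :=
  [⟨1, [0xbba965222d2ae44a9d837866680920], 0x5335e,
    ap 120 0xffffffffffffffffffffffffffffff 0xbd2ae504a69da125bc888b4e348980000000000000000000000000000000bc4abb42a1550c87b86d38a6493120000000000000000000000000000000000000000000000000000000000000bc675736893d8232ae127894641180bd5cb7c22855061b14cd9b0e990880000000000000000000000000000000000000000000000000000000000000bd6d42ca2352d0673c2d3b26480920bd5545c9e2b14903c5a17326830d20000000000000000000000000000000bba965222d2ae44a9d837866680920000000000000000000000000000000baece38e329d506a3c902a54168980bd576999e42d06d71d928c14808920bc54ba41cc2d8923d5a378a6640520bdab49ca307b9ac5a928398a418820000000000000000000000000000000,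
    ap 2 3 0x21040d0090, ap 2 3 0x320f0b12b0⟩,
   ⟨2, [0xbc5eea0d669d4923d910508ac6a420], 0x5335c,
    ap 120 0xffffffffffffffffffffffffffffff 0xbaa6f70a2d2d46c59c92b268682020000000000000000000000000000000bae75734e2a3d8354606b24b222020000000000000000000000000000000000000000000000000000000000000bda6f28e2d750493acd2532a444020ba9f52cac3a4cc25c60c391cd4a020000000000000000000000000000000000000000000000000000000000000b9dcf99170a546c8a846b20b26a420b9e8fa914974e4db2cc28a0a364020000000000000000000000000000000bc5eea0d669d4923d910508ac6a420000000000000000000000000000000bda93aa5642bdb23a9838a1c234020b9eae2b1529be068d9045b68312420bdab49ca307b9ac5a928398a418820000000000000000000000000000000000000000000000000000000000000,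
    ap 2 3 0x5080040, ap 3 7 0xc2023013044400⟩,
   ⟨3, [0xbadd4290ec7d510b292d88e7230820], 0x248,
    ap 120 0xffffffffffffffffffffffffffffff 0xbda8e7a0ed2d4925c46c5267030820000000000000000000000000000000000000000000000000000000000000badd4290ec7d510b292d88e7230820000000000000000000000000000000000000000000000000000000000000bdab49ca307b9ac5a928398a418820000000000000000000000000000000000000000000000000000000000000000000000000000000000000000000,
    ap 1 1 0x200, ap 2 3 0x81000⟩,
   ⟨4, [0xbae957b6289ba44b1cd0524ac18820], 0x1010,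
    ap 120 0xffffffffffffffffffffffffffffff 0xbae957b6289ba44b1cd0524ac18820000000000000000000000000000000000000000000000000000000000000000000000000000000000000000000000000000000000000000000000000000000000000000000000000000000000000000000000000000000000000000000000000000000000000000000bdab49ca307b9ac5a928398a418820000000000000000000000000000000000000000000000000000000000000000000000000000000000000000000000000000000000000000000000000,
    ap 1 1 0x0, ap 1 1 0x1000⟩]

theorem cB_check : checkC ops24 cB = true := by decide +kernel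
theorem cL_check : checkC ops24 cL = true := by decide +kernel
theorem cS_check : checkC ops24 cS = true := by decide +kernel
theorem cD_check : checkC ops24 cD = true := by decide +kernel
theorem cB_valid : ∀ s ∈ gens cB, CM.In (Fix [23] []) s := valid_Fix (by decide +kernel)
theorem cB_valid' : ∀ s ∈ gens cB, CM.In ⊤ s := valid_CM (by decide +kernel)
theorem cL_valid : ∀ s ∈ gens cL, CM.In ⊤ s := valid_CM (by decide +kernel)
theorem cS_valid : ∀ s ∈ gens cS, CM.In ⊤ s := valid_CM (by decide +kernel)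
theorem cD_valid : ∀ s ∈ gens cD, CM.In (Fix [23, 0] [dod0]) s := valid_Fix (by decide +kernel)

theorem card_B : Nat.card (CM.grp (gens cB)) = 253 := by
  rw [CM.card_grp cB_valid' cB_check]; decide +kernel
theorem card_L : Nat.card (CM.grp (gens cL)) = 6072 := by
  rw [CM.card_grp cL_valid cL_check]; decide +kernel

theorem isCoatom_subgroupOf {G : Type*} [Group G] {B S : Subgroup G} (hBS : B ≤ S) (hne : B ≠ S)
    (h : ∀ H, B ≤ H → H ≤ S → H = B ∨ H = S) : IsCoatom (B.subgroupOf S) := by
  refine ⟨fun e => hne (le_antisymm hBS (Subgroup.subgroupOf_eq_top.1 e)), fun K hK => ?_⟩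
  have h1 : B ≤ K.map S.subtype := fun x hx => ⟨⟨x, hBS hx⟩, hK.le hx, rfl⟩
  rcases h _ h1 (Subgroup.map_subtype_le K) with e | e
  · refine absurd (fun x hx => ?_) (not_le_of_gt hK)
    rw [Subgroup.mem_subgroupOf, ← e]
    exact ⟨x, hx, rfl⟩
  · rw [eq_top_iff]
    intro x _
    obtain ⟨y, hy, e'⟩ : x.1 ∈ K.map S.subtype := e.symm ▸ x.2
    rwa [← Subtype.ext e']

theorem card_eq_mul {H : Subgroup M24} {a : GolayPt} {m : ℕ} (hm : m < 16777216)
    (h1 : ∀ b ∈ ts m, ∃ g ∈ H, g • b = a) (h2 : ∀ g ∈ H, g • a ∈ ts m) :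
    Nat.card (H ⊓ stabilizer M24 a : Subgroup M24) * pop24 m = Nat.card H := by
  rw [← card_inf_stabilizer_mul H a, ← card_ts hm, ← Set.ncard_coe_finset]
  congr 2
  ext b
  constructor
  · intro hb
    obtain ⟨g, hg, e⟩ := h1 b hb
    exact ⟨⟨g⁻¹, H.inv_mem hg⟩, by rw [← e]; exact inv_smul_smul g b⟩
  · rintro ⟨g, rfl⟩
    exact h2 g g.2

theorem maxB (H : Subgroup M24) (h1 : CM.grp (gens cB) ≤ H) (h2 : H ≤ Fix [23] []) :
    H = CM.grp (gens cB) ∨ H = Fix [23] [] := by
  have : Fact (Nat.Prime 23) := ⟨by norm_num⟩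
  have hc := card_eq_mul (H := H) (a := pt 0) (m := 0x7fffff) (by norm_num)
    (fun b hb => move_of_chain (fun s hs => (CM.in_grp cB_valid hs).mono h1) cB_check (by norm_num) rfl hb)
    (fun g hg => by
      have := smul_ne g ((h2 hg).1 23 (by simp)) (a := pt 0) (by decide +kernel)
      revert this; generalize g • pt 0 = b; revert b; decide +kernel)
  rw [show pop24 0x7fffff = 23 by decide +kernel] at hc
  have h0 : H ⊓ stabilizer M24 (pt 0) ≤ Fix [23, 0] [] := fun x hx =>
    ⟨by simpa using ⟨(h2 hx.1).1 23 (by simp), hx.2⟩, by simp⟩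
  have hQ : Q11 ≤ H := (CM.grp_mono (by decide +kernel)).trans h1
  by_cases h : Fix [23, 0] [] ≤ H
  · right
    apply Subgroup.eq_of_le_of_card_ge h2
    have := Subgroup.card_le_of_le (le_inf h fun x hx => hx.1 0 (by simp) :
      Fix [23, 0] [] ≤ H ⊓ stabilizer M24 (pt 0))
    rw [card_Fix2] at this
    rw [card_Fix1]; omega
  left
  have hD := CM.grp_eq_of_card cD_valid cD_check (card_L660.trans (by decide +kernel))
  have hD' : ∀ s ∈ gens cD, CM.In ⊤ s := fun s hs => (cD_valid s hs).mono le_top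
  have h3 : H ⊓ stabilizer M24 (pt 0) ≤ CM.grp (gens cD) := fun x hx =>
    hD ▸ (over_Q11 hQ hx.1 (h0 hx)).resolve_right h
  have h4 := Subgroup.card_dvd_of_le h3
  rw [CM.card_grp hD' cD_check, show ordC ops24 cD = 660 by decide +kernel] at h4
  have hS : Nat.card (CM.grp (gens cS)) = 23 ^ 1 := by
    rw [CM.card_grp cS_valid cS_check]; decide +kernel
  obtain ⟨n, hn, hn'⟩ := exists_sylow_count ((CM.grp_mono (by decide +kernel)).trans h1) hS (by
    rw [← hc, pow_succ]
    intro h
    exact absurd ((Nat.dvd_of_mul_dvd_mul_right (by norm_num) h).trans h4) (by norm_num))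
  have h5 := Subgroup.card_dvd_of_le (le_inf h1 (CM.le_normalizer cS_valid cS_check (S := gens cB)
    (by decide +kernel)))
  rw [card_B] at h5
  obtain ⟨k, hk⟩ := h5
  have h6 : n ∣ 60 := by
    rw [hk, ← hc] at hn'
    have : Nat.card (H ⊓ stabilizer M24 (pt 0) : Subgroup M24) = 11 * (n * k) := by linarith
    rw [this] at h4
    exact (Dvd.intro k rfl).trans (Nat.dvd_of_mul_dvd_mul_left (by norm_num : 0 < 11) h4)
  have h7 : n = 1 := by
    have : ∀ n ∈ Nat.divisors 60, n % 23 = 1 % 23 → n = 1 := by decide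
    exact this n (Nat.mem_divisors.2 ⟨h6, by norm_num⟩) hn
  rw [h7, one_mul] at hn'
  have h8 : H ≤ Subgroup.normalizer (CM.grp (gens cS) : Set M24) :=
    inf_eq_left.1 (Subgroup.eq_of_le_of_card_ge inf_le_left hn'.ge)
  obtain ⟨a, ha, ea⟩ : CM.In (CM.grp (gens cS)) 0xb82d5a4e5183dcd62d4941cc520c41 := CM.in_grp cS_valid (by decide +kernel)
  have h9 := CM.ncard_eq_cntC hD' cD_check fun p => force (mul24 (mul24 p 0xb82d5a4e5183dcd62d4941cc520c41) (inv24 p)) (memC ops24 cS)
  have h10 : Nat.card (H ⊓ stabilizer M24 (pt 0) : Subgroup M24) ≤ 11 := by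
    rw [show 11 = cntC ops24 (fun p => force (mul24 (mul24 p 0xb82d5a4e5183dcd62d4941cc520c41) (inv24 p)) (memC ops24 cS)) cD
      ops24.one by decide +kernel, ← h9, ← Nat.card_coe_set_eq]
    refine Nat.card_le_card_of_injective (fun x => ⟨x, h3 x.2, ?_⟩)
      fun x y e => Subtype.ext (by simpa using e)
    have := (CM.mem_iff_memC cS_valid cS_check _).1
      ((Subgroup.mem_normalizer_iff.1 (h8 x.2.1) a).1 ha)
    rw [CM.code_mul, CM.code_mul, CM.code_inv, ea] at this
    rw [force_eq]; exact this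
  exact (Subgroup.eq_of_le_of_card_ge h1 (by rw [card_B]; omega)).symm

theorem maxL : IsCoatom (CM.grp (gens cL)) := by
  refine ⟨fun e => ?_, fun H hH => ?_⟩
  · have := card_L
    rw [e, Subgroup.card_top, card_M24] at this
    omega
  have hc := card_eq_mul (H := H) (a := pt 23) (m := 0xffffff) (by norm_num)
    (fun b hb => move_of_chain (fun s hs => (CM.in_grp cL_valid hs).mono hH.le) cL_check (by norm_num) rfl hb)
    (fun g hg => by generalize g • pt 23 = b; revert b; decide +kernel)
  rw [show pop24 0xffffff = 24 by decide +kernel] at hc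
  have e : stabilizer M24 (pt 23) = Fix [23] [] := by rw [Fix_cons_pt, Fix_nil, top_inf_eq]
  rw [e] at hc
  rcases maxB (H ⊓ Fix [23] []) (le_inf ((CM.grp_mono (by decide +kernel)).trans hH.le)
    (CM.grp_le cB_valid)) inf_le_right with h | h
  · rw [h, card_B] at hc
    exact absurd (Subgroup.eq_of_le_of_card_ge hH.le (by rw [card_L]; omega)) hH.ne
  · rw [h, card_Fix1] at hc
    exact Subgroup.eq_top_of_card_eq _ (by rw [card_M24]; omega)

theorem valid24 {S : List ℕ} (h : ∀ s ∈ S, CM.In ⊤ s) : ∀ s ∈ S, C24.In M24 s := fun s hs => by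
  obtain ⟨g, -, e⟩ := h s hs
  exact ⟨g, g.2, e⟩

theorem pack_grp {c : List Level} (hv : ∀ s ∈ gens c, CM.In ⊤ s) (hc : checkC ops24 c = true) :
    C24.grp (gens c) ≤ M24 ∧ Nat.card (C24.grp (gens c)) = Nat.card (CM.grp (gens c)) ∧
      (C24.grp (gens c)).subgroupOf M24 = CM.grp (gens c) := by
  have hv' : ∀ s ∈ gens c, C24.In ⊤ s := fun s hs => (valid24 hv s hs).mono le_top
  refine ⟨C24.grp_le (valid24 hv), by rw [C24.card_grp hv' hc, CM.card_grp hv hc], ?_⟩
  ext x
  rw [Subgroup.mem_subgroupOf, C24.mem_iff_memC hv' hc, CM.mem_iff_memC hv hc, CM_code]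

theorem sq_mem {c : List Level} (hv : ∀ s ∈ gens c, CM.In ⊤ s) (hc : checkC ops24 c = true)
    (h : ∀ a : ZMod 23, a ≠ 0 →
      memC ops24 c (pack 5 24 fun i => E24.enc ((E24.dec i).map fun x => a * a * x)) = true) :
    {g : Equiv.Perm GolayPt | ∃ u : (ZMod 23)ˣ, IsSquare u ∧ g = Equiv.optionCongr (Units.mulLeft u)} ⊆ C24.grp (gens c) := by
  have : Fact (Nat.Prime 23) := ⟨by norm_num⟩
  rintro _ ⟨_, ⟨r, rfl⟩, rfl⟩
  exact (C24.mem_iff_memC (fun s hs => (valid24 hv s hs).mono le_top) hc _).2 (h r r.ne_zero)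

/-- a square root of two -/
def r5 : (ZMod 23)ˣ := ⟨5, 14, by decide, by decide⟩

theorem eqB : Subgroup.closure ({Equiv.optionCongr (Equiv.addRight (1 : ZMod 23))} ∪ {g : Equiv.Perm GolayPt | ∃ u : (ZMod 23)ˣ, IsSquare u ∧ g = Equiv.optionCongr (Units.mulLeft u)}) = C24.grp (gens cB) := by
  apply le_antisymm
  · rw [Subgroup.closure_le]
    exact Set.union_subset (Set.singleton_subset_iff.2 (C24.mem_grp (by decide +kernel)))
      (sq_mem cB_valid' cB_check (by decide +kernel))
  · apply C24.grp_le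
    have : gens cB = [0xb82d5a4e5183dcd62d4941cc520c41, 0xbd6717b56939461b52507314831040] := rfl
    simp only [this, List.forall_mem_cons, List.not_mem_nil]
    exact ⟨⟨_, Subgroup.subset_closure (Or.inl rfl), by decide +kernel⟩,
      ⟨_, Subgroup.subset_closure (Or.inr ⟨r5 * r5, ⟨r5, rfl⟩, rfl⟩), by decide +kernel⟩, by simp⟩

theorem eqL : Subgroup.closure ({Equiv.optionCongr (Equiv.addRight (1 : ZMod 23)), projInv} ∪ {g : Equiv.Perm GolayPt | ∃ u : (ZMod 23)ˣ, IsSquare u ∧ g = Equiv.optionCongr (Units.mulLeft u)}) = C24.grp (gens cL) := by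
  apply le_antisymm
  · rw [Subgroup.closure_le]
    exact Set.union_subset (Set.insert_subset (C24.mem_grp (by decide +kernel))
      (Set.singleton_subset_iff.2 (C24.mem_grp (by decide +kernel))))
      (sq_mem cL_valid cL_check (by decide +kernel))
  · apply C24.grp_le
    have : gens cL = [0x5883388a1c8f5140b46cd317aed7, 0xb82d5a4e5183dcd62d4941cc520c41, 0xbd6717b56939461b52507314831040] := rfl
    simp only [this, List.forall_mem_cons, List.not_mem_nil]
    exact ⟨⟨_, Subgroup.subset_closure (Or.inl (Or.inr rfl)), by decide +kernel⟩,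
      ⟨_, Subgroup.subset_closure (Or.inl (Or.inl rfl)), by decide +kernel⟩,
      ⟨_, Subgroup.subset_closure (Or.inr ⟨r5 * r5, ⟨r5, rfl⟩, rfl⟩), by decide +kernel⟩, by simp⟩

/-- PSL(2, 23) = ⟨t ↦ t+1, t ↦ u t (u square), t ↦ −1/t⟩ is maximal of order 6072 in the group of the length-24 code, and its point stabiliser 23:11 (order 253) is maximal in the Mathieu group of degree 23. -/
theorem result : (Subgroup.closure ({Equiv.optionCongr (Equiv.addRight (1 : ZMod 23)), Cfsg.projInv} ∪ {g : Equiv.Perm Cfsg.GolayPt | ∃ u : (ZMod 23)ˣ, IsSquare u ∧ g = Equiv.optionCongr (Units.mulLeft u)}) ≤ Cfsg.M24 ∧ Nat.card ↥(Subgroup.closure ({Equiv.optionCongr (Equiv.addRight (1 : ZMod 23)), Cfsg.projInv} ∪ {g : Equiv.Perm Cfsg.GolayPt | ∃ u : (ZMod 23)ˣ, IsSquare u ∧ g = Equiv.optionCongr (Units.mulLeft u)})) = 6072 ∧ IsCoatom ((Subgroup.closure ({Equiv.optionCongr (Equiv.addRight (1 : ZMod 23)), Cfsg.projInv} ∪ {g : Equiv.Perm Cfsg.GolayPt | ∃ u : (ZMod 23)ˣ, IsSquare u ∧ g = Equiv.optionCongr (Units.mulLeft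 u)})).subgroupOf Cfsg.M24)) ∧ (Subgroup.closure ({Equiv.optionCongr (Equiv.addRight (1 : ZMod 23))} ∪ {g : Equiv.Perm Cfsg.GolayPt | ∃ u : (ZMod 23)ˣ, IsSquare u ∧ g = Equiv.optionCongr (Units.mulLeft u)}) ≤ Cfsg.M24 ⊓ MulAction.stabilizer (Equiv.Perm Cfsg.GolayPt) (none : Cfsg.GolayPt) ∧ Nat.card ↥(Subgroup.closure ({Equiv.optionCongr (Equiv.addRight (1 : ZMod 23))} ∪ {g : Equiv.Perm Cfsg.GolayPt | ∃ u : (ZMod 23)ˣ, IsSquare u ∧ g = Equiv.optionCongr (Units.mulLeft u)})) = 253 ∧ IsCoatom (((Subgroup.closure ({Equiv.optionCongr (Equiv.addRight (1 : ZMod 23))} ∪ {g : Equiv.Perm Cfsg.GolayPt | ∃ u : (ZMod 23)ˣ, IsSquare u ∧ g = Equiv.optionCongr (Units.mulLeft u)})).subgroupOf Cfsg.M24).subgroupOf (MulAction.stabilizer Cfsg.M24 (none : Cfsg.GolayPt)))) := by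
  rw [eqB, eqL]
  obtain ⟨h1, h2, h3⟩ := pack_grp cL_valid cL_check
  obtain ⟨k1, k2, k3⟩ := pack_grp cB_valid' cB_check
  have e : stabilizer M24 (none : GolayPt) = Fix [23] [] := by rw [Fix_cons_pt, Fix_nil, top_inf_eq]; rfl
  refine ⟨⟨h1, h2.trans card_L, h3 ▸ maxL⟩, le_inf k1 (C24.grp_le fun s hs => ?_), k2.trans card_B, ?_⟩
  · obtain ⟨g, hg, e'⟩ := cB_valid s hs
    exact ⟨g, hg.1 23 (by simp), e'⟩
  · rw [k3, e]
    refine isCoatom_subgroupOf (CM.grp_le cB_valid) (fun h => ?_) maxB
    have := card_B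
    rw [h, card_Fix1] at this
    omega

end Cfsg.Agent.S1643
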