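import Cfsg.Statements.S4395
import Cfsg.Agent.L0.Fitting
import Cfsg.Agent.H2.Schmidt
import Cfsg.Agent.H1.Alperin

set_option autoImplicit false
universe u
open Cfsg

namespace Cfsg.Agent.S4395
open Subgroup CfsgH2 CfsgL0
open scoped commutatorElement

section field
variable {K : Type*} [Field K] [Finite K] {q : ℕ}

/-- every nontrivial `q`-th root of unity generates `K` -/
def Gen (q : ℕ) (K : Type*) [Field K] : Prop :=
  ∀ S : Subring K, ∀ ω ∈ S, ω ^ q = 1 → ω ≠ 1 → S = ⊤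

theorem gen_of_card {p : ℕ} [hp : Fact p.Prime] [hq : Fact q.Prime] [CharP K p]
    (hK : Nat.card K = p ^ orderOf (p : ZMod q)) : Gen q K := fun S ω hω h1 h2 => by
  letI : Field S := (Finite.isField_of_domain S).toField
  haveI := Fintype.ofFinite S
  obtain ⟨d, -, hd⟩ := FiniteField.card S p
  have h3 : (⟨ω, hω⟩ : S) ^ (p ^ (d : ℕ) - 1) = 1 := hd ▸ FiniteField.pow_card_sub_one_eq_one _
    fun e => by simp [show ω = 0 from congrArg Subtype.val e, hq.out.ne_zero] at h1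
  have h4 : q ∣ p ^ (d : ℕ) - 1 := orderOf_eq_prime h1 h2 ▸
    orderOf_dvd_of_pow_eq_one (congrArg Subtype.val h3)
  have h5 : orderOf (p : ZMod q) ∣ d := orderOf_dvd_of_pow_eq_one (by
    have := (ZMod.natCast_eq_zero_iff _ _).mpr h4
    rwa [Nat.cast_sub (Nat.one_le_pow _ _ hp.out.pos), sub_eq_zero, Nat.cast_pow,
      Nat.cast_one] at this)
  refine Subring.toAddSubgroup_injective (AddSubgroup.eq_top_of_le_card _ ?_)
  rw [hK, show Nat.card S.toAddSubgroup = p ^ (d : ℕ) from hd ▸ Nat.card_eq_fintype_card]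
  exact Nat.pow_le_pow_right hp.out.pos (Nat.le_of_dvd d.2 h5)

theorem Gen.add (h : Gen q K) {ω : K} (h1 : ω ^ q = 1) (h2 : ω ≠ 1) {I : AddSubgroup K}
    (hI : ∀ x ∈ I, ω * x ∈ I) {y : K} (hy : y ∈ I) (h0 : y ≠ 0) : I = ⊤ := by
  let S : Subring K :=
    { carrier := {c | ∀ x ∈ I, c * x ∈ I}
      mul_mem' := fun ha hb x hx => mul_assoc _ _ x ▸ ha _ (hb x hx)
      one_mem' := by simp
      add_mem' := fun ha hb x hx => add_mul _ _ x ▸ add_mem (ha x hx) (hb x hx)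
      zero_mem' := by simp
      neg_mem' := fun ha x hx => neg_mul _ x ▸ neg_mem (ha x hx) }
  refine eq_top_iff.mpr fun x _ => ?_
  simpa [h0] using (h S ω hI h1 h2 ▸ Subring.mem_top (x / y) : x / y ∈ S) y hy

theorem Gen.sigma (h : Gen q K) {ζ : K} (h1 : ζ ^ q = 1) (h2 : ζ * ζ ≠ 1) (σ : K →+* K)
    (hσ : σ ζ * ζ = 1) : ∃ m, Nat.card K = m * m ∧
      Nat.card (σ.toAddMonoidHom + AddMonoidHom.id K).range = m ∧
      Nat.card (σ.toAddMonoidHom - AddMonoidHom.id K).range = m := by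
  have h0 : ζ ≠ 0 := right_ne_zero_of_mul_eq_one hσ
  have hζ : σ ζ = ζ⁻¹ := eq_inv_of_mul_eq_one_left hσ
  have hσ2 : ∀ x, σ (σ x) = x := fun x =>
    (h ((σ.comp σ).eqLocus (RingHom.id K)) ζ (by simp [RingHom.mem_eqLocus, hζ]) h1
      (fun e => h2 (by simp [e])) ▸ Subring.mem_top x : x ∈ (σ.comp σ).eqLocus (RingHom.id K))
  have hθ : ζ - ζ⁻¹ ≠ 0 := fun e => h2 (by rw [← mul_inv_cancel₀ h0, ← sub_eq_zero.mp e])
  have hθ' : σ (ζ - ζ⁻¹) = -(ζ - ζ⁻¹) := by simp [hζ]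
  set A := σ.toAddMonoidHom + AddMonoidHom.id K
  set B := σ.toAddMonoidHom - AddMonoidHom.id K
  have hA : ∀ x, A x = σ x + x := fun _ => rfl
  have hB : ∀ x, B x = σ x - x := fun _ => rfl
  have e1 : Nat.card A.ker = Nat.card B.ker := Nat.card_congr
    ((Equiv.mulRight₀ _ hθ).subtypeEquiv fun x => by
      simp only [AddMonoidHom.mem_ker, hA, hB, Equiv.mulRight₀_apply, map_mul, hθ']
      rw [show σ x * -(ζ - ζ⁻¹) - x * (ζ - ζ⁻¹) = -((σ x + x) * (ζ - ζ⁻¹)) by ring]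
      simp [hθ])
  obtain ⟨y, hy⟩ : ∃ y, σ y + y ≠ 0 := by
    by_contra hc
    push Not at hc
    have := hc 1
    refine hθ ?_
    rw [map_one] at this
    linear_combination ζ * this - hc ζ + hζ
  have e2 : A.range = B.ker := le_antisymm (by
    rintro _ ⟨x, rfl⟩
    simp [AddMonoidHom.mem_ker, hA, hB, hσ2, add_comm]) fun x hx => ⟨x / (σ y + y) * y, by
      rw [AddMonoidHom.mem_ker, hB, sub_eq_zero] at hx
      rw [hA, map_mul, map_div₀, map_add, hσ2, hx, add_comm y]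
      field_simp⟩
  have c1 := A.ker.card_mul_index
  have c2 := B.ker.card_mul_index
  rw [AddSubgroup.index_ker] at c1 c2
  refine ⟨_, by rw [← c1, e1, ← e2], rfl, Nat.eq_of_mul_eq_mul_left Nat.card_pos
    (c2.trans (by rw [← c1, e1]))⟩
end field

theorem map_commAut {A X Y : Type*} [Group A] [Group X] [Group Y] {φ : A →* MulAut X}
    {ψ : A →* MulAut Y} (f : X →* Y) (hf : ∀ a x, f (φ a x) = ψ a (f x)) (L : Subgroup X) :
    (commAut φ L).map f = commAut ψ (L.map f) := by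
  refine le_antisymm (map_le_iff_le_comap.mpr (commAut_le.mpr fun x hx a => ?_))
    (commAut_le.mpr ?_)
  · rw [mem_comap, map_mul, map_inv, hf]
    exact mem_commAut ψ (mem_map_of_mem f hx) a
  · rintro _ ⟨x, hx, rfl⟩ a
    exact ⟨_, mem_commAut φ hx a, by rw [map_mul, map_inv, hf]⟩

theorem pgroup_prod {p : ℕ} {P Q : Type*} [Group P] [Group Q] (h : IsPGroup p P) (k : IsPGroup p Q) :
    IsPGroup p (P × Q) := fun x => by
  obtain ⟨i, hi⟩ := h x.1
  obtain ⟨j, hj⟩ := k x.2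
  exact ⟨i + j, Prod.ext (by rw [Prod.pow_fst, pow_add, pow_mul, hi, one_pow]; rfl)
    (by rw [Prod.pow_snd, pow_add, mul_comm, pow_mul, hj, one_pow]; rfl)⟩

section grp
variable {K : Type*} [Field K] {C : Type*} [Group C] {P : Type*} [Group P]

structure Pre (p : ℕ) (c₀ : C) (ζ : K) (φ : C →* MulAut P) (π : P →* Multiplicative K) : Prop where
  pg : IsPGroup p P
  surj : Function.Surjective π
  eqv : ∀ x, (π (φ c₀ x)).toAdd = ζ * (π x).toAdd
  cen : π.ker ≤ center P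
  fix : π.ker ≤ fixAut φ

variable {p q : ℕ} {c₀ : C} {ζ : K} {φ : C →* MulAut P} {π : P →* Multiplicative K}

theorem Pre.eqv_pow (h : Pre p c₀ ζ φ π) (n : ℕ) (x : P) :
    (π (φ (c₀ ^ n) x)).toAdd = ζ ^ n * (π x).toAdd := by
  induction n with
  | zero => simp
  | succ n ih => rw [pow_succ', map_mul, MulAut.mul_apply, h.eqv, ih, pow_succ', mul_assoc]

theorem Pre.map_comm (h : Pre p c₀ ζ φ π) (h1 : ζ ≠ 1) : (commAut φ ⊤).map π = ⊤ :=
  eq_top_iff.mpr fun v _ => by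
    obtain ⟨x, hx⟩ := h.surj (Multiplicative.ofAdd (v.toAdd / (ζ - 1)))
    refine ⟨_, mem_commAut φ (mem_top x) c₀, Multiplicative.toAdd.injective ?_⟩
    have := sub_ne_zero.mpr h1
    simp only [map_mul, map_inv, toAdd_mul, toAdd_inv, h.eqv, hx, toAdd_ofAdd]
    field_simp
    ring

theorem Pre.comm_top [Finite P] (h : Pre p c₀ ζ φ π) (h1 : ζ ≠ 1) (h2 : π.ker ≤ frattini P) :
    commAut φ ⊤ = ⊤ := frattini_nongenerating (eq_top_iff.mpr (by
  refine le_trans ?_ (sup_le_sup_left h2 _)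
  rw [← comap_map_eq, h.map_comm h1, comap_top]))

theorem Pre.restr (h : Pre p c₀ ζ φ π) {L : Subgroup P} (hL : ∀ a, ∀ x ∈ L, φ a x ∈ L)
    (hs : L.map π = ⊤) : Pre p c₀ ζ (restrAut φ L hL) (π.comp L.subtype) where
  pg := h.pg.to_subgroup L
  surj := fun v => by
    obtain ⟨x, hx, rfl⟩ : v ∈ L.map π := hs ▸ mem_top v
    exact ⟨⟨x, hx⟩, rfl⟩
  eqv := fun x => h.eqv x
  cen := fun x hx => mem_center_iff.mpr fun y => Subtype.ext (mem_center_iff.mp (h.cen hx) y)
  fix := fun x hx a => Subtype.ext (h.fix hx a)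

variable [hp : Fact p.Prime] [Finite C] [Finite P]

theorem Pre.sub (h : Pre p c₀ ζ φ π) (hC : (Nat.card C).Coprime p) :
    commAut (restrAut φ _ (commAut_invariant φ ⊤)) ⊤ = ⊤ := by
  apply map_injective (commAut φ ⊤).subtype_injective
  rw [map_commAut (ψ := φ) _ fun _ _ => rfl, ← MonoidHom.range_eq_map, range_subtype]
  exact commAut_commAut φ (fun _ _ _ => trivial) (coprime_card_of_coprime_p (isPGroup_top h.pg) hC)
    (Or.inr (isSolvable_of_isPGroup (isPGroup_top h.pg)))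

theorem Pre.ker_le (h : Pre p c₀ ζ φ π) (hC : (Nat.card C).Coprime p) (ht : commAut φ ⊤ = ⊤) :
    π.ker ≤ commutator P :=
  h.fix.trans (fixAut_le_commutator φ (coprime_card_of_coprime_p h.pg hC) ht)

omit hp [Finite C] [Finite P] in
theorem Pre.comm_mem (h : Pre p c₀ ζ φ π) (x y : P) : ⁅x, y⁆ ∈ π.ker := by
  rw [MonoidHom.mem_ker, map_commutatorElement, comm_eq_one_iff]; exact Commute.all _ _

omit hp [Finite C] [Finite P] in
theorem Pre.comm_congr (h : Pre p c₀ ζ φ π) {x y x' y' : P} (hx : π x = π x') (hy : π y = π y') :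
    ⁅x, y⁆ = ⁅x', y'⁆ := by
  have key : ∀ x x' y : P, π x = π x' → ⁅x, y⁆ = ⁅x', y⁆ := fun x x' y hx => by
    have hz : x * x'⁻¹ ∈ center P := h.cen (by simp [MonoidHom.mem_ker, hx])
    rw [← inv_mul_cancel_right x x', comm_mul_left_of_commute (commute_of_mem_center hz _).symm,
      comm_eq_one_iff.mpr (commute_of_mem_center hz _).symm, mul_one]
  rw [key x x' y hx, ← commutatorElement_inv, key y y' x' hy, commutatorElement_inv]

omit [Finite C] in
theorem Pre.bound [Finite K] [CharP K p] (h : Pre p c₀ ζ φ π) (hK : Gen q K) (h1 : ζ ^ q = 1)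
    (h2 : ζ ≠ 1) (hq : q ≠ 0) : commutator P = ⊥ ∨
      ∃ m, Nat.card K = m * m ∧ Nat.card (commutator P) ≤ m := by
  obtain ⟨s, hs⟩ := h.surj.hasRightInverse
  have h0 : ζ ≠ 0 := fun e => by simp [e, hq] at h1
  have hc : ∀ w x y : P, Commute w ⁅x, y⁆ := fun w x y =>
    commute_of_mem_center (h.cen (h.comm_mem x y)) w
  let b : K → K → P := fun u v => ⁅s (.ofAdd u), s (.ofAdd v)⁆
  have hb : ∀ x y, ⁅x, y⁆ = b (π x).toAdd (π y).toAdd := fun x y =>
    h.comm_congr (hs _).symm (hs _).symm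
  have hst : ∀ u, (π (s (.ofAdd u))).toAdd = u := fun u => congrArg _ (hs _)
  have b1 : ∀ u u' v, b (u + u') v = b u v * b u' v := fun u u' v => by
    have := hb (s (.ofAdd u) * s (.ofAdd u')) (s (.ofAdd v))
    rw [map_mul, toAdd_mul, hst, hst, hst, comm_mul_left_of_commute (hc _ _ _)] at this
    exact this.symm.trans (hc _ _ _).eq.symm
  have b2 : ∀ u v v', b u (v + v') = b u v * b u v' := fun u v v' => by
    have := hb (s (.ofAdd u)) (s (.ofAdd v) * s (.ofAdd v'))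
    rw [map_mul, toAdd_mul, hst, hst, hst, comm_mul_right_of_commute (hc _ _ _)] at this
    exact this.symm
  have b3 : ∀ u v, b v u = (b u v)⁻¹ := fun u v => (commutatorElement_inv _ _).symm
  have b4 : ∀ u v, b (ζ * u) (ζ * v) = b u v := fun u v => by
    have := hb (φ c₀ (s (.ofAdd u))) (φ c₀ (s (.ofAdd v)))
    rw [h.eqv, h.eqv, hst, hst, ← map_commutatorElement, h.fix (h.comm_mem _ _)] at this
    exact this.symm
  have b5 : ∀ u, b u 0 = 1 := fun u => by simpa using b2 u 0 0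
  have b6 : ∀ u, b 0 u = 1 := fun u => by rw [b3, b5, inv_one]
  have b7 : ∀ u v, b u (-v) = (b u v)⁻¹ := fun u v =>
    eq_inv_of_mul_eq_one_left (by rw [← b2, neg_add_cancel, b5])
  have b8 : ∀ u v, b (-u) v = (b u v)⁻¹ := fun u v =>
    eq_inv_of_mul_eq_one_left (by rw [← b1, neg_add_cancel, b6])
  by_cases hb0 : ∀ u v, b u v = 1
  · exact Or.inl (eq_bot_iff.mpr (commutator_le.mpr fun x _ y _ => hb x y ▸ hb0 _ _))
  right
  let S : Subring K :=
    { carrier := {c | ∃ c', ∀ u v, b (c * u) v = b u (c' * v)}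
      mul_mem' := fun ⟨x, hx⟩ ⟨y, hy⟩ => ⟨y * x, fun u v => by rw [mul_assoc, hx, hy, mul_assoc]⟩
      one_mem' := ⟨1, by simp⟩
      add_mem' := fun ⟨x, hx⟩ ⟨y, hy⟩ => ⟨x + y, fun u v => by rw [add_mul, add_mul, b1, b2, hx, hy]⟩
      zero_mem' := ⟨0, by simp [b5, b6]⟩
      neg_mem' := fun ⟨x, hx⟩ => ⟨-x, fun u v => by rw [neg_mul, neg_mul, b7, b8, hx]⟩ }
  have hS := hK S ζ ⟨ζ⁻¹, fun u v => by rw [← b4 u, mul_inv_cancel_left₀ h0]⟩ h1 h2
  choose σ hσ using fun c => (hS ▸ Subring.mem_top c : c ∈ S)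
  have hu : ∀ c c', (∀ u v, b (c * u) v = b u (c' * v)) → σ c = c' := fun c c' hc => by
    by_contra hne
    refine hb0 fun u v => ?_
    rw [← mul_div_cancel₀ v (sub_ne_zero.mpr hne), sub_mul, sub_eq_add_neg, b2, b7, ← hσ, hc,
      mul_inv_cancel]
  let σ' : K →+* K :=
    { toFun := σ
      map_one' := hu _ _ (by simp)
      map_mul' := fun x y => hu _ _ fun u v => by
        rw [mul_assoc, hσ, hσ, ← mul_assoc, mul_comm (σ y)]
      map_zero' := hu _ _ (by simp [b5, b6])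
      map_add' := fun x y => hu _ _ fun u v => by rw [add_mul, add_mul, b1, b2, hσ, hσ] }
  have hζ : σ ζ = ζ⁻¹ := hu _ _ fun u v => by rw [← b4 u, mul_inv_cancel_left₀ h0]
  have hγ : ∀ u v, b u v = b 1 (σ u * v) := fun u v => by rw [← hσ, mul_one]
  have hγ2 : ∀ v, b 1 (σ v + v) = 1 := fun v => by
    rw [b2, b3 v, ← mul_one (σ v), ← hγ, mul_inv_cancel]
  have h3 : ζ * ζ ≠ 1 := fun e => by
    have e1 : ζ = -1 := (mul_self_eq_one_iff.mp e).resolve_left h2
    have e2 : (2 : K) ≠ 0 := fun e3 => h2 (by linear_combination e1 - e3)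
    have e3 : ∀ x, σ x = x := fun x => (hK (σ'.eqLocus (RingHom.id K)) ζ (by
      simp [RingHom.mem_eqLocus, e1]) h1 h2 ▸ Subring.mem_top x : x ∈ σ'.eqLocus (RingHom.id K))
    refine hb0 fun u v => ?_
    haveI := NeZero.mk e2
    rw [hγ, ← hγ2 (σ u * v / 2), e3 (_ / 2), add_halves]
  obtain ⟨m, m1, m2, -⟩ := hK.sigma h1 h3 σ' (by
    change σ ζ * ζ = 1
    rw [hζ, inv_mul_cancel₀ h0])
  let γ : K →+ Additive P := AddMonoidHom.mk' (fun v => .ofMul (b 1 v)) (b2 1)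
  have c1 := γ.ker.card_mul_index
  rw [AddSubgroup.index_ker] at c1
  have c2 : m ≤ Nat.card γ.ker := m2 ▸ AddSubgroup.card_le_of_le (by
    rintro _ ⟨v, rfl⟩; exact hγ2 v)
  have c3 : Nat.card (commutator P) ≤ Nat.card γ.range :=
    card_le_of_le (K := AddSubgroup.toSubgroup γ.range) (commutator_le.mpr fun x _ y _ =>
      ⟨_, (hγ _ _).symm.trans (hb x y).symm⟩)
  refine ⟨m, m1, c3.trans (Nat.le_of_mul_le_mul_left ?_ (Nat.card_pos (α := γ.ker)))⟩
  rw [c1, m1]
  exact Nat.mul_le_mul_right _ c2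

omit hp [Finite C] in
theorem Pre.card (h : Pre p c₀ ζ φ π) : Nat.card P = Nat.card π.ker * Nat.card K := by
  rw [← π.ker.card_mul_index, index_ker, MonoidHom.range_eq_top.mpr h.surj, card_top]
  rfl

theorem Pre.card_le [Finite K] [CharP K p] (h : Pre p c₀ ζ φ π) (hK : Gen q K) (h1 : ζ ^ q = 1)
    (h2 : ζ ≠ 1) (hq : q ≠ 0) (hC : (Nat.card C).Coprime p) (ht : commAut φ ⊤ = ⊤) {a : ℕ}
    (ha : Nat.card K = p ^ a) : Nat.card P ≤ p ^ (if a % 2 = 1 then a else 3 * a / 2) := by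
  have h3 := card_le_of_le (h.ker_le hC ht)
  rw [h.card, ha]
  rcases h.bound hK h1 h2 hq with e | ⟨m, m1, m2⟩
  · rw [e, card_bot] at h3
    refine (Nat.mul_le_mul_right _ h3).trans ?_
    rw [one_mul]
    exact Nat.pow_le_pow_right hp.out.pos (by split_ifs <;> omega)
  · obtain ⟨i, -, rfl⟩ := (Nat.dvd_prime_pow hp.out).mp (⟨m, ha.symm.trans m1⟩ : m ∣ p ^ a)
    rw [ha, ← pow_add, Nat.pow_right_inj hp.out.one_lt] at m1
    refine (Nat.mul_le_mul_right _ (h3.trans m2)).trans ?_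
    rw [← pow_add]
    exact Nat.pow_le_pow_right hp.out.pos (by split_ifs <;> omega)

theorem Pre.univ [Finite K] [CharP K p] (h : Pre p c₀ ζ φ π) (hK : Gen q K) (h1 : ζ ^ q = 1)
    (h2 : ζ ≠ 1) (hq : q ≠ 0) (hC : (Nat.card C).Coprime p) (ht : commAut φ ⊤ = ⊤) {a : ℕ}
    (hc : ∀ c, c ∈ zpowers c₀) (ha : Nat.card K = p ^ a) (hP : Nat.card P = p ^ (if a % 2 = 1 then a else 3 * a / 2))
    {Q : Type*} [Group Q] [Finite Q] {ψ : C →* MulAut Q} {ρ : Q →* Multiplicative K}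
    (k : Pre p c₀ ζ ψ ρ) (kt : commAut ψ ⊤ = ⊤) : ∃ θ : P →* Q, Function.Surjective θ ∧
      (∀ c x, θ (φ c x) = ψ c (θ x)) ∧ ∀ x, ρ (θ x) = π x := by
  let χ : C →* MulAut (P × Q) := MonoidHom.mk' (fun c => (φ c).prodCongr (ψ c))
    fun c d => MulEquiv.ext fun x => by simp [MulEquiv.prodCongr, Prod.ext_iff]
  let D := (π.comp (MonoidHom.fst P Q)).eqLocus (ρ.comp (MonoidHom.snd P Q))
  have hD : ∀ c, ∀ x ∈ D, χ c x ∈ D := fun c x hx => by
    obtain ⟨n, rfl⟩ := (mem_powers_iff_mem_zpowers).mpr (hc c)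
    exact Multiplicative.toAdd.injective ((h.eqv_pow n x.1).trans
      ((congrArg (fun v => ζ ^ n * Multiplicative.toAdd v) hx).trans (k.eqv_pow n x.2).symm))
  let f₀ := (MonoidHom.fst P Q).comp D.subtype
  let f₁ := (MonoidHom.snd P Q).comp D.subtype
  have s₀ : Function.Surjective f₀ := fun x => by
    obtain ⟨y, hy⟩ := k.surj (π x)
    exact ⟨⟨(x, y), hy.symm⟩, rfl⟩
  have s₁ : Function.Surjective f₁ := fun x => by
    obtain ⟨y, hy⟩ := h.surj (ρ x)
    exact ⟨⟨(y, x), hy⟩, rfl⟩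
  have d : Pre p c₀ ζ (restrAut χ D hD) (π.comp f₀) :=
    { pg := (pgroup_prod h.pg k.pg).to_subgroup D
      surj := h.surj.comp s₀
      eqv := fun x => h.eqv x.1.1
      cen := fun x hx => mem_center_iff.mpr fun y => Subtype.ext (Prod.ext
        (mem_center_iff.mp (h.cen hx) y.1.1) (mem_center_iff.mp (k.cen (x.2.symm.trans hx)) y.1.2))
      fix := fun x hx c => Subtype.ext (Prod.ext (h.fix hx c) (k.fix (x.2.symm.trans hx) c)) }
  set L := commAut (restrAut χ D hD) ⊤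
  have t₀ : Function.Surjective (f₀.comp L.subtype) := MonoidHom.range_eq_top.mp (by
    rw [MonoidHom.range_comp, range_subtype, map_commAut (ψ := φ) f₀ fun _ _ => rfl,
      map_top_of_surjective _ s₀, ht])
  have t₁ : Function.Surjective (f₁.comp L.subtype) := MonoidHom.range_eq_top.mp (by
    rw [MonoidHom.range_comp, range_subtype, map_commAut (ψ := ψ) f₁ fun _ _ => rfl,
      map_top_of_surjective _ s₁, kt])
  have c1 := (d.restr (commAut_invariant _ ⊤) (d.map_comm h2)).card_le hK h1 h2 hq hC (d.sub hC) ha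
  let e := MulEquiv.ofBijective (f₀.comp L.subtype) (t₀.bijective_of_nat_card_le (hP ▸ c1))
  refine ⟨(f₁.comp L.subtype).comp e.symm.toMonoidHom, t₁.comp e.symm.surjective,
    fun c x => ?_, fun x => ?_⟩
  · obtain ⟨y, rfl⟩ := e.surjective x
    rw [show φ c (e y) = e (restrAut _ L (commAut_invariant _ ⊤) c y) from rfl]
    simp only [MonoidHom.comp_apply, MulEquiv.coe_toMonoidHom, MulEquiv.symm_apply_apply]
    rfl
  · obtain ⟨y, rfl⟩ := e.surjective x
    simp only [MonoidHom.comp_apply, MulEquiv.coe_toMonoidHom, MulEquiv.symm_apply_apply]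
    exact y.1.2.symm

omit [Finite C] in
theorem exists_pi [Finite K] [CharP K p] [hq : Fact q.Prime] (hK : Gen q K) (h1 : IsPrimitiveRoot ζ q)
    (hP : IsPGroup p P) (hpq : p ≠ q) {α : MulAut P} (h : Schm q α) :
    ∃ ω : K, ω ^ q = 1 ∧ ω ≠ 1 ∧ ∃ π : P →* Multiplicative K, Function.Surjective π ∧
      (∀ x, (π (α x)).toAdd = ω * (π x).toAdd) ∧ π.ker ≤ frattini P := by
  haveI := h.nontrivial
  obtain ⟨M, hM, -⟩ := exists_isCoatom_ge (K := (⊥ : Subgroup P)) bot_ne_top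
  haveI := normal_of_isCoatom hP hM
  let e : P ⧸ M ≃* Multiplicative (ZMod p) := mulEquivOfPrimeCardEq (index_of_isCoatom hP hM) (by simp)
  haveI : Finite (Additive P →+ K) := DFunLike.finite _
  haveI : Module.Finite K (Additive P →+ K) := Module.Finite.of_finite
  haveI : Nontrivial (Additive P →+ K) := ⟨(ZMod.castHom dvd_rfl K).toAddMonoidHom.comp
    (MonoidHom.toAdditiveLeft (e.toMonoidHom.comp (QuotientGroup.mk' M))), 0, fun h0 => by
      obtain ⟨x, hx⟩ := (e.surjective.comp (QuotientGroup.mk'_surjective M)) (.ofAdd 1)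
      have := DFunLike.congr_fun h0 (.ofMul x)
      change ZMod.castHom dvd_rfl K (Multiplicative.toAdd ((e ∘ QuotientGroup.mk' M) x)) = 0 at this
      rw [hx, toAdd_ofAdd, map_one] at this
      exact one_ne_zero this⟩
  let T : Module.End K (Additive P →+ K) :=
    { toFun := fun f => f.comp (MonoidHom.toAdditive α.toMonoidHom)
      map_add' := fun _ _ => rfl
      map_smul' := fun _ _ => rfl }
  have hT : ∀ n : ℕ, ∀ f x, (T ^ n) f (.ofMul x) = f (.ofMul ((α ^ n) x)) := fun n => by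
    induction n with
    | zero => exact fun _ _ => rfl
    | succ n ih => exact fun f x => by rw [pow_succ, Module.End.mul_apply, ih, pow_succ']; rfl
  have hTq : minpoly K T ∣ Polynomial.X ^ q - Polynomial.C 1 := minpoly.dvd K T (by
    simp only [map_sub, map_pow, Polynomial.aeval_X, map_one, sub_eq_zero]
    ext f x
    exact (hT q f x).trans (by rw [h.pow]; rfl))
  obtain ⟨ω, hω⟩ := ((Polynomial.X_pow_sub_one_splits h1).of_dvd
    (Polynomial.X_pow_sub_C_ne_zero hq.out.pos 1) hTq).exists_eval_eq_zero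
    (minpoly.degree_pos (Algebra.IsIntegral.isIntegral T)).ne'
  obtain ⟨f, hf, hf0⟩ := (Module.End.hasEigenvalue_of_isRoot hω).exists_hasEigenvector
  have e1 : ∀ x, f (.ofMul (α x)) = ω * f (.ofMul x) := fun x =>
    DFunLike.congr_fun (Module.End.mem_eigenspace_iff.mp hf) (.ofMul x)
  have e2 : ω ^ q = 1 := by
    simpa [sub_eq_zero] using Polynomial.eval_eq_zero_of_dvd_of_eval_eq_zero hTq hω
  let π : P →* Multiplicative K := AddMonoidHom.toMultiplicativeRight f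
  have e3 : π.ker ≠ ⊤ := fun e => hf0 (AddMonoidHom.ext fun x => (e ▸ mem_top x.toMul : _ ∈ π.ker))
  have e5 := h.fix _ (fun x hx => (e1 x).trans (by
    rw [show f (.ofMul x) = 0 from hx, mul_zero]; rfl)) e3
  have e4 : ω ≠ 1 := fun e => h.ne (MulEquiv.ext fun x => by
    obtain ⟨k, hk⟩ := hP (x⁻¹ * α x)
    refine aut_apply_eq_of_fixed (Nat.card_zpowers α ▸ h.coprime hpq) (e5 _ ?_) hk
    change f (.ofMul (x⁻¹ * α x)) = 0
    rw [ofMul_mul, ofMul_inv, map_add, map_neg, e1, e, one_mul, neg_add_cancel])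
  obtain ⟨y, hy⟩ := DFunLike.ne_iff.mp hf0
  refine ⟨ω, e2, e4, π, fun v => ?_, e1, fun x hx => ((h.struct hP hpq).2.2 x).mp (e5 x hx)⟩
  exact (hK.add e2 e4 (I := f.range) (by rintro _ ⟨x, rfl⟩; exact ⟨_, e1 x.toMul⟩) ⟨y, rfl⟩ hy ▸
    AddSubgroup.mem_top v.toAdd : v.toAdd ∈ f.range)

theorem Pre.minimal [Finite K] [hq : Fact q.Prime] (h : Pre p c₀ ζ φ π) (hK : Gen q K)
    (h1 : ζ ^ q = 1) (h2 : ζ ≠ 1) (hpq : p ≠ q) {r : ℕ} (hC : Nat.card C = q ^ r)
    (hc : ∀ c, c ∈ zpowers c₀) (ht : commAut φ ⊤ = ⊤) :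
    ¬ HasNormalPComplement p (P ⋊[φ] C) ∧
      ∀ H : Subgroup (P ⋊[φ] C), H ≠ ⊤ → HasNormalPComplement p H := by
  haveI : Finite (P ⋊[φ] C) := Finite.of_equiv _ SemidirectProduct.equivProd.symm
  have hco : (Nat.card C).Coprime p :=
    hC ▸ ((Nat.coprime_primes hq.out hp.out).mpr hpq.symm).pow_left r
  have hcj : ∀ (g : P ⋊[φ] C) (u : P), g * .inl u * g⁻¹ = .inl (g.left * φ g.right u * g.left⁻¹) :=
    fun g u => by ext <;> simp
  have hI : IsPGroup p (SemidirectProduct.inl : P →* P ⋊[φ] C).range := h.pg.of_surjective _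
    (MonoidHom.rangeRestrict_surjective _)
  haveI : (SemidirectProduct.inl : P →* P ⋊[φ] C).range.Normal := by
    rw [SemidirectProduct.range_inl_eq_ker_rightHom]; infer_instance
  refine ⟨fun hn => ?_, fun H hH => CfsgH1.hasNormalPComplement_iff.mpr ?_⟩
  · have := (CfsgH1.hasNormalPComplement_iff_top.mp hn).mem_centralizer hI le_top
      (CfsgH1.mem_resIn (mem_top (SemidirectProduct.inr c₀)) (hco.coprime_dvd_left
        ((orderOf_map_dvd _ _).trans (_root_.orderOf_dvd_natCard _))))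
      (mem_normalizer_of_normal _ _)
    obtain ⟨x, hx⟩ := h.surj (.ofAdd 1)
    have e := congrArg SemidirectProduct.left (this _ ⟨x, rfl⟩)
    have e2 := h.eqv x
    simp at e
    rw [← e, hx] at e2
    exact h2 (by simpa using e2.symm)
  by_contra hn
  obtain ⟨S, hS⟩ := CfsgH1.exists_isSylowIn p H
  obtain ⟨U, hUS, g, hg, hgU, hgo, hgc⟩ := hS.exists_automizer_of_not_pNil hn
  have hUI : U ≤ SemidirectProduct.inl.range := fun u hu => by
    rw [SemidirectProduct.range_inl_eq_ker_rightHom, MonoidHom.mem_ker]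
    obtain ⟨k, hk⟩ := IsPGroup.exists_pow_eq_one hS.pgroup (hUS hu)
    exact eq_one_of_pow_coprime pow_card_eq_one' (by rw [← map_pow, hk, map_one]) (hco.pow_right k)
  obtain ⟨n, hn⟩ := (mem_powers_iff_mem_zpowers).mpr (hc g.right)
  replace hn : c₀ ^ n = g.right := hn
  have hπ : ∀ u, (π (g.left * φ g.right u * g.left⁻¹)).toAdd = ζ ^ n * (π u).toAdd := fun u => by
    rw [map_mul π, map_mul π, map_inv π, mul_inv_cancel_comm, ← hn, h.eqv_pow]
  have hZ : ∀ u ∈ π.ker, SemidirectProduct.inl u ∈ center (P ⋊[φ] C) := fun u hu =>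
    mem_center_iff.mpr fun y => mul_inv_eq_iff_eq_mul.mp (by
      rw [hcj, h.fix hu, mem_center_iff.mp (h.cen hu), mul_inv_cancel_right])
  have hω : ζ ^ n ≠ 1 := fun e => hgc fun u hu => by
    obtain ⟨u, rfl⟩ := hUI hu
    obtain ⟨k, hk⟩ := h.pg (u⁻¹ * (g.left * φ g.right u * g.left⁻¹))
    have e1 : (SemidirectProduct.inl u)⁻¹ * MulAut.conj g (.inl u) =
        .inl (u⁻¹ * (g.left * φ g.right u * g.left⁻¹)) := by
      rw [MulAut.conj_apply, hcj, map_mul _ u⁻¹, map_inv _ u]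
    have := aut_apply_eq_of_fixed (α := MulAut.conj g) (x := .inl u) (k := k)
      (hgo.coprime_dvd_left (orderOf_map_dvd _ _)) (by
        rw [e1, MulAut.conj_apply, mem_center_iff.mp (hZ _ (Multiplicative.toAdd.injective (by
          rw [map_mul, toAdd_mul, hπ, e]; simp))), mul_inv_cancel_right])
      (by rw [e1, ← map_pow, hk, map_one])
    exact (mul_inv_eq_iff_eq_mul.mp this).symm
  obtain ⟨y, hy, hy0⟩ : ∃ y ∈ U.comap SemidirectProduct.inl, π y ≠ 1 := by
    by_contra hcon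
    push Not at hcon
    refine hgc fun u hu => ?_
    obtain ⟨u, rfl⟩ := hUI hu
    exact (mem_center_iff.mp (hZ u (hcon u hu)) g).symm
  have e1 := hK.add (ω := ζ ^ n) (by rw [← pow_mul, mul_comm, pow_mul, h1, one_pow]) hω
    (I := Subgroup.toAddSubgroup' ((U.comap SemidirectProduct.inl).map π)) (by
      rintro _ ⟨x, hx, rfl⟩
      exact ⟨_, by rw [SetLike.mem_coe, mem_comap, ← hcj]; exact (mem_normalizer_iff.mp hgU _).mp hx,
        hπ x⟩) (y := (π y).toAdd) ⟨y, hy, rfl⟩ hy0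
  have e2 : U.comap SemidirectProduct.inl = ⊤ := frattini_nongenerating (eq_top_iff.mpr (by
    refine le_trans ?_ (sup_le_sup_left ((h.ker_le hco ht).trans (commutator_le_frattini h.pg)) _)
    rw [← comap_map_eq]
    exact fun x _ => (e1 ▸ AddSubgroup.mem_top (π x).toAdd : (π x).toAdd ∈ _)))
  have e3 : ∀ x, SemidirectProduct.inl x ∈ H := fun x => hS.le (hUS (e2 ▸ mem_top x : x ∈ _))
  have e4 : SemidirectProduct.inr g.right ∈ H := (mul_mem_cancel_left (e3 g.left)).mp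
    (by rwa [SemidirectProduct.inl_left_mul_inr_right])
  have e5 : c₀ ∈ zpowers g.right := by
    rw [← hn, mem_zpowers_pow_iff, orderOf_eq_card_of_forall_mem_zpowers hc, hC]
    refine Nat.Coprime.pow_right r ((Nat.Prime.coprime_iff_not_dvd hq.out).mpr ?_).symm
    rintro ⟨j, rfl⟩
    exact hω (by rw [pow_mul, h1, one_pow])
  refine hH (eq_top_iff.mpr fun x _ => ?_)
  rw [← x.inl_left_mul_inr_right]
  exact mul_mem (e3 _) ((zpowers_le.mpr (zpowers_le.mpr (show g.right ∈ H.comap _ from e4) e5))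
    (hc x.right))
end grp

section heis
variable {K : Type u} [Field K]

@[ext] structure Heis (σ : K →+ K) : Type u where
  x : K
  z : K

variable {σ : K →+ K}

instance mulHeis : Mul (Heis σ) := ⟨fun a b => ⟨a.x + b.x, a.z + b.z + a.x * σ b.x⟩⟩
instance oneHeis : One (Heis σ) := ⟨⟨0, 0⟩⟩
instance invHeis : Inv (Heis σ) := ⟨fun a => ⟨-a.x, -a.z + a.x * σ a.x⟩⟩
@[simp] theorem mul_x (a b : Heis σ) : (a * b).x = a.x + b.x := rfl
@[simp] theorem mul_z (a b : Heis σ) : (a * b).z = a.z + b.z + a.x * σ b.x := rfl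
@[simp] theorem one_x : (1 : Heis σ).x = 0 := rfl
@[simp] theorem one_z : (1 : Heis σ).z = 0 := rfl
@[simp] theorem inv_x (a : Heis σ) : a⁻¹.x = -a.x := rfl
@[simp] theorem inv_z (a : Heis σ) : a⁻¹.z = -a.z + a.x * σ a.x := rfl

instance groupHeis : Group (Heis σ) := Group.ofLeftAxioms
  (fun a b c => by ext <;> simp <;> ring) (fun a => by ext <;> simp) (fun a => by ext <;> simp)

def heisEquiv : Heis σ ≃ K × K := ⟨fun a => (a.x, a.z), fun a => ⟨a.1, a.2⟩, fun _ => rfl, fun _ => rfl⟩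

theorem exists_max [Finite K] {p q : ℕ} [hp : Fact p.Prime] [hq : Fact q.Prime] [CharP K p]
    (hK : Gen q K) {ζ : K} (h1 : ζ ^ q = 1) (h2 : ζ ≠ 1) {a : ℕ} (ha : Nat.card K = p ^ a)
    {C : Type} [Group C] [Finite C] {c₀ : C} (hc : ∀ c, c ∈ zpowers c₀) (hqC : q ∣ Nat.card C)
    (hC : (Nat.card C).Coprime p) (σ : K →+ K) (hσ : ∀ x, ζ * σ (ζ * x) = σ x)
    (hm : a % 2 = 1 ∨ σ 1 = 1 ∧ p ^ (a / 2) ≤ Nat.card (σ - AddMonoidHom.id K).range) :
    ∃ (P : Type u) (_ : Group P) (_ : Finite P) (φ : C →* MulAut P) (π : P →* Multiplicative K),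
      Pre p c₀ ζ φ π ∧ commAut φ ⊤ = ⊤ ∧ Nat.card P = p ^ (if a % 2 = 1 then a else 3 * a / 2) := by
  have h0 : ζ ≠ 0 := fun e => by simp [e, hq.out.ne_zero] at h1
  haveI : Finite (Heis σ) := Finite.of_equiv _ heisEquiv.symm
  let α : MulAut (Heis σ) :=
    { toFun := fun a => ⟨ζ * a.x, a.z⟩
      invFun := fun a => ⟨ζ⁻¹ * a.x, a.z⟩
      left_inv := fun a => by simp [h0]
      right_inv := fun a => by simp [h0]
      map_mul' := fun a b => by
        ext
        · simp [mul_add]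
        · simp [← hσ b.x]; ring }
  have hα : ∀ (n : ℕ) a, (α ^ n) a = ⟨ζ ^ n * a.x, a.z⟩ := fun n a => by
    induction n with
    | zero => simp
    | succ n ih => rw [pow_succ', MulAut.mul_apply, ih, pow_succ', mul_assoc]; rfl
  let φ : C →* MulAut (Heis σ) := monoidHomOfForallMemZpowers hc (g' := α)
    ((orderOf_dvd_of_pow_eq_one (MulEquiv.ext fun a => by simp [hα, h1])).trans
      (orderOf_eq_card_of_forall_mem_zpowers hc ▸ hqC))
  have hφ : φ c₀ = α := monoidHomOfForallMemZpowers_apply_gen _ _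
  let π : Heis σ →* Multiplicative K := MonoidHom.mk' (fun a => .ofAdd a.x) fun _ _ => rfl
  have h : Pre p c₀ ζ φ π :=
    { pg := IsPGroup.of_card (n := a + a) (by rw [Nat.card_congr heisEquiv, Nat.card_prod, ha, pow_add])
      surj := fun v => ⟨⟨v.toAdd, 0⟩, rfl⟩
      eqv := fun x => by rw [hφ]; rfl
      cen := fun x hx => mem_center_iff.mpr fun y => by
        ext <;> simp [show x.x = 0 from hx, add_comm]
      fix := fun x hx c => by
        obtain ⟨n, rfl⟩ := (mem_powers_iff_mem_zpowers).mpr (hc c)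
        ext <;> simp [hφ, hα, show x.x = 0 from hx] }
  have k := h.restr (commAut_invariant φ ⊤) (h.map_comm h2)
  refine ⟨_, _, inferInstance, _, _, k, h.sub hC,
    le_antisymm (k.card_le hK h1 h2 hq.out.ne_zero hC (h.sub hC) ha) ?_⟩
  rw [k.card, ha]
  split_ifs with h3
  · exact Nat.le_mul_of_pos_left _ Nat.card_pos
  rw [show 3 * a / 2 = a / 2 + a by omega, pow_add]
  refine Nat.mul_le_mul_right _ ((hm.resolve_left h3).2.trans ?_)
  have : ∀ z : (σ - AddMonoidHom.id K).range, (⟨0, z⟩ : Heis σ) ∈ commAut φ ⊤ := by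
    rintro ⟨_, v, rfl⟩
    obtain ⟨x, hx⟩ := k.surj (.ofAdd 1)
    obtain ⟨y, hy⟩ := k.surj (.ofAdd v)
    replace hx : x.1.x = 1 := hx
    replace hy : y.1.x = v := hy
    convert (⁅x, y⁆).2 using 1
    ext <;> simp [commutatorElement_def, hx, hy, (hm.resolve_left h3).1]
    ring
  exact Nat.card_le_card_of_injective (fun z => ⟨⟨_, this z⟩, rfl⟩)
    fun z w e => Subtype.ext (congrArg (fun y => y.1.1.z) e)
end heis

/-- Let p ≠ q be primes, r ≥ 1, a the multiplicative order of p modulo q, and a₀ = a when a is odd, a₀ = 3a/2 when a is even. Call a finite group minimal non-p-nilpotent when it has no normal p-complement but every proper subgroup has one. Then there is a minimal non-p-nilpotent group G₀ of order p^a₀ · q^r such that every minimal non-p-nilpotent group of order p^t · q^r (any t) is a quotient of G₀ by a central subgroup. -/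
theorem result (p q r : ℕ) [Fact p.Prime] [Fact q.Prime] (hpq : p ≠ q) (hr : 1 ≤ r) (a a₀ : ℕ)
    (ha : a = orderOf (p : ZMod q)) (ha₀ : a₀ = if a % 2 = 1 then a else 3 * a / 2) :
    ∃ (G₀ : Type u) (_ : Group G₀) (_ : Finite G₀),
      (¬ Cfsg.HasNormalPComplement p G₀ ∧ ∀ K : Subgroup G₀, K ≠ ⊤ → Cfsg.HasNormalPComplement p ↥K) ∧ Nat.card G₀ = p ^ a₀ * q ^ r ∧
      ∀ (X : Type u) [Group X] [Finite X], (¬ Cfsg.HasNormalPComplement p X ∧ ∀ K : Subgroup X, K ≠ ⊤ → Cfsg.HasNormalPComplement p ↥K) →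
        (∃ t : ℕ, Nat.card X = p ^ t * q ^ r) → ∃ φ : G₀ →* X, Function.Surjective φ ∧ φ.ker ≤ Subgroup.center G₀ := by
  have hp : p.Prime := Fact.out
  have hq : q.Prime := Fact.out
  have hp0 : (p : ZMod q) ≠ 0 := fun e =>
    hpq ((Nat.prime_dvd_prime_iff_eq hq hp).mp ((ZMod.natCast_eq_zero_iff _ _).mp e)).symm
  have ha0 : a ≠ 0 := ha ▸ (isOfFinOrder_iff_pow_eq_one.mpr
    ⟨q - 1, by have := hq.two_le; omega, ZMod.pow_card_sub_one_eq_one hp0⟩).orderOf_pos.ne'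
  let K := ULift.{u} (GaloisField p a)
  have hKc : Nat.card K = p ^ a := (Nat.card_ulift _).trans (GaloisField.card p a ha0)
  have hK : Gen q K := gen_of_card (ha ▸ hKc)
  have hdv : ∀ n, (p : ZMod q) ^ n = 1 ↔ q ∣ p ^ n - 1 := fun n => by
    rw [← ZMod.natCast_eq_zero_iff, Nat.cast_sub (Nat.one_le_pow _ _ hp.pos), sub_eq_zero,
      Nat.cast_pow, Nat.cast_one]
  obtain ⟨ζ', hζ'⟩ := exists_prime_orderOf_dvd_card' (G := Kˣ) q (by
    rw [Nat.card_units, hKc, ← hdv, ha, pow_orderOf_eq_one])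
  obtain ⟨ζ, hζ⟩ : ∃ ζ : K, IsPrimitiveRoot ζ q :=
    ⟨ζ', IsPrimitiveRoot.coe_units_iff.mpr (hζ' ▸ IsPrimitiveRoot.orderOf ζ')⟩
  have h1 := hζ.pow_eq_one
  have h2 := hζ.ne_one hq.one_lt
  haveI : NeZero (q ^ r) := ⟨pow_ne_zero r hq.ne_zero⟩
  let C := Multiplicative (ZMod (q ^ r))
  have hC : Nat.card C = q ^ r := Nat.card_zmod _
  obtain ⟨c₀, hc⟩ := IsCyclic.exists_generator (α := C)
  have hpq' := (Nat.coprime_primes hq hp).mpr hpq.symm
  have hco : (Nat.card C).Coprime p := hC ▸ hpq'.pow_left r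
  obtain ⟨σ, hσ, hm⟩ : ∃ σ : K →+ K, (∀ x, ζ * σ (ζ * x) = σ x) ∧
      (a % 2 = 1 ∨ σ 1 = 1 ∧ p ^ (a / 2) ≤ Nat.card (σ - AddMonoidHom.id K).range) := by
    by_cases h3 : a % 2 = 1
    · exact ⟨0, by simp, Or.inl h3⟩
    have e1 : (p : ZMod q) ^ (a / 2) ≠ 1 := pow_ne_one_of_lt_orderOf (by omega) (by omega)
    have e2 : (p : ZMod q) ^ (a / 2) = -1 := (mul_self_eq_one_iff.mp (by
      rw [← pow_add, show a / 2 + a / 2 = a by omega, ha, pow_orderOf_eq_one])).resolve_left e1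
    have e3 : iterateFrobenius K p (a / 2) ζ * ζ = 1 := by
      rw [iterateFrobenius_def, ← pow_succ, hζ.pow_eq_one_iff_dvd, ← ZMod.natCast_eq_zero_iff]
      simp [e2]
    obtain ⟨m, m1, -, m2⟩ := hK.sigma h1 (fun e => e1 (by
      have : q = 2 := (Nat.prime_dvd_prime_iff_eq hq Nat.prime_two).mp
        ((hζ.pow_eq_one_iff_dvd 2).mp (by rw [pow_two, e]))
      subst this
      rw [e2]; rfl)) _ e3
    refine ⟨(iterateFrobenius K p (a / 2)).toAddMonoidHom, fun x => ?_, Or.inr ⟨map_one (iterateFrobenius K p (a / 2)), ?_⟩⟩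
    · change ζ * iterateFrobenius K p (a / 2) (ζ * x) = _
      rw [map_mul, ← mul_assoc, mul_comm ζ, e3, one_mul]; rfl
    · rw [m2, ← Nat.mul_self_le_mul_self_iff, ← m1, hKc, ← pow_add]
      exact Nat.pow_le_pow_right hp.pos (by omega)
  obtain ⟨P, _, _, φ, π, h, ht, hP⟩ := exists_max hK h1 h2 hKc hc
    (hC ▸ dvd_pow_self q (by omega)) hco σ hσ hm
  refine ⟨P ⋊[φ] C, inferInstance, Finite.of_equiv _ SemidirectProduct.equivProd.symm,
    h.minimal hK h1 h2 hpq hC hc ht, by rw [SemidirectProduct.card, hP, hC, ha₀], ?_⟩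
  rintro X _ _ ⟨hX, hmin⟩ ⟨t, hXc⟩
  obtain ⟨S, hS⟩ := CfsgH1.exists_isSylowIn p (⊤ : Subgroup X)
  obtain ⟨U, hUS, g₀, -, hg₀U, hg₀, hg₀c⟩ := hS.exists_automizer_of_not_pNil
    fun h => hX (CfsgH1.hasNormalPComplement_iff_top.mpr h)
  have hU := hS.pgroup.to_le hUS
  have hg₀r : g₀ ^ q ^ r = 1 := orderOf_dvd_iff_pow_eq_one.mp
    ((hg₀.pow_right t).dvd_of_dvd_mul_left (hXc ▸ _root_.orderOf_dvd_natCard g₀))
  obtain ⟨hsup, _, hSch⟩ := schm_of_minimal hpq
    (fun K hK => CfsgH1.hasNormalPComplement_iff.mp (hmin K hK)) hU hg₀U hg₀r hg₀c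
  obtain ⟨ω, w1, w2, ρ, r1, r2, r3⟩ := exists_pi hK hζ hU hpq hSch
  haveI : NeZero q := ⟨hq.ne_zero⟩
  obtain ⟨k, -, hk⟩ := (orderOf_eq_prime w1 w2 ▸ IsPrimitiveRoot.orderOf ω :
    IsPrimitiveRoot ω q).eq_pow_of_pow_eq_one h1
  have hd : Disjoint U (zpowers g₀) := disjoint_of_coprime_card
    (coprime_card_of_coprime_p hU (Nat.card_zpowers g₀ ▸ hg₀)).symm
  have ho : orderOf g₀ = q ^ r := by
    refine Nat.dvd_antisymm (orderOf_dvd_of_pow_eq_one hg₀r) ?_
    have := card_sup_of_disjoint (H := zpowers g₀) (K := U) le_normalizer_of_normal hd.symm.eq_bot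
    rw [sup_comm, hsup, card_top, hXc, Nat.card_zpowers] at this
    exact (coprime_card_of_coprime_p hU (hpq'.pow_left r)).dvd_of_dvd_mul_right
      (this ▸ dvd_mul_left _ _)
  have hkq : k.Coprime (orderOf g₀) := by
    rw [ho]
    refine Nat.Coprime.pow_right r ((Nat.Prime.coprime_iff_not_dvd hq).mpr ?_).symm
    rintro ⟨j, rfl⟩
    exact h2 (by rw [← hk, pow_mul, w1, one_pow])
  let ι : C →* X := monoidHomOfForallMemZpowers hc (g' := g₀ ^ k) (by
    rw [orderOf_eq_card_of_forall_mem_zpowers hc, hC, ← ho]; exact orderOf_pow_dvd k)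
  have hι : ι c₀ = g₀ ^ k := monoidHomOfForallMemZpowers_apply_gen _ _
  have hιr : ι.range = zpowers g₀ := by
    rw [MonoidHom.range_eq_map, ← (eq_top_iff' _).mpr hc, MonoidHom.map_zpowers, hι]
    exact le_antisymm (zpowers_le.mpr (npow_mem_zpowers _ _))
      (zpowers_le.mpr (mem_zpowers_pow_iff.mpr hkq))
  have hιi : Function.Injective ι := by
    have := ι.ker.card_mul_index
    rw [index_ker, hιr, Nat.card_zpowers, ho, hC, mul_eq_right₀ (NeZero.ne _), card_eq_one] at this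
    exact (MonoidHom.ker_eq_bot_iff ι).mp this
  let ψ : C →* MulAut U := MulAut.conjNormal.comp ι
  have hst := hSch.struct hU hpq
  have k1 : Pre p c₀ ζ ψ ρ :=
    { pg := hU
      surj := r1
      eqv := fun x => by
        simp only [ψ, MonoidHom.comp_apply, hι, ← hk, map_pow]
        generalize k = n
        induction n with
        | zero => simp
        | succ n ih => rw [pow_succ', MulAut.mul_apply, r2, ih, pow_succ', mul_assoc]
      cen := r3.trans hst.2.1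
      fix := fun x hx c => mem_fixAut_zpowers.mpr ((hst.2.2 x).mpr (r3 hx)) ⟨ψ c, by
        rw [← MonoidHom.map_zpowers, ← hιr]; exact ⟨_, ⟨c, rfl⟩, rfl⟩⟩ }
  obtain ⟨θ, t1, t2, t3⟩ := h.univ hK h1 h2 hq.ne_zero hco ht hc hKc hP k1 (k1.comm_top h2 r3)
  refine ⟨SemidirectProduct.lift (U.subtype.comp θ) ι fun c => MonoidHom.ext fun x =>
    congrArg Subtype.val (t2 c x), fun y => ?_, fun y hy => ?_⟩
  · obtain ⟨u, hu, z, hz, rfl⟩ := (mem_sup_of_le_normalizer le_normalizer_of_normal).mp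
      (hsup ▸ mem_top y)
    obtain ⟨c, rfl⟩ : z ∈ ι.range := hιr ▸ hz
    obtain ⟨x, hx⟩ := t1 ⟨u, hu⟩
    exact ⟨⟨x, c⟩, congrArg (· * ι c) (congrArg Subtype.val hx)⟩
  · have e : (θ y.left : X) * ι y.right = 1 := hy
    have e1 : ι y.right = 1 := disjoint_def.mp hd
      (eq_inv_of_mul_eq_one_right e ▸ inv_mem (θ y.left).2) (hιr ▸ ⟨_, rfl⟩)
    have e2 : y.left ∈ π.ker := by
      rw [e1, mul_one, OneMemClass.coe_eq_one] at e
      rw [MonoidHom.mem_ker, ← t3, e, map_one]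
    have e3 : y.right = 1 := hιi (e1.trans (map_one ι).symm)
    refine mem_center_iff.mpr fun w => SemidirectProduct.ext ?_ (by simp [e3])
    simp [e3, show φ w.right y.left = y.left from h.fix e2 _, mem_center_iff.mp (h.cen e2)]

end Cfsg.Agent.S4395
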