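import Cfsg.Statements.S1903
import Cfsg.Agent.L0.Fitting
import Cfsg.Agent.H2.Small2
import Cfsg.Agent.S4395
import Cfsg.Agent.H1.PNil
import Cfsg.Agent.H7.PSUApi

set_option autoImplicit false
open Cfsg

namespace Cfsg.Agent.S1903
open Subgroup CfsgH2 CfsgL0
open scoped commutatorElement

section abs
variable {X : Type*} [Group X] [Finite X]

theorem card_modEq {U Q : Subgroup X} {q : ℕ} [Fact q.Prime] (hQ : IsPGroup q Q)
    (h : Q ≤ normalizer (U : Set X)) :
    Nat.card U ≡ Nat.card (U ⊓ centralizer (Q : Set X) : Subgroup X) [MOD q] := by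
  letI : MulAction Q U := MulAction.compHom U (conjAut h)
  refine (hQ.card_modEq_card_fixedPoints U).trans (congrArg (· % q) ?_)
  refine Nat.card_congr ⟨fun x => ⟨x.1, x.1.2, fun y hy => ?_⟩, fun x => ⟨⟨x.1, x.2.1⟩, fun y =>
    Subtype.ext ?_⟩, fun _ => rfl, fun _ => rfl⟩
  · exact mul_inv_eq_iff_eq_mul.mp (congrArg Subtype.val (x.2 ⟨y, hy⟩))
  · exact mul_inv_eq_iff_eq_mul.mpr (x.2.2 y y.2)

theorem minimal {P : Subgroup X} [P.Normal] (hX : Nat.card X = 320) (hP : Nat.card P = 64)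
    (hPX : P ≤ commutator X) (hZ : Nat.card (center P) = 4) :
    ¬ HasNormalPComplement 2 X ∧ ∀ K : Subgroup X, K ≠ ⊤ → HasNormalPComplement 2 K := by
  haveI : Fact (Nat.Prime 5) := ⟨by decide⟩
  have hP2 : IsPGroup 2 P := IsPGroup.of_card (n := 6) hP
  have hco : ∀ {g : X}, orderOf g = 5 → ∀ U ≤ P, zpowers g ⊓ U = ⊥ := fun hg U hU =>
    (disjoint_of_coprime_card (coprime_card_of_coprime_p (hP2.to_le hU)
      (by rw [Nat.card_zpowers, hg]; decide))).eq_bot
  have hsup : ∀ {g : X}, orderOf g = 5 → P ⊔ zpowers g = ⊤ := fun hg => by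
    rw [← card_eq_iff_eq_top, sup_comm, card_sup_of_disjoint le_normalizer_of_normal
      (hco hg P le_rfl), Nat.card_zpowers, hg, hP, hX]
  have key : ∀ {g : X}, orderOf g = 5 → ∀ (N : Subgroup X) [N.Normal], ⁅P, P⁆ ≤ N →
      ⁅P, zpowers g⁆ ≤ N → P ≤ N := fun {g} hg N _ h1 h2 =>
    hPX.trans (commutator_le_of_generators (s := P ∪ zpowers g)
      (by rw [Subgroup.closure_union, closure_eq, closure_eq, hsup hg]) (by
        rintro x (hx | hx) y (hy | hy)
        · exact h1 (commutator_mem_commutator hx hy)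
        · exact h2 (commutator_mem_commutator hx hy)
        · exact comm_mem_symm (h2 (commutator_mem_commutator hy hx))
        · rw [comm_eq_one_iff.mpr (isMulCommutative_iff.mp inferInstance x hx y hy)]
          exact one_mem _))
  refine ⟨fun h => ?_, fun K hK => CfsgH1.hasNormalPComplement_iff.mpr ?_⟩
  · obtain ⟨g, hg⟩ := exists_prime_orderOf_dvd_card' (G := X) 5 (by rw [hX]; decide)
    have h1 := (CfsgH1.hasNormalPComplement_iff_top.mp h).mem_centralizer hP2 le_top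
      (CfsgH1.mem_resIn (mem_top g) (by rw [hg]; decide)) (mem_normalizer_of_normal P g)
    refine CfsgH1.commutator_lt_of_isNilpotent hP2.isNilpotent le_rfl
      (fun e => by simp [e] at hP) (key hg _ le_rfl ?_)
    rw [commutator_eq_bot_iff_le_centralizer.mpr (le_centralizer_iff.mp (zpowers_le.mpr h1))]
    exact bot_le
  by_cases h5 : 5 ∣ Nat.card K
  swap
  · refine CfsgH1.pNil_of_isPGroup ((IsPGroup.iff_card.mpr ?_))
    have := ((Nat.Prime.coprime_iff_not_dvd (by decide)).mpr h5).symm.dvd_of_dvd_mul_right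
      (show Nat.card K ∣ 2 ^ 6 * 5 from (card_subgroup_dvd_card K).trans hX.dvd)
    obtain ⟨k, -, hk⟩ := (Nat.dvd_prime_pow Nat.prime_two).mp this
    exact ⟨k, hk⟩
  obtain ⟨⟨g, hgK⟩, hg⟩ := exists_prime_orderOf_dvd_card' (G := K) 5 h5
  replace hg : orderOf g = 5 := by rw [← hg, Subgroup.orderOf_mk]
  have hQ : IsPGroup 5 (zpowers g) := IsPGroup.of_card (n := 1) (by rw [Nat.card_zpowers, hg]; rfl)
  have hn : zpowers g ≤ normalizer ((P ⊓ K : Subgroup X) : Set X) :=
    le_normalizer_inf le_normalizer_of_normal ((zpowers_le.mpr hgK).trans le_normalizer)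
  have hne : P ⊓ K ≠ P := fun e => hK (top_le_iff.mp
    ((hsup hg).ge.trans (sup_le (inf_eq_left.mp e) (zpowers_le.mpr hgK))))
  have hU : P ⊓ K ≤ centralizer (zpowers g : Set X) := by
    set U := P ⊓ K
    have hUP : U ≤ P := inf_le_left
    obtain ⟨a, ha, ea⟩ := (Nat.dvd_prime_pow Nat.prime_two (m := 6)).mp
      ((card_dvd_of_le hUP).trans hP.dvd)
    obtain ⟨b, hb, eb⟩ := (Nat.dvd_prime_pow Nat.prime_two).mp
      ((card_dvd_of_le (inf_le_left : U ⊓ centralizer (zpowers g : Set X) ≤ U)).trans ea.dvd)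
    have h1 := card_modEq hQ hn
    have ha' : a ≠ 6 := fun e => hne (eq_of_le_of_card_ge hUP (by rw [ea, e, hP]; rfl))
    by_contra hc
    have hab : b ≠ a := fun e => hc (inf_eq_left.mp (eq_of_le_of_card_ge inf_le_left
      (by rw [ea, eb, e])))
    rw [ea, eb] at h1
    have : a = 4 ∧ b = 0 ∨ a = 5 := by
      interval_cases a <;> interval_cases b <;> simp_all [Nat.ModEq]
    rcases this with ⟨rfl, rfl⟩ | rfl
    · rw [card_center_eq] at hZ
      set Z := P ⊓ centralizer (P : Set X)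
      have h2 := card_modEq hQ (U := Z) le_normalizer_of_normal
      obtain ⟨c, hc, ec⟩ := (Nat.dvd_prime_pow Nat.prime_two (m := 2)).mp
        ((card_dvd_of_le (inf_le_left : Z ⊓ centralizer (zpowers g : Set X) ≤ Z)).trans hZ.dvd)
      rw [hZ, ec] at h2
      have h3 : Z ≤ centralizer (zpowers g : Set X) := inf_eq_left.mp (eq_of_le_of_card_ge
        inf_le_left (by rw [hZ, ec]; interval_cases c <;> simp_all [Nat.ModEq]))
      have h4 : Z ⊓ U = ⊥ := eq_bot_iff.mpr ((le_inf inf_le_right (inf_le_left.trans h3)).trans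
        (card_eq_one.mp eb).le)
      have hZU : Z ≤ normalizer (U : Set X) :=
        (inf_le_right.trans (centralizer_le hUP)).trans (centralizer_le_normalizer _)
      have h5 : Z ⊔ U = P := eq_of_le_of_card_ge (sup_le inf_le_left hUP)
        (by rw [card_sup_of_disjoint hZU h4, hZ, ea, hP]; rfl)
      obtain ⟨z, hz, hz1, -, hz2⟩ := exists_mem_centralizer_of_ne_bot hP2 hUP
        (h5.ge.trans (sup_le hZU le_normalizer)) (fun e => by simp [e] at ea)
      exact hz1 (mem_bot.mp (h4.le ⟨⟨hUP hz, hz2⟩, hz⟩))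
    · have hi : U.relIndex P = 2 := by
        have := card_mul_relIndex hUP
        rw [ea, hP] at this
        omega
      have hPU : P ≤ normalizer (U : Set X) := by
        haveI := normal_of_index_eq_two hi
        have := CfsgH2.le_normalizer_map_subtype (U.subgroupOf P)
        rwa [subgroupOf_map_subtype, inf_eq_left.mpr hUP] at this
      haveI : U.Normal := normalizer_eq_top_iff.mp (top_le_iff.mp
        ((hsup hg).ge.trans (sup_le hPU hn)))
      exact hne (le_antisymm hUP (key hg U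
        (commutator_le_of_relIndex_two hi le_normalizer hPU)
        (commutator_le_of_relIndex_two hi le_normalizer_of_normal hn)))
  refine CfsgH1.pNil_of_pow_mem (N := zpowers g) (by rw [Nat.card_zpowers, hg]; decide)
    fun x hx => ⟨6, ?_⟩
  obtain ⟨u, hu, y, hy, rfl⟩ := (mem_sup_of_le_normalizer le_normalizer_of_normal).mp
    ((hsup hg).ge (mem_top x))
  have hu' : u ∈ P ⊓ K := ⟨hu, (mul_mem_cancel_right (zpowers_le.mpr hgK hy)).mp hx⟩
  have : u ^ 2 ^ 6 = 1 := by
    simpa [hP] using congrArg Subtype.val (pow_card_eq_one' (x := (⟨u, hu⟩ : P)))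
  rw [(show Commute y u from hU hu' y hy).symm.mul_pow, this, one_mul]
  exact pow_mem hy _

theorem exists_small {P : Subgroup X} [P.Normal] (hX : Nat.card X = 320) (hP : Nat.card P = 64)
    (hPX : P ≤ commutator X) (hZ : Nat.card (center P) = 4) :
    ∃ (Y : Type) (_ : Group Y) (_ : Finite Y), Nonempty (X ≃* Y) ∧ Nat.card Y = 320 ∧
      ¬ HasNormalPComplement 2 Y ∧ ∀ K : Subgroup Y, K ≠ ⊤ → HasNormalPComplement 2 K := by
  let e : X ≃* Shrink.{0} X := (Shrink.mulEquiv).symm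
  haveI : Finite (Shrink.{0} X) := Finite.of_equiv _ e.toEquiv
  have hY : Nat.card (Shrink.{0} X) = 320 := by rw [← hX, Nat.card_congr e.toEquiv]
  haveI := Normal.map ‹P.Normal› e.toMonoidHom e.surjective
  refine ⟨_, _, inferInstance, ⟨e⟩, hY, minimal (P := P.map e.toMonoidHom) hY
    (by rw [card_map_of_injective e.injective, hP]) ?_ ?_⟩
  · rw [← map_commutator_eq_of_surj (f := e.toMonoidHom) e.surjective]
    exact map_mono hPX
  · rw [← hZ]
    exact Nat.card_congr (centerCongr (e.subgroupMap P)).toEquiv.symm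

theorem ord_two : 4 = orderOf ((2 : ℕ) : ZMod 5) :=
  (orderOf_eq_prime_pow (p := 2) (n := 1) (by decide) (by decide)).symm

theorem unique {X' : Type*} [Group X'] [Finite X'] {P : Subgroup X} [P.Normal]
    (hX : Nat.card X = 320) (hP : Nat.card P = 64) (hPX : P ≤ commutator X)
    (hZ : Nat.card (center P) = 4) {P' : Subgroup X'} [P'.Normal]
    (hX' : Nat.card X' = 320) (hP' : Nat.card P' = 64) (hPX' : P' ≤ commutator X')
    (hZ' : Nat.card (center P') = 4) : Nonempty (X ≃* X') := by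
  haveI : Fact (Nat.Prime 5) := ⟨by decide⟩
  obtain ⟨G₀, _, _, -, hc, h⟩ := Cfsg.Agent.S4395.result.{0} 2 5 1 (by decide) le_rfl 4 6
    ord_two rfl
  obtain ⟨Y, _, _, ⟨e⟩, hY, hm⟩ := exists_small hX hP hPX hZ
  obtain ⟨Y', _, _, ⟨e'⟩, hY', hm'⟩ := exists_small hX' hP' hPX' hZ'
  obtain ⟨f, hf, -⟩ := h Y hm ⟨6, hY⟩
  obtain ⟨f', hf', -⟩ := h Y' hm' ⟨6, hY'⟩
  exact ⟨e.trans ((MulEquiv.ofBijective f ((Nat.bijective_iff_surjective_and_card f).mpr
    ⟨hf, hc.trans hY.symm⟩)).symm.trans ((MulEquiv.ofBijective f'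
      ((Nat.bijective_iff_surjective_and_card f').mpr ⟨hf', hc.trans hY'.symm⟩)).trans e'.symm))⟩

end abs

section conc
open Matrix
variable {F : Type*} [Field F] [Fintype F] (hF : Fintype.card F = 16)
include hF

theorem two_eq : (2 : F) = 0 := by
  have h := FiniteField.cast_card_eq_zero F
  rw [hF] at h
  exact pow_eq_zero_iff (n := 4) (by decide) |>.mp (by rw [← h]; norm_num)

theorem p16 (x : F) : x ^ 16 = x := by rw [← hF, FiniteField.pow_card]

theorem add4 (x y : F) : (x + y) ^ 4 = x ^ 4 + y ^ 4 := by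
  linear_combination (2 * x ^ 3 * y + 3 * x ^ 2 * y ^ 2 + 2 * x * y ^ 3) * two_eq hF

theorem memSU (g : SpecialLinearGroup (Fin 3) F) :
    g ∈ SU 3 F 4 ↔ ((g : Matrix (Fin 3) (Fin 3) F).map (· ^ 4))ᵀ * g = 1 := by
  obtain ⟨σ, hσ, -⟩ := CfsgH7.exists_qfrob (K := F) (q := 4) hF
  rw [CfsgH7.mem_SU_iff hσ, CfsgH7.ct_apply, show (σ : F → F) = (· ^ 4) from funext hσ]

/-- the matrices of the centralizer -/
def mat (s c a : F) : Matrix (Fin 3) (Fin 3) F :=
  !![a, a + s, c; a + s, a, c; (c * s) ^ 4, (c * s) ^ 4, s ^ 3]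

/-- the element with given parameters -/
def elt (s c a : F) (hs : s ^ 5 = 1) (h : a * s ^ 4 + a ^ 4 * s = c ^ 5) : SU 3 F 4 :=
  ⟨⟨mat s c a, by
    rw [mat, det_fin_three]
    simp
    linear_combination hs - (s ^ 5 + a * s ^ 4 - c ^ 5 * s ^ 5) * two_eq hF⟩, (memSU hF _).mpr (by
      have h2 := two_eq hF
      ext i j
      fin_cases i <;> fin_cases j <;>
        simp [mat, Matrix.mul_apply, Fin.sum_univ_three, add4 hF, ← pow_mul, p16 hF] <;> grind)⟩

/-- the involution -/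
def tt : SU 3 F 4 := elt hF 1 0 0 (by simp) (by simp)

/-- its centralizer -/
abbrev CC : Subgroup (SU 3 F 4) := centralizer {tt hF}

omit hF in
theorem ext_SU {g h : SU 3 F 4} (e : (g.1 : Matrix (Fin 3) (Fin 3) F) = h.1) : g = h :=
  Subtype.ext (Subtype.ext e)

theorem elt_mem (s c a : F) (hs : s ^ 5 = 1) (h : a * s ^ 4 + a ^ 4 * s = c ^ 5) :
    elt hF s c a hs h ∈ CC hF := mem_centralizer_singleton_iff.mpr (ext_SU (by
  change mat s c a * mat 1 0 0 = mat 1 0 0 * mat s c a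
  ext i j
  fin_cases i <;> fin_cases j <;> simp [mat, Matrix.mul_apply, Fin.sum_univ_three]))

variable {hF}

/-- coordinates -/
def cS (g : CC hF) : F := g.1.1 0 0 + g.1.1 0 1
/-- coordinates -/
def cC (g : CC hF) : F := g.1.1 0 2
/-- coordinates -/
def cA (g : CC hF) : F := g.1.1 0 0

theorem shape (g : CC hF) : cS g ^ 5 = 1 ∧ cA g * cS g ^ 4 + cA g ^ 4 * cS g = cC g ^ 5 ∧
    (g.1.1 : Matrix (Fin 3) (Fin 3) F) = mat (cS g) (cC g) (cA g) := by
  have h2 := two_eq hF
  have h1 : (g.1.1 : Matrix (Fin 3) (Fin 3) F) * mat 1 0 0 = mat (1 : F) 0 0 * g.1.1.1 :=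
    congrArg (fun x : SU 3 F 4 => (x.1 : Matrix (Fin 3) (Fin 3) F))
      (mem_centralizer_singleton_iff.mp g.2)
  have h3 := (memSU hF _).mp g.1.2
  have h4 := g.1.1.det_coe
  unfold cS cC cA
  generalize (g.1.1 : Matrix (Fin 3) (Fin 3) F) = M at *
  have a1 := congrFun (congrFun h1 0) 0
  have a2 := congrFun (congrFun h1 0) 1
  have a3 := congrFun (congrFun h1 0) 2
  have a4 := congrFun (congrFun h1 2) 0
  have b1 := congrFun (congrFun h3 0) 0
  have b2 := congrFun (congrFun h3 0) 1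
  have b3 := congrFun (congrFun h3 2) 0
  simp [mat, Matrix.mul_apply, Fin.sum_univ_three] at a1 a2 a3 a4 b1 b2 b3
  rw [det_fin_three] at h4
  rw [← a1, ← a2, ← a3, a4] at h4
  rw [← a1, ← a2, a4] at b2
  rw [← a1] at b1
  rw [← a1, ← a3] at b3
  have c1 : (M 0 0 + M 0 1) ^ 5 = 1 := by
    rw [pow_succ, add4 hF]
    linear_combination b1 + b2 - M 2 0 ^ 5 * h2
  have c0 : (M 0 0 + M 0 1) ^ 2 * M 2 2 = 1 := by
    linear_combination h4 + (M 0 0 * M 0 1 * M 2 2 + M 0 1 ^ 2 * M 2 2 + M 0 0 * M 0 2 * M 2 0 -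
      M 0 1 * M 0 2 * M 2 0) * h2
  have c2 : M 2 2 = (M 0 0 + M 0 1) ^ 3 := by
    linear_combination (M 0 0 + M 0 1) ^ 3 * c0 - M 2 2 * c1
  have c3 : M 2 0 = (M 0 2 * (M 0 0 + M 0 1)) ^ 4 := by
    rw [c2] at b3
    linear_combination (M 0 0 + M 0 1) ^ 3 * b3 - (M 0 2 * (M 0 0 + M 0 1)) ^ 4 * h2 -
      M 2 0 * ((M 0 0 + M 0 1) ^ 10 + (M 0 0 + M 0 1) ^ 5 + 1) * c1
  refine ⟨c1, ?_, ?_⟩
  · have c4 : M 2 0 ^ 5 = M 0 2 ^ 5 := by
      rw [c3, ← pow_mul, mul_pow, show 4 * 5 = 5 * 4 from rfl, pow_mul (_ + _), c1, one_pow,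
        mul_one, show 5 * 4 = 16 + 4 from rfl, pow_add, p16 hF]
      ring
    rw [add4 hF]
    linear_combination b2 + c4 + (M 0 0 ^ 5 - M 2 0 ^ 5) * h2
  · have c5 : M 0 1 = M 0 0 + (M 0 0 + M 0 1) := by linear_combination - M 0 0 * h2
    ext i j
    fin_cases i <;> fin_cases j
    exacts [rfl, c5, rfl, a1.symm.trans c5, a2.symm, a3.symm, c3, a4.trans c3, c2]

theorem cext {g h : CC hF} (h1 : cS g = cS h) (h2 : cC g = cC h) (h3 : cA g = cA h) : g = h :=
  Subtype.ext (ext_SU (by rw [(shape g).2.2, (shape h).2.2, h1, h2, h3]))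

theorem mul_coe (g h : CC hF) : ((g * h).1.1 : Matrix (Fin 3) (Fin 3) F) =
    mat (cS g) (cC g) (cA g) * mat (cS h) (cC h) (cA h) := by
  rw [← (shape g).2.2, ← (shape h).2.2]; rfl

theorem cA_mul (g h : CC hF) : cA (g * h) =
    cA g * cA h + (cA g + cS g) * (cA h + cS h) + cC g * (cC h * cS h) ^ 4 := by
  rw [cA, mul_coe]
  simp [mat, Matrix.mul_apply, Fin.sum_univ_three]

theorem cC_mul (g h : CC hF) : cC (g * h) = cS g * cC h + cC g * cS h ^ 3 := by
  rw [cC, mul_coe]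
  simp [mat, Matrix.mul_apply, Fin.sum_univ_three]
  linear_combination cA g * cC h * two_eq hF

theorem cS_mul (g h : CC hF) : cS (g * h) = cS g * cS h := by
  rw [cS, mul_coe]
  simp [mat, Matrix.mul_apply, Fin.sum_univ_three]
  linear_combination (2 * cA g * cA h + cA g * cS h + cS g * cA h +
    cC g * (cC h * cS h) ^ 4) * two_eq hF

/-- the multiplier -/
def chi : CC hF →* F where
  toFun := cS
  map_one' := by simp [cS]
  map_mul' := cS_mul

/-- the normal Sylow subgroup -/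
abbrev PP : Subgroup (CC hF) := (chi (hF := hF)).toHomUnits.ker

theorem mem_PP {g : CC hF} : g ∈ PP ↔ cS g = 1 := by
  rw [MonoidHom.mem_ker, ← Units.val_inj]; rfl

/-- projection to the additive group -/
def pr : (PP (hF := hF)) →* Multiplicative F where
  toFun g := .ofAdd (cC g.1)
  map_one' := by simp [cC]
  map_mul' := fun g h => by
    rw [← ofAdd_add, coe_mul, cC_mul, mem_PP.mp g.2, mem_PP.mp h.2]; congr 1; ring

variable (hF)

theorem trace : Nat.card {x : F // x ^ 4 = x} = 4 ∧ ∀ y : F, y ^ 4 = y → ∃ x, x + x ^ 4 = y := by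
  classical
  let τ : F →+ F := AddMonoidHom.mk' (fun x => x + x ^ 4) fun x y => by rw [add4 hF]; ring
  have h2 := two_eq hF
  have hk : ∀ x, x ∈ τ.ker ↔ x ^ 4 = x := fun x =>
    ⟨fun h => by have h' : x + x ^ 4 = 0 := h; linear_combination h' - x * h2,
      fun h => show x + x ^ 4 = 0 by linear_combination h + x * h2⟩
  have hr : τ.range ≤ τ.ker := by
    rintro _ ⟨x, rfl⟩
    rw [hk]
    change (x + x ^ 4) ^ 4 = x + x ^ 4
    rw [add4 hF, ← pow_mul, p16 hF, add_comm]
  have h1 : Nat.card τ.ker ≤ 4 := by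
    have := Polynomial.card_le_degree_of_subset_roots (p := Polynomial.X ^ 4 - Polynomial.X)
      (Z := Finset.univ.filter fun x : F => x ∈ τ.ker) fun x hx => by
        rw [Polynomial.mem_roots (FiniteField.X_pow_card_sub_X_ne_zero F (by decide))]
        simpa [hk, sub_eq_zero] using hx
    rwa [FiniteField.X_pow_card_sub_X_natDegree_eq F (by decide), ← Fintype.card_subtype,
      ← Nat.card_eq_fintype_card] at this
  have h3 := τ.ker.card_mul_index
  rw [AddSubgroup.index_ker, Nat.card_eq_fintype_card (α := F), hF] at h3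
  have h4 := AddSubgroup.card_le_of_le hr
  have h5 : Nat.card τ.ker = 4 := by nlinarith
  exact ⟨(Nat.card_congr (Equiv.subtypeEquivRight hk).symm).trans h5, fun y hy =>
    (AddSubgroup.eq_of_le_of_card_ge hr (by nlinarith)).ge ((hk y).mpr hy)⟩

theorem exists_elt (c : F) : ∃ g : PP (hF := hF), cC g.1 = c := by
  obtain ⟨a, ha⟩ := (trace hF).2 (c ^ 5) (by
    rw [← pow_mul, show 5 * 4 = 16 + 4 from rfl, pow_add, p16 hF]; ring)
  exact ⟨⟨⟨elt hF 1 c a (by simp) (by simpa using ha), elt_mem _ _ _ _ _ _⟩, mem_PP.mpr (by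
    change a + (a + 1) = 1
    linear_combination a * two_eq hF)⟩, rfl⟩

theorem card_ker : Nat.card (pr (hF := hF)).ker = 4 := by
  refine Eq.trans ?_ (trace hF).1
  have h2 := two_eq hF
  refine Nat.card_congr ⟨fun g => ⟨cA g.1.1, ?_⟩, fun a => ⟨⟨⟨elt hF 1 0 a (by simp) ?_,
    elt_mem _ _ _ _ _ _⟩, mem_PP.mpr ?_⟩, rfl⟩, fun g => Subtype.ext (Subtype.ext (cext ?_ ?_ rfl)),
    fun _ => rfl⟩
  · have := (shape g.1.1).2.1
    rw [mem_PP.mp g.1.2, show cC g.1.1 = 0 from g.2] at this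
    linear_combination this - cA g.1.1 * h2
  · linear_combination a.2 + a.1 * h2
  · change a.1 + (a.1 + 1) = 1
    linear_combination a.1 * h2
  · exact (mem_PP.mp (Subtype.prop _)).trans (mem_PP.mp g.1.2).symm
  · exact (show cC g.1.1 = 0 from g.2).symm

theorem facts : Nat.card (CC hF) = 320 ∧ Nat.card (PP (hF := hF)) = 64 ∧
    PP ≤ commutator (CC hF) ∧ Nat.card (center (PP (hF := hF))) = 4 := by
  have h2 := two_eq hF
  haveI : Fact (Nat.Prime 5) := ⟨by decide⟩
  obtain ⟨ζ', hζ'⟩ := exists_prime_orderOf_dvd_card' (G := Fˣ) 5 (by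
    rw [Nat.card_units, Nat.card_eq_fintype_card, hF]; decide)
  have hζ : IsPrimitiveRoot (ζ' : F) 5 :=
    IsPrimitiveRoot.coe_units_iff.mpr (hζ' ▸ IsPrimitiveRoot.orderOf ζ')
  have z5 := hζ.pow_eq_one
  have z3 : (ζ' : F) ^ 3 + 1 ≠ 0 := fun h =>
    hζ.pow_ne_one_of_pos_of_lt (l := 3) (by decide) (by decide) (by linear_combination h - h2)
  let D : CC hF := ⟨elt hF ζ' 0 ζ' z5 (by linear_combination ζ'.1 ^ 5 * h2), elt_mem _ _ _ _ _ _⟩
  have hS : cS D = ζ' := by
    change ζ'.1 + (ζ'.1 + ζ'.1) = ζ'.1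
    linear_combination ζ'.1 * h2
  have hC : cC D = 0 := rfl
  have hP : Nat.card (PP (hF := hF)) = 64 := by
    rw [← pr.ker.card_mul_index, index_ker, card_ker, MonoidHom.range_eq_top.mpr
      fun c => exists_elt hF c.toAdd, card_top, Nat.card_eq_fintype_card, Fintype.card_multiplicative,
      hF]
  have hZ : ∀ x y : PP (hF := hF), cA (⁅x, y⁆ : PP).1 = cC x.1 * cC y.1 ^ 4 + cC y.1 * cC x.1 ^ 4 + 1 :=
    fun x y => by
    have h1 := congrArg (fun g : PP (hF := hF) => cA g.1) (mul_eq_comm_mul x y)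
    have h3 : cC (⁅x, y⁆ : PP).1 = 0 := show pr ⁅x, y⁆ = 1 by
      rw [map_commutatorElement, comm_eq_one_iff]; exact Commute.all _ _
    simp only [coe_mul, cA_mul, cC_mul, cS_mul, h3, mem_PP.mp (Subtype.prop _)] at h1
    generalize cA (⁅x, y⁆ : PP).1 = w at *
    grind
  refine ⟨?_, hP, fun g hg => ?_, ?_⟩
  · rw [← PP.card_mul_index, hP, index_ker, show chi.toHomUnits.range = zpowers ζ' from ?_,
      Nat.card_zpowers, hζ']
    refine le_antisymm ?_ (zpowers_le.mpr ⟨D, Units.ext hS⟩)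
    rintro _ ⟨g, rfl⟩
    obtain ⟨i, -, hi⟩ := hζ.eq_pow_of_pow_eq_one (shape g).1
    exact ⟨i, Units.ext (by simpa [chi] using hi)⟩
  · obtain ⟨x, hx⟩ := exists_elt hF (cC g / (ζ' ^ 3 + 1))
    have h1 : cS ⁅D, x.1⁆ = 1 := show chi ⁅D, x.1⁆ = 1 by
      rw [← MonoidHom.coe_toHomUnits, map_commutatorElement, comm_eq_one_iff.mpr (Commute.all _ _)]
      rfl
    have h3 : cC ⁅D, x.1⁆ = cC g := by
      have := congrArg cC (mul_eq_comm_mul D x.1)
      simp only [cC_mul, cS_mul, h1, hS, hC, mem_PP.mp x.2] at this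
      rw [eq_div_iff z3] at hx
      linear_combination hx - ζ'.1 ^ 2 * this - (cC x.1 + cC ⁅D, x.1⁆) * z5 - cC x.1 * h2
    let u : PP := ⟨g, hg⟩ * (⟨_, mem_PP.mpr h1⟩ : PP)⁻¹
    have hu : u ∈ pr.ker := by
      rw [MonoidHom.mem_ker, map_mul, map_inv, mul_inv_eq_one]
      exact congrArg Multiplicative.ofAdd h3.symm
    have h4 := (shape u.1).2.1
    rw [mem_PP.mp u.2, show cC u.1 = 0 from hu] at h4
    obtain ⟨c, hc⟩ := (trace hF).2 (cA u.1 + 1) (by
      rw [add4 hF]; linear_combination h4 - cA u.1 * h2)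
    obtain ⟨y, hy⟩ := exists_elt hF c
    obtain ⟨y', hy'⟩ := exists_elt hF 1
    have h5 : u.1 = (⁅y, y'⁆ : PP).1 := cext ((mem_PP.mp u.2).trans (mem_PP.mp (Subtype.prop _)).symm)
      ((show cC u.1 = 0 from hu).trans (show pr ⁅y, y'⁆ = 1 by
        rw [map_commutatorElement, comm_eq_one_iff]; exact Commute.all _ _).symm)
      (by rw [hZ, hy, hy']; linear_combination - hc - h2)
    have h6 : g = u.1 * ⁅D, x.1⁆ := (inv_mul_cancel_right _ _).symm
    rw [h6, h5]
    exact mul_mem (comm_mem_commutator y.1 y'.1) (comm_mem_commutator _ _)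
  · rw [show center (PP (hF := hF)) = pr.ker from ?_, card_ker hF]
    ext z
    constructor
    · intro hz
      have h1 : ∀ c : F, cC z.1 * c ^ 4 + c * cC z.1 ^ 4 = 0 := fun c => by
        obtain ⟨y, rfl⟩ := exists_elt hF c
        have := hZ z y
        rw [comm_eq_one_iff.mpr (commute_of_mem_center hz y).symm,
          show cA (1 : PP (hF := hF)).1 = 1 by simp [cA]] at this
        linear_combination -this
      refine (mul_eq_zero.mp (show cC z.1 * (ζ' ^ 3 + 1) = 0 from ?_)).resolve_right z3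
      linear_combination ζ'.1 ^ 4 * h1 ζ' - h1 1 - (cC z.1 * ζ'.1 ^ 3 + cC z.1 ^ 4) * z5 +
        cC z.1 * h2
    · intro hz
      have h1 : cC z.1 = 0 := hz
      refine mem_center_iff.mpr fun y => Subtype.ext (cext ?_ ?_ ?_)
      · simp only [coe_mul, cS_mul, mul_comm]
      · simp only [coe_mul, cC_mul, h1, mem_PP.mp (Subtype.prop _)]; ring
      · simp only [coe_mul, cA_mul, h1, mem_PP.mp (Subtype.prop _)]; ring

theorem center_SU : center (SU 3 F 4) = ⊥ := by
  obtain ⟨σ, hσ, h2⟩ := CfsgH7.exists_qfrob (K := F) (q := 4) hF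
  obtain ⟨P, -, -, hP⟩ := CfsgH7.exists_polarSU (n := 3) hσ h2 (by decide)
  refine eq_bot_iff.mpr fun g hg => ext_SU ?_
  obtain ⟨c, hc⟩ := (CfsgH7.Polar.mem_center_iff_scalar (P := P)).mp hg
  have h1 : (g.1 : Matrix (Fin 3) (Fin 3) F) = c • 1 := Matrix.ext_of_mulVec_single fun i => by
    rw [← hP, hc, smul_mulVec, one_mulVec]
  have h3 := congrFun (congrFun ((memSU hF _).mp g.2) 0) 0
  have h4 := g.1.det_coe
  rw [h1] at h3 h4
  simp [Matrix.mul_apply, Fin.sum_univ_three] at h3 h4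
  rw [h1, show c = 1 by linear_combination (c ^ 3 + 1) * h4 - c * h3]
  simp

end conc

/-- A finite group of order 320 whose derived subgroup has order 64 and has centre a Klein four-group is isomorphic to the centralizer of an involution in PSU₃(4). -/
theorem result {G : Type*} [Group G] [Finite G] (hG : Nat.card G = 320) (hD : Nat.card (commutator G) = 64)
    (hZ : IsKleinFour (Subgroup.center (commutator G)))
    {F : Type*} [Field F] [Fintype F] (hF : Fintype.card F = 16) :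
    ∃ t : Cfsg.PSU 3 F 4, orderOf t = 2 ∧ Nonempty (G ≃* Subgroup.centralizer ({t} : Set (Cfsg.PSU 3 F 4))) := by
  haveI : Finite (SU 3 F 4) := inferInstance
  obtain ⟨h1, h2, h3, h4⟩ := facts hF
  obtain ⟨e⟩ := unique hG hD le_rfl hZ.card_four h1 h2 h3 h4
  let f : SU 3 F 4 ≃* PSU 3 F 4 := MulEquiv.ofBijective (QuotientGroup.mk' _)
    ⟨(MonoidHom.ker_eq_bot_iff _).mp (by rw [QuotientGroup.ker_mk', center_SU hF]),
      QuotientGroup.mk'_surjective _⟩
  refine ⟨f (tt hF), ?_, ⟨e.trans ((f.subgroupMap _).trans (MulEquiv.subgroupCongr ?_))⟩⟩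
  · rw [f.orderOf_eq]
    refine orderOf_eq_prime (ext_SU ?_) fun h => ?_
    · rw [pow_two]
      change mat (1 : F) 0 0 * mat 1 0 0 = 1
      ext i j
      fin_cases i <;> fin_cases j <;> simp [mat, Matrix.mul_apply, Fin.sum_univ_three]
    · simpa [tt, elt, mat] using congrArg (fun g : SU 3 F 4 => g.1.1 0 0) h
  · ext x
    obtain ⟨x, rfl⟩ := f.surjective x
    erw [mem_map_iff_mem f.injective]
    simp only [mem_centralizer_singleton_iff, ← map_mul, f.injective.eq_iff]

end Cfsg.Agent.S1903
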