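import Cfsg.Statements.S1907
import Cfsg.Agent.H1.Centric
import Cfsg.Agent.H2.Coprime2

set_option autoImplicit false
open Cfsg

namespace Cfsg.Agent.S1907

open CfsgH1 Subgroup
open scoped commutatorElement
set_option maxHeartbeats 400000

/-- Let P be a Sylow p-subgroup of a finite group G, H = P ∩ O_{p',p}(G), N = N_G(H) and D = O_{p'}(G). (a) If y is an element of p-power order of N and d ∈ D with d⁻¹ y d ∈ N, then d = d₁ d₂ with d₁ ∈ C_D(y) and d₂ ∈ C_D(H). (b) Two elements of P that are conjugate in G are conjugate in N. -/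
theorem result {G : Type*} [Group G] [Finite G] {p : ℕ} [Fact p.Prime] (P : Sylow p G) :
    (∀ y ∈ Subgroup.normalizer (((P : Subgroup G) ⊓ Cfsg.pPrimePCore p G : Subgroup G) : Set G), (∃ k : ℕ, orderOf y = p ^ k) →
      ∀ d ∈ Cfsg.pPrimeCore p G, d⁻¹ * y * d ∈ Subgroup.normalizer (((P : Subgroup G) ⊓ Cfsg.pPrimePCore p G : Subgroup G) : Set G) →
        ∃ d₁ ∈ Cfsg.pPrimeCore p G ⊓ Subgroup.centralizer ({y} : Set G),
          ∃ d₂ ∈ Cfsg.pPrimeCore p G ⊓ Subgroup.centralizer (((P : Subgroup G) ⊓ Cfsg.pPrimePCore p G : Subgroup G) : Set G), d = d₁ * d₂) ∧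
    ∀ x y : G, x ∈ (P : Subgroup G) → y ∈ (P : Subgroup G) → IsConj x y →
      ∃ n ∈ Subgroup.normalizer (((P : Subgroup G) ⊓ Cfsg.pPrimePCore p G : Subgroup G) : Set G), n * x * n⁻¹ = y := by
  set H := (P : Subgroup G) ⊓ Cfsg.pPrimePCore p G with hH
  set D := Cfsg.pPrimeCore p G with hD
  have hDp : ¬ p ∣ Nat.card D :=
    (Nat.Prime.coprime_iff_not_dvd Fact.out).mp (CfsgL0.coprime_card_pPrimeCore G p).symm
  have hHs : IsSylowIn p H (Cfsg.pPrimePCore p G) := isSylowIn_inf_normal P _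
  have hE : D ⊓ normalizer (H : Set G) ≤ centralizer (H : Set G) :=
    le_centralizer_of_normalizes hHs.pgroup (fun h => hDp (h.trans (card_dvd_of_le inf_le_left)))
      (fun x hx => by
        rw [mem_normalizer_iff_cj, cj_inf, cj_normal, cj_eq_of_mem (le_normalizer hx)])
      inf_le_right
  have part1 : ∀ y ∈ normalizer (H : Set G), (∃ k : ℕ, orderOf y = p ^ k) →
      ∀ d ∈ D, d⁻¹ * y * d ∈ normalizer (H : Set G) →
        ∃ d₁ ∈ D ⊓ centralizer ({y} : Set G), ∃ d₂ ∈ D ⊓ centralizer (H : Set G), d = d₁ * d₂ := by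
    rintro y hy ⟨k, hk⟩ d hd hdy
    have hyp : IsPGroup p (zpowers y) := isPGroup_zpowers (k := k) (by rw [← hk, pow_orderOf_eq_one])
    obtain ⟨c, hc, n, hn, e⟩ := CfsgH2.exists_eq_centralizer_mul (A := zpowers y)
      (N := D ⊓ normalizer (H : Set G)) (x := d)
      (zpowers_le.mpr (by rw [mem_normalizer_iff_cj, cj_inf, cj_normal, cj_eq_of_mem hy]))
      (CfsgH2.coprime_card_of_isPGroup hyp fun h => hDp (h.trans (card_dvd_of_le inf_le_left)))
      (Or.inl (CfsgH2.isSolvable_of_isPGroup hyp)) (by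
        rintro _ ⟨i, rfl⟩
        refine ⟨?_, ?_⟩
        · have := D.mul_mem (D.inv_mem hd) (Normal.conj_mem inferInstance d hd (y ^ i))
          simpa [commutatorElement_def, mul_assoc] using this
        · have := mul_mem (zpow_mem hdy i) (inv_mem (zpow_mem hy i))
          rw [show d⁻¹ * y * d = d⁻¹ * y * d⁻¹⁻¹ by rw [inv_inv], conj_zpow] at this
          exact this)
    refine ⟨c, ⟨?_, fun a ha => hc a (Set.mem_singleton_iff.mp ha ▸ mem_zpowers y)⟩, n,
      ⟨hn.1, hE hn⟩, e⟩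
    rw [eq_mul_inv_of_mul_eq e.symm]
    exact D.mul_mem hd (D.inv_mem hn.1)
  refine ⟨part1, fun x y hx hy hxy => ?_⟩
  obtain ⟨g, rfl⟩ := isConj_iff.mp hxy
  have hPN : (P : Subgroup G) ≤ normalizer (H : Set G) := fun m hm => by
    rw [mem_normalizer_iff_cj, cj_inf, cj_eq_of_mem hm, cj_normal]
  obtain ⟨k, hk, m, hm, rfl⟩ := hHs.frattini (g := g) (by rw [normalizer_eq_top]; exact mem_top _)
  have hs : H ⊔ D = Cfsg.pPrimePCore p G := hHs.sup_eq_of_pow_mem CfsgL0.pPrimeCore_le_pPrimePCore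
    (by rw [normalizer_eq_top]; exact le_top) fun x hx => by
      have h1 : QuotientGroup.mk' D x ∈ Cfsg.pCore p (G ⧸ D) :=
        CfsgL0.map_pPrimePCore.le (mem_map_of_mem _ hx)
      obtain ⟨k, hk⟩ := isPGroup_iff_forall.mp (CfsgL0.isPGroup_pCore _ p) _ h1
      exact ⟨k, (QuotientGroup.eq_one_iff _).mp hk⟩
  rw [← hs, sup_comm] at hk
  obtain ⟨d, hd, h, hh, rfl⟩ := (mem_sup_of_le_normalizer'
    (by rw [normalizer_eq_top]; exact le_top)).mp hk
  have hn : h * m ∈ normalizer (H : Set G) := mul_mem (le_normalizer hh) hm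
  obtain ⟨j, hj⟩ := isPGroup_iff_forall.mp P.isPGroup' _ hy
  obtain ⟨d₁, h1, d₂, h2, e⟩ := part1 _ (hPN hy)
    (by obtain ⟨i, -, hi⟩ := (Nat.dvd_prime_pow Fact.out).mp (orderOf_dvd_of_pow_eq_one hj)
        exact ⟨i, hi⟩) d hd (by
      have := mul_mem (mul_mem hn (hPN hx)) (inv_mem hn)
      simpa [mul_assoc] using this)
  refine ⟨d₂ * (h * m), mul_mem (centralizer_le_normalizer _ h2.2) hn, ?_⟩
  have h3 := conj_eq_of_mem_centralizer (inv_mem h1.2) (Set.mem_singleton _)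
  rw [← h3, e]
  group

end Cfsg.Agent.S1907
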