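import Cfsg.Statements.S1910
import Cfsg.Agent.H4.Basic
import Cfsg.Agent.H2.Coprime2
import Cfsg.Agent.H2.PGroup

set_option autoImplicit false
open Cfsg

namespace Cfsg.Agent.S1910

open Subgroup CfsgH4 CfsgH2

def Tight {G : Type*} [Group G] (P : Subgroup G) : Prop :=
  ∀ h t : G, orderOf t = 2 → t ∈ P → h * t * h⁻¹ ∈ P → h ∈ normalizer (P : Set G)

theorem Tight.normalizer_le {G : Type*} [Group G] {P T : Subgroup G} (hP : Tight P) (hT : T ≤ P)
    (h2 : IsPGroup 2 T) (h1 : T ≠ ⊥) : normalizer (T : Set G) ≤ normalizer (P : Set G) := by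
  obtain ⟨t, ht, ht2⟩ := exists_involution_mem_of_isPGroup h2 h1
  exact fun h hh => hP h t ht2 (hT ht) (hT ((mem_normalizer_iff.1 hh t).1 ht))

theorem keyK {G : Type*} [Group G] [Finite G] {Q P T S : Subgroup G} (hP : Tight P)
    (hPQ : ∀ t ∈ P, orderOf t = 2 → t ∉ Q) (hT : IsSylowOf 2 T (P ⊓ normalizer (Q : Set G)))
    (hTS : T ≤ S) (hS : IsSylowOf 2 S (Q ⊔ T)) :
    T ⊓ Q = ⊥ ∧ ⁅T, S ⊓ normalizer (T : Set G) ⊓ Q⁆ = ⊥ ∧
      T ⊔ (S ⊓ normalizer (T : Set G) ⊓ Q) = S ⊓ normalizer (T : Set G) ∧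
      (IsSylowOf 2 (S ⊓ normalizer (T : Set G) ⊓ Q) Q ∨
        ∃ f : T →* ↥(S ⊓ normalizer (T : Set G) ⊓ Q), Function.Injective f) := by
  have hTQ : T ⊓ Q = ⊥ := by
    by_contra h
    obtain ⟨t, ht, ht2⟩ := exists_involution_mem_of_isPGroup hT.2.1.to_inf_left h
    exact hPQ t (hT.1 ht.1).1 ht2 ht.2
  have hTN : T ≤ normalizer (Q : Set G) := hT.1.trans inf_le_right
  have hQT : Q ⊔ T ≤ normalizer (Q : Set G) := sup_le le_normalizer hTN
  set N := S ⊓ normalizer (T : Set G) with hN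
  have hdec : ∀ n ∈ N, ∃ w ∈ N ⊓ Q, n * w⁻¹ ∈ T := by
    intro n hn
    have h1 : n ∈ ((T ⊔ Q : Subgroup G) : Set G) := by rw [sup_comm]; exact hS.1 hn.1
    rw [coe_mul_of_left_le_normalizer_right _ _ hTN] at h1
    obtain ⟨t, ht, w, hw, rfl⟩ := h1
    exact ⟨w, ⟨(N.mul_mem_cancel_left (show t ∈ N from ⟨hTS ht, le_normalizer ht⟩)).1 hn, hw⟩,
      by simpa using ht⟩
  refine ⟨hTQ, ?_, ?_, ?_⟩
  · rw [eq_bot_iff, ← hTQ, commutator_le]
    intro t ht w hw
    refine ⟨?_, ?_⟩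
    · rw [commutatorElement_def, mul_assoc, mul_assoc, ← mul_assoc w]
      exact mul_mem ht ((mem_normalizer_iff.1 hw.1.2 _).1 (T.inv_mem ht))
    · exact mul_mem ((mem_normalizer_iff.1 (hTN ht) _).1 hw.2) (Q.inv_mem hw.2)
  · refine le_antisymm (sup_le (le_inf hTS le_normalizer) inf_le_left) fun n hn => ?_
    obtain ⟨w, hw, h⟩ := hdec n hn
    simpa using mul_mem (mem_sup_left (T := N ⊓ Q) h) (mem_sup_right hw)
  · by_cases h : N = S
    · left
      rw [h]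
      exact hS.inf_of_normal le_sup_left hQT
    right
    obtain ⟨x, hxS, hxN, hx⟩ := exists_mem_normalizer_of_lt hS.2.1 (lt_of_le_of_ne inf_le_left h)
    have hxT : ∀ t ∈ T, x * t * x⁻¹ ∈ N := fun t ht =>
      (mem_normalizer_iff.1 hx t).1 ⟨hTS ht, le_normalizer ht⟩
    choose w hw hw' using fun t : T => hdec _ (hxT t t.2)
    have huniq : ∀ a ∈ N ⊓ Q, ∀ b ∈ N ⊓ Q, ∀ n, n * a⁻¹ ∈ T → n * b⁻¹ ∈ T → a = b := by
      intro a ha b hb n h1 h2
      have h3 : a * b⁻¹ ∈ T ⊓ Q := ⟨by simpa [mul_assoc] using T.mul_mem (T.inv_mem h1) h2,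
        mul_mem ha.2 (Q.inv_mem hb.2)⟩
      rwa [hTQ, mem_bot, mul_inv_eq_one] at h3
    refine ⟨MonoidHom.mk' (fun t => ⟨w t, hw t⟩) (fun a b => Subtype.ext ?_), ?_⟩
    · refine huniq _ (hw _) _ (mul_mem (hw a) (hw b)) _ (hw' _) ?_
      have h1 := mul_mem ((mem_normalizer_iff.1 (hxT a a.2).2 _).1 (hw' b)) (hw' a)
      convert h1 using 1
      simp [mul_assoc]
    · rw [injective_iff_map_eq_one]
      intro a ha
      by_contra hne
      have h1 : w a = 1 := congrArg Subtype.val ha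
      have h2 := hw' a
      rw [h1, inv_one, mul_one] at h2
      obtain ⟨k, hk⟩ := hT.2.1 a
      obtain ⟨m, hm⟩ := exists_involution_pow (x := (a : G)) (k := k) (congrArg Subtype.val hk)
        (fun h => hne (Subtype.ext h))
      have h3 := hP x _ hm (hT.1 (pow_mem a.2 m)).1 (by
        rw [← conj_pow]; exact (hT.1 (pow_mem h2 m)).1)
      have h4 : S ⊓ P = T := hT.eq_of_le hS.2.1.to_inf_left
        (le_inf hTS (hT.1.trans inf_le_left))
        (le_inf inf_le_right (inf_le_left.trans (hS.1.trans hQT)))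
      refine hxN ⟨hxS, ?_⟩
      rw [← h4]
      exact inf_normalizer_le_normalizer_inf ⟨le_normalizer hxS, h3⟩

theorem card_le_of_sylow {G : Type*} [Group G] [Finite G] {X P H : Subgroup G}
    (hP : IsSylowOf 2 P H) (hX : IsPGroup 2 X) (h : X ≤ H) : Nat.card X ≤ Nat.card P := by
  obtain ⟨a, -, ha⟩ := hP.exists_cj_le hX h
  rw [← card_cj a]; exact card_le_of_le ha

/-- Let Q be a tightly embedded subgroup of a finite group G, g an element outside N_G(Q), T a nontrivial Sylow 2-subgroup of Q^g ∩ N_G(Q), and S a Sylow 2-subgroup of QT containing T. Then T ∩ Q = 1, and N_S(T) is the direct product of T and N_S(T) ∩ Q, with N_S(T) ∩ Q isomorphic to T. -/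
theorem result {G : Type*} [Group G] [Finite G] (Q : Subgroup G) (hQ : Cfsg.IsTightlyEmbedded Q)
    (g : G) (hg : g ∉ Subgroup.normalizer (Q : Set G))
    (T : Subgroup G) (hT1 : T ≠ ⊥) (hT : T ≤ Q.map (MulAut.conj g).toMonoidHom ⊓ Subgroup.normalizer (Q : Set G))
    (hTsyl : IsPGroup 2 T ∧ ¬ 2 ∣ T.relIndex (Q.map (MulAut.conj g).toMonoidHom ⊓ Subgroup.normalizer (Q : Set G)))
    (S : Subgroup G) (hTS : T ≤ S) (hS : S ≤ Q ⊔ T) (hSsyl : IsPGroup 2 S ∧ ¬ 2 ∣ S.relIndex (Q ⊔ T)) :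
    T ⊓ Q = ⊥ ∧
      T ⊓ (S ⊓ Subgroup.normalizer (T : Set G) ⊓ Q) = ⊥ ∧
      ⁅T, S ⊓ Subgroup.normalizer (T : Set G) ⊓ Q⁆ = ⊥ ∧
      T ⊔ (S ⊓ Subgroup.normalizer (T : Set G) ⊓ Q) = S ⊓ Subgroup.normalizer (T : Set G) ∧
      Nonempty (↥(S ⊓ Subgroup.normalizer (T : Set G) ⊓ Q) ≃* T) := by
  set P := Q.map (MulAut.conj g).toMonoidHom with hP
  have hQt : Tight Q := fun h t ht h1 h2 => by
    by_contra hh
    exact odd_card_iff_no_involution.1 (hQ.2 h hh) _ ⟨h2, t, h1, rfl⟩ (by rw [orderOf_conj', ht])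
  have hPt : Tight P := fun h t ht h1 h2 => by
    rw [mem_map_conj] at h1 h2
    have := hQt (g⁻¹ * h * g) _ (by simpa [ht] using orderOf_conj' g⁻¹ t) h1
      (by convert h2 using 1; group)
    rw [← cj_eq_iff] at this ⊢
    change cj h (cj g Q) = cj g Q
    nth_rewrite 2 [← this]
    rw [← cj_mul, ← cj_mul]; congr 1; group
  have hPQ : ∀ t ∈ P, orderOf t = 2 → t ∉ Q := fun t h1 h2 h3 =>
    odd_card_iff_no_involution.1 (hQ.2 g hg) t ⟨h3, h1⟩ h2
  have hTs : IsSylowOf 2 T (P ⊓ normalizer (Q : Set G)) := ⟨hT, hTsyl⟩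
  obtain ⟨h1, h2, h3, h4⟩ := keyK hPt hPQ hTs hTS ⟨hS, hSsyl⟩
  refine ⟨h1, eq_bot_iff.2 (h1 ▸ inf_le_inf_left _ inf_le_right), h2, h3, ?_⟩
  set W := S ⊓ normalizer (T : Set G) ⊓ Q with hW
  have hTP : T ≤ P := hT.trans inf_le_left
  have hle : Nat.card T ≤ Nat.card W := by
    rcases h4 with h | ⟨f, hf⟩
    · rw [← card_cj g W]; exact card_le_of_sylow (h.cj g) hTsyl.1 hTP
    · exact Nat.card_le_card_of_injective f hf
  have hW1 : W ≠ ⊥ := by
    intro h
    rw [h, card_bot] at hle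
    exact hT1 (eq_bot_of_card_le T hle)
  have hge : Nat.card W ≤ Nat.card T := by
    set X := Q ⊓ normalizer (P : Set G) with hX
    have hWX : W ≤ X := le_inf inf_le_right (inf_le_left.trans (inf_le_right.trans
      (hPt.normalizer_le hTP hTsyl.1 hT1)))
    have hTX : T ≤ normalizer (X : Set G) := le_normalizer_inf (hT.trans inf_le_right)
      (hTP.trans (le_normalizer.trans le_normalizer))
    obtain ⟨U, hU, hU'⟩ := exists_isSylowOf_ge (p := 2) (Q := W ⊔ T) (H := X ⊔ T)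
      (hSsyl.1.to_le (sup_le (inf_le_left.trans inf_le_left) hTS)) (sup_le_sup_right hWX _)
    have hW' := hU.inf_of_normal le_sup_left (sup_le le_normalizer hTX)
    obtain ⟨S', hS', hS''⟩ := exists_isSylowOf_ge (p := 2) (Q := U ⊓ X) (H := P ⊔ U ⊓ X)
      hW'.2.1 le_sup_right
    have hWU : W ≤ U ⊓ X := le_inf (le_sup_left.trans hU') hWX
    obtain ⟨-, -, -, h5⟩ := keyK hQt (fun t h1 h2 h3 => hPQ t h3 h2 h1) hW' hS'' hS'
    have h6 := card_le_of_sylow hTs (X := S' ⊓ normalizer ((U ⊓ X : Subgroup G) : Set G) ⊓ P)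
      hS'.2.1.to_inf_left.to_inf_left (le_inf inf_le_right (inf_le_left.trans (inf_le_right.trans
        (hQt.normalizer_le (inf_le_right.trans inf_le_left) hW'.2.1
          (fun h => hW1 (eq_bot_iff.2 (h ▸ hWU)))))))
    refine (card_le_of_le hWU).trans (le_trans ?_ h6)
    rcases h5 with h | ⟨f, hf⟩
    · rw [← card_cj g]
      exact card_le_of_sylow h (hW'.2.1.map _) (cj_mono g (inf_le_right.trans inf_le_left))
    · exact Nat.card_le_card_of_injective f hf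
  rcases h4 with h | ⟨f, hf⟩
  · obtain ⟨a, -, ha⟩ := (h.cj g).exists_cj_le hTsyl.1 hTP
    have h5 : cj a T = cj g W := eq_of_le_of_card_ge ha (by rw [card_cj, card_cj]; exact hge)
    exact ⟨((equivMapOfInjective W _ (MulAut.conj g).injective).trans
      (MulEquiv.subgroupCongr h5.symm)).trans (equivMapOfInjective T _ (MulAut.conj a).injective).symm⟩
  · exact ⟨(MulEquiv.ofBijective f (hf.bijective_of_nat_card_le hge)).symm⟩

end Cfsg.Agent.S1910
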