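import Cfsg.Statements.S1914
import Cfsg.Agent.H3.Four6

set_option autoImplicit false
open Cfsg

namespace Cfsg.Agent.S1914

/-- Let A be a semisimple subgroup (a central product of quasisimple groups, A = E(A)) of a finite group and t an involution normalizing A such that the Sylow 2-subgroups of C_A(t) are cyclic of order 4. Then A has 2-rank exactly 1. -/
theorem result {G : Type*} [Group G] [Finite G] (A : Subgroup G) (hA : Cfsg.layer ↥A = ⊤)
    (t : G) (ht : orderOf t = 2) (htA : t ∈ Subgroup.normalizer (A : Set G))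
    (hC : ∀ R : Sylow 2 ↥(A ⊓ Subgroup.centralizer ({t} : Set G)), IsCyclic R ∧ Nat.card R = 4) :
    Cfsg.PRankLE 2 1 A ∧ ¬ Cfsg.PRankLE 2 0 A := by
  open CfsgH3.Four CfsgH1 Subgroup in
  have tt : t * t = 1 := by rw [← sq, ← ht, pow_orderOf_eq_one]
  obtain ⟨R0, hR0⟩ := exists_isSylowIn 2 (A ⊓ centralizer ({t} : Set G))
  obtain ⟨hc, h4⟩ := hC hR0.toSylow
  rw [hR0.coe_toSylow] at hc
  have e0 := subgroupOfEquivOfLe hR0.le
  have h4' : Nat.card R0 = 4 := by rw [← h4]; exact (Nat.card_congr e0.toEquiv).symm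
  obtain ⟨r, rfl⟩ := CfsgH2.exists_zpowers_eq_of_isCyclic (isCyclic_of_surjective e0 e0.surjective)
  rw [Nat.card_zpowers] at h4'
  have r4 : r ^ 4 = 1 := by rw [← h4', pow_orderOf_eq_one]
  have r2 : r ^ 2 ≠ 1 := fun e => by
    have := orderOf_dvd_of_pow_eq_one e
    rw [h4'] at this; exact absurd this (by decide)
  have hr := hR0.le (mem_zpowers r)
  have rt : r * t = t * r := mem_centralizer_singleton_iff.1 hr.2
  refine ⟨?_, fun h0 => ?_⟩
  · have hc : t ∈ centralizer (zpowers r : Set G) := by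
      rw [CfsgH2.centralizer_zpowers]; exact mem_centralizer_singleton_iff.2 rt.symm
    obtain ⟨T, hT, hle⟩ := exists_isSylowIn_ge (p := 2) (Q := zpowers r ⊔ zpowers t) (H := A ⊔ zpowers t)
      (isPGroup_iff_forall.2 fun a ha => ⟨2, CfsgH2.pow_eq_one_of_mem_sup (zpowers_le.2 hc)
        (CfsgH2.pow_eq_one_of_mem_zpowers r4) (CfsgH2.pow_eq_one_of_mem_zpowers (by
          rw [show 4 = 2 * 2 from rfl, pow_mul, sq t, tt, one_pow])) a ha⟩)
      (sup_le_sup_right (zpowers_le.2 hr.1) _)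
    have rT : r ∈ T := hle (mem_sup_left (mem_zpowers r))
    have tT : t ∈ T := hle (mem_sup_right (mem_zpowers t))
    refine Hy.rank_one (X := A ⊔ zpowers t) (T := T) (t := t) (r := r)
      ⟨⟨noTwo_of_layer hA, le_sup_left, sup_le le_normalizer (zpowers_le.2 htA), hT⟩, tT, tt,
        fun x hx => (mem_sup2 htA (by rw [tt]; exact one_mem _)).1 hx, fun hs => ?_, ⟨rT, hr.1⟩, r2, r4,
        by rw [← rt]; group, fun x hx e => ?_, ?_⟩
    · have := CfsgL0.layer_eq_bot_of_solvable (hs := hs)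
      rw [hA] at this
      have h1 : (⟨r, hr.1⟩ : A) ∈ (⊥ : Subgroup A) := this ▸ mem_top _
      exact r2 (by rw [show r = 1 from congrArg Subtype.val (mem_bot.1 h1), one_pow])
    · refine hR0.le_of_ge (Q := T ⊓ (A ⊓ centralizer {t})) (hT.pgroup.to_le inf_le_left)
        (zpowers_le.2 ⟨rT, hr⟩) inf_le_right ⟨hx.1, hx.2, ?_⟩
      exact mem_centralizer_singleton_iff.2 (mul_inv_eq_iff_eq_mul.1 e).symm
    · by_contra hn
      obtain ⟨x, hx, y, hy, x1, y1, xy, xx, yy⟩ := exists_two_in_sylow hR0 hn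
      exact (inv_unique hx hy x1 xx yy).elim y1 fun e => xy e.symm
  · have := h0 (zpowers (⟨r ^ 2, pow_mem hr.1 2⟩ : A)) inferInstance
      (CfsgH2.pow_eq_one_of_mem_zpowers (Subtype.ext (by simpa [← pow_mul] using r4)))
    rw [Nat.card_zpowers, pow_zero] at this
    have h1 := orderOf_eq_one_iff.1 (le_antisymm this (orderOf_pos _))
    exact r2 (congrArg Subtype.val h1)

end Cfsg.Agent.S1914
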