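import Cfsg.Statements.S1915
import Cfsg.Agent.H3.Four2

set_option autoImplicit false
open Cfsg

namespace Cfsg.Agent.S1915

/-- Let A be a semisimple subgroup (A = E(A)) of a finite group and U a Klein four-group normalizing A. If the subgroup of A generated by the normalizers N_A(V) of the nontrivial subgroups V of U has 2-rank exactly 1, then A has 2-rank exactly 1. -/
theorem result {G : Type*} [Group G] [Finite G] (A : Subgroup G) (hA : Cfsg.layer ↥A = ⊤)
    (U : Subgroup G) (hU : IsKleinFour U) (hUA : U ≤ Subgroup.normalizer (A : Set G))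
    (hΓ : Cfsg.PRankLE 2 1 ↥(⨆ V : {V : Subgroup G // V ≤ U ∧ V ≠ ⊥}, A ⊓ Subgroup.normalizer ((V : Subgroup G) : Set G)) ∧
      ¬ Cfsg.PRankLE 2 0 ↥(⨆ V : {V : Subgroup G // V ≤ U ∧ V ≠ ⊥}, A ⊓ Subgroup.normalizer ((V : Subgroup G) : Set G))) :
    Cfsg.PRankLE 2 1 A ∧ ¬ Cfsg.PRankLE 2 0 A := by
  open CfsgH3.Four CfsgH1 Subgroup in
  refine ⟨?_, fun h0 => hΓ.2 fun E hE he => ?_⟩
  · by_contra hr
    set Γ := ⨆ V : {V : Subgroup G // V ≤ U ∧ V ≠ ⊥}, A ⊓ Subgroup.normalizer ((V : Subgroup G) : Set G) with hΓd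
    have hU2 : ∀ u ∈ U, u * u = 1 := fun u hu =>
      congrArg Subtype.val (IsKleinFour.mul_self (⟨u, hu⟩ : U))
    have hUp : IsPGroup 2 U := isPGroup_iff_forall.2 fun u hu => ⟨1, by rw [pow_one, sq, hU2 u hu]⟩
    have hmem : ∀ u ∈ U, u ≠ 1 → ∀ x ∈ A, u * x * u⁻¹ = x → x ∈ Γ := fun u hu u1 x hx h => by
      refine le_iSup (fun V : {V : Subgroup G // V ≤ U ∧ V ≠ ⊥} =>
        A ⊓ Subgroup.normalizer ((V : Subgroup G) : Set G))
        ⟨zpowers u, zpowers_le.2 hu, by simpa using u1⟩ ⟨hx, centralizer_le_normalizer _ ?_⟩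
      rw [CfsgH2.centralizer_zpowers]
      exact mem_centralizer_singleton_iff.2 (mul_inv_eq_iff_eq_mul.1 h).symm
    have hpick : ∀ P : G → Prop, (∀ a ∈ U, ∀ b ∈ U, ¬ P a → ¬ P b → P (a * b)) →
        ∃ u ∈ U, u ≠ 1 ∧ P u := fun P hP => by
      haveI := Fintype.ofFinite U
      have h2 : 2 < Fintype.card U := by rw [← Nat.card_eq_fintype_card, hU.card_four]; decide
      obtain ⟨a, b, a1, b1, ab⟩ : ∃ x y : U, x ≠ 1 ∧ y ≠ 1 ∧ x ≠ y := by
        rw [Fintype.two_lt_card_iff] at h2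
        obtain ⟨a, b, c, ab, ac, bc⟩ := h2
        by_cases ha : a = 1
        · exact ⟨b, c, fun h => ab (ha.trans h.symm), fun h => ac (ha.trans h.symm), bc⟩
        · by_cases hb : b = 1
          · exact ⟨a, c, ha, fun h => bc (hb.trans h.symm), ac⟩
          · exact ⟨a, b, ha, hb, ab⟩
      by_cases ha : P a
      · exact ⟨a, a.2, fun h => a1 (Subtype.ext h), ha⟩
      by_cases hb : P b
      · exact ⟨b, b.2, fun h => b1 (Subtype.ext h), hb⟩
      refine ⟨a * b, mul_mem a.2 b.2, fun h => ab (Subtype.ext ?_), hP _ a.2 _ b.2 ha hb⟩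
      rw [eq_inv_of_mul_eq_one_left h, inv_eq_of_mul_eq_one_right (hU2 _ b.2)]
    obtain ⟨T, hT, hUT⟩ := exists_isSylowIn_ge (H := A ⊔ U) hUp le_sup_right
    have s : St A (A ⊔ U) T := ⟨noTwo_of_layer hA, le_sup_left, sup_le le_normalizer hUA, hT⟩
    rcases nf4_or_cy2 hT.pgroup inf_le_left s.nR' with ⟨z, u, h⟩ | ⟨b, c⟩
    · obtain ⟨a, ha, a1, hau⟩ := hpick (fun a => a * u * a⁻¹ = u) fun a ha b hb h1 h2 => by
        have e1 := (h.cu a (hUT ha)).resolve_left h1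
        have e2 := (h.cu b (hUT hb)).resolve_left h2
        calc a * b * u * (a * b)⁻¹ = a * (b * u * b⁻¹) * a⁻¹ := by group
          _ = (a * u * a⁻¹) * (a * z * a⁻¹) := by rw [e2]; group
          _ = u := by rw [e1, h.cz a (hUT ha), mul_assoc, h.zz, mul_one]
      exact h.uz (eq_of_rank hΓ.1 (hmem a ha a1 z h.zR.2 (h.cz a (hUT ha))) (hmem a ha a1 u h.uR.2 hau)
        h.z1 h.u1 h.zz h.uu (mul_inv_eq_iff_eq_mul.1 (h.cz u h.uR.1)).symm)
    · obtain ⟨y, hy, yB, yy⟩ := c.exists_inv (exists_two_in_sylow s.sylR hr)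
      obtain ⟨m, hm⟩ := pow_of_mem hT.pgroup c.bR.1
      obtain ⟨w, hw, w2, w4⟩ := exists_four hm (c.big y hy yB)
      obtain ⟨a, ha, a1, haw⟩ := hpick (fun a => a * w * a⁻¹ = w) fun a ha b hb h1 h2 => by
        have e1 := (c.conj_four (hUT ha) hw w2 w4).resolve_left h1
        have e2 := (c.conj_four (hUT hb) hw w2 w4).resolve_left h2
        calc a * b * w * (a * b)⁻¹ = a * (b * w * b⁻¹) * a⁻¹ := by group
          _ = (a * w * a⁻¹)⁻¹ := by rw [e2]; group
          _ = w := by rw [e1, inv_inv]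
      have h1 := s.caseC c (fun x hx => by
        obtain ⟨α, hα, v, hv, rfl⟩ := (mem_sup_of_le_normalizer' hUA).1 (hT.le hx)
        exact s.sq_mem c ⟨(mul_mem_cancel_right (hUT hv)).1 hx, hα⟩ (hUT hv) (hU2 v hv))
        hy yB yy (hUT ha) (hU2 a ha) (cent_all hw w2 w4 haw)
      have zz : w ^ 2 * w ^ 2 = 1 := by rw [← pow_add]; exact w4
      have h2 := c.inv y hy yB (w ^ 2) (pow_mem hw 2)
        (by rw [← pow_mul, mul_comm, pow_mul, w4, one_pow])
      rw [inv_eq_of_mul_eq_one_right zz, mul_inv_eq_iff_eq_mul] at h2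
      have h3 := eq_of_rank hΓ.1 (hmem a ha a1 (w ^ 2) (pow_mem (zpowers_le.2 c.bR hw).2 2)
        (by rw [← conj_pow, haw])) (hmem a ha a1 y hy.2 h1) w2 (fun e => yB (e ▸ one_mem _)) zz yy
        h2.symm
      exact yB (h3 ▸ pow_mem hw 2)
  · have hle : (⨆ V : {V : Subgroup G // V ≤ U ∧ V ≠ ⊥},
        A ⊓ Subgroup.normalizer ((V : Subgroup G) : Set G)) ≤ A := iSup_le fun _ => inf_le_left
    rw [← card_map_of_injective (inclusion_injective hle)]
    exact h0 _ (CfsgH2.isMulCommutative_map hE _)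
      (CfsgH2.isElementaryAbelian_map (p := 2) ⟨hE, he⟩ _).2

end Cfsg.Agent.S1915
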