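import Cfsg.Statements.S1921
import Cfsg.Agent.L0.Components
import Cfsg.Agent.H2.PGroup

set_option autoImplicit false
open Cfsg

namespace Cfsg.Agent.S1921

open Subgroup CfsgL0

/-- Let a be an involution of a finite group H and L a component of H with a L a⁻¹ ≠ L; put M = ⟨L, aLa⁻¹⟩ and let J be the subgroup generated by the elements x · a x a⁻¹ with x ∈ L (the diagonal). Then every element of M outside J·Z(M) generates M together with J. -/
theorem result {H : Type*} [Group H] [Finite H] (a : H) (ha : orderOf a = 2) (L : Subgroup H) (hL : Cfsg.IsComponent L)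
    (hLa : L.map (MulAut.conj a).toMonoidHom ≠ L) (x : H) (hxM : x ∈ L ⊔ L.map (MulAut.conj a).toMonoidHom)
    (hxJ : x ∉ Subgroup.closure {y : H | ∃ l ∈ L, y = l * (a * l * a⁻¹)} ⊔
      ((L ⊔ L.map (MulAut.conj a).toMonoidHom) ⊓ Subgroup.centralizer ((L ⊔ L.map (MulAut.conj a).toMonoidHom : Subgroup H) : Set H))) :
    Subgroup.closure {y : H | ∃ l ∈ L, y = l * (a * l * a⁻¹)} ⊔ Subgroup.zpowers x = L ⊔ L.map (MulAut.conj a).toMonoidHom := by
  set L' := L.map (MulAut.conj a).toMonoidHom with hL'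
  set J := Subgroup.closure {y : H | ∃ l ∈ L, y = l * (a * l * a⁻¹)} with hJ
  have hc : L ≤ centralizer (L' : Set H) := component_le_centralizer (component_conj hL a) hL hLa
  have hm : ∀ l ∈ L, a * l * a⁻¹ ∈ L' := fun l hl => ⟨l, hl, rfl⟩
  have hj : ∀ l ∈ L, l * (a * l * a⁻¹) ∈ J := fun l hl => subset_closure ⟨l, hl, rfl⟩
  have hJM : J ≤ L ⊔ L' := by
    rw [hJ, closure_le]
    rintro _ ⟨l, hl, rfl⟩
    exact mul_mem (mem_sup_left hl) (mem_sup_right (hm l hl))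
  refine le_antisymm (sup_le hJM (zpowers_le.2 hxM)) ?_
  have hx' : x ∈ ((L ⊔ L' : Subgroup H) : Set H) := hxM
  rw [coe_mul_of_left_le_normalizer_right _ _ (hc.trans (centralizer_le_normalizer _))] at hx'
  obtain ⟨l₁, h₁, _, ⟨l₂, h₂, rfl⟩, hx⟩ := hx'
  have hx2 : x = (l₁ * l₂⁻¹) * (l₂ * (a * l₂ * a⁻¹)) := by rw [← hx]; simp [mul_assoc]
  have hy : l₁ * l₂⁻¹ ∈ J ⊔ zpowers x := by
    rw [← mul_mem_cancel_right (mem_sup_left (hj l₂ h₂)), ← hx2]
    exact mem_sup_right (mem_zpowers x)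
  have hyL : l₁ * l₂⁻¹ ∈ L := mul_mem h₁ (inv_mem h₂)
  have hN := qs_normal hL.2 (N := (J ⊔ zpowers x) ⊓ L) inf_le_right (by
    intro l hl
    apply mem_normalizer_fintype
    intro n hn
    refine mem_inf.2 ⟨?_, mul_mem (mul_mem hl hn.2) (L.inv_mem hl)⟩
    have h1 := hc hn.2 _ (hm l hl)
    have : l * n * l⁻¹ = (l * (a * l * a⁻¹)) * n * (l * (a * l * a⁻¹))⁻¹ := by
      rw [mul_assoc l _ n, h1]; group
    change l * n * l⁻¹ ∈ _
    rw [this]
    exact mul_mem (mul_mem (mem_sup_left (hj l hl)) hn.1) (Subgroup.inv_mem _ (mem_sup_left (hj l hl))))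
  rcases hN with hN | hN
  · exfalso
    apply hxJ
    rw [hx2]
    refine mul_mem (mem_sup_right ⟨mem_sup_left hyL, ?_⟩) (mem_sup_left (hj l₂ h₂))
    rw [centralizer_sup]
    exact ⟨hN ⟨hy, hyL⟩, hc hyL⟩
  · have h1 : L ≤ J ⊔ zpowers x := hN.ge.trans inf_le_left
    refine sup_le h1 ?_
    rintro _ ⟨l, hl, rfl⟩
    exact (mul_mem_cancel_left (h1 hl)).1 (mem_sup_left (hj l hl))

end Cfsg.Agent.S1921
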