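import Cfsg.Statements.S1922
import Cfsg.Agent.H4.Parity
import Cfsg.Agent.S0443
import Cfsg.Agent.H4.Four

set_option autoImplicit false
open Cfsg

namespace Cfsg.Agent.S1922

open CfsgH4 Subgroup

/-- Let z be an involution of a finite group G and H a proper subgroup such that z lies in gHg⁻¹ exactly when g ∈ H. Then the following are equivalent: (1) for every conjugate t ≠ z of z commuting with z, the product zt lies in gHg⁻¹ exactly when g ∈ H; (2) z lies in the centre of some Sylow 2-subgroup of G, and for every conjugate t ≠ z of z commuting with z, the centralizer of zt is contained in H. -/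
theorem result {G : Type*} [Group G] [Finite G] (z : G) (hz : orderOf z = 2) (H : Subgroup G) (hH : H ≠ ⊤)
    (h0 : ∀ g : G, z ∈ H.map (MulAut.conj g).toMonoidHom ↔ g ∈ H) :
    (∀ t : G, IsConj z t → t ≠ z → t * z = z * t → ∀ g : G, z * t ∈ H.map (MulAut.conj g).toMonoidHom ↔ g ∈ H) ↔
      ((∃ P : Sylow 2 G, z ∈ (Subgroup.center ↥(P : Subgroup G)).map (P : Subgroup G).subtype) ∧
        ∀ t : G, IsConj z t → t ≠ z → t * z = z * t → Subgroup.centralizer ({z * t} : Set G) ≤ H) := by
  classical
  simp only [mem_map_conj] at h0 ⊢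
  have hz1 := mul_self_of_orderOf hz
  have hCz : ∀ c, c * z = z * c → c ∈ H := fun c hc => (h0 c).1 (by
    rw [mul_assoc, ← hc, inv_mul_cancel_left]; simpa using (h0 1).2 H.one_mem)
  have hzH : z ∈ H := hCz z rfl
  constructor
  · intro h1
    refine ⟨?_, fun t ht hne hc c hc' => (h1 t ht hne hc c).1 ?_⟩
    swap
    · rw [mul_assoc, ← mem_centralizer_singleton_iff.1 hc', inv_mul_cancel_left]
      exact mul_mem hzH (hCz t hc)
    have := Fintype.ofFinite G
    have hfix : ∀ s t : G, IsConj z s → IsConj z t → s ≠ t → Commute s t → ∀ a : G, s * t ∈ H →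
        a⁻¹ * (s * t) * a ∈ H → a ∈ H := by
      intro s t hs ht hne hc a h2 h3
      obtain ⟨g, rfl⟩ := isConj_iff.1 hs
      have h4 := h1 (g⁻¹ * t * g) (ht.trans (isConj_iff.2 ⟨g⁻¹, by rw [inv_inv]⟩))
        (fun h => hne (by rw [← h]; group)) (by
          calc _ = g⁻¹ * (t * (g * z * g⁻¹)) * g := by group
            _ = _ := by rw [← hc.eq]; group)
      have h5 := (h4 g⁻¹).1 (by convert h2 using 1; group)
      have h6 := (h4 (g⁻¹ * a)).1 (by convert h3 using 1; group)
      exact (H.mul_mem_cancel_left h5).1 h6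
    have ho : ∀ s, IsConj z s → orderOf s = 2 := fun s hs => (orderOf_eq_of_isConj hs).symm.trans hz
    set E := Finset.univ.filter (fun s => IsConj z s ∧ s ∉ H) with hE
    have hsurj : ∀ s ∈ E, ∃ r ∈ E, r * z * r = s := by
      intro s hs
      obtain ⟨hs, hsH⟩ := (Finset.mem_filter.1 hs).2
      have hs1 := mul_self_of_orderOf (ho s hs)
      have hodd : Odd (orderOf (s * z)) := by
        rw [← Nat.not_even_iff_odd]
        intro he
        have h2 := orderOf_pow_half he (orderOf_pos _).ne'
        set m := orderOf (s * z) / 2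
        have h3 : (s * z) ^ m ∈ zpowers (s * z) := npow_mem_zpowers _ _
        have h4 := dih_commute_left hs1 hz1 h3 (mul_self_of_orderOf h2)
        have h5 := dih_commute_right hs1 hz1 h3 (mul_self_of_orderOf h2)
        have h6 : IsConj z ((s * z) ^ m * s) := by
          have := dih_zpow_mul_isConj hs1 hz1 m
          rw [zpow_natCast] at this
          rcases Int.even_or_odd (m : ℤ) with h | h
          · exact hs.trans (this.1 h)
          · exact this.2 h
        generalize (s * z) ^ m = u at *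
        have h7 : s * (u * s) = u := by rw [h4.eq, ← mul_assoc, hs1, one_mul]
        refine hsH (hfix s (u * s) hs h6 (fun h => ne_one_of_orderOf h2 (by simpa using h.symm))
          (h4.symm.mul_right (Commute.refl s)) s (by rw [h7]; exact hCz u h5) ?_)
        rw [h7, mul_assoc, h4.eq, inv_mul_cancel_left]; exact hCz u h5
      obtain ⟨n, hn⟩ := dih_conj_of_odd hs1 hz1 hodd
      have h2 := inverts_pow (dih_inv_right hs1 hz1) n
      have h3 : IsConj z ((s * z) ^ n * z) := by
        have := dih_zpow_mul_isConj hz1 hs1 (-n)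
        rw [zpow_neg, ← inv_zpow, zpow_natCast, mul_inv_rev, inv_eq_of_orderOf hz,
          inv_eq_of_orderOf (ho s hs)] at this
        rcases Int.even_or_odd (-n : ℤ) with h | h
        · exact this.1 h
        · exact hs.trans (this.2 h)
      generalize (s * z) ^ n = c at hn h2 h3
      have h4 : c * z * z * (c * z) = s := by
        rw [← hn, ← h2, inv_eq_of_orderOf hz, mul_assoc (c * z), ← mul_assoc z]
      refine ⟨c * z, Finset.mem_filter.2 ⟨Finset.mem_univ _, h3, fun h => hsH ?_⟩, h4⟩
      rw [← h4]; exact mul_mem (mul_mem h hzH) h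
    have hmaps : ∀ r ∈ E, r * z * r ∈ E := by
      intro r hr
      obtain ⟨hr, hrH⟩ := (Finset.mem_filter.1 hr).2
      refine Finset.mem_filter.2 ⟨Finset.mem_univ _, isConj_iff.2 ⟨r, by
        rw [inv_eq_of_orderOf (ho r hr)]⟩, fun h => hrH ((h0 r).1 ?_)⟩
      rwa [inv_eq_of_orderOf (ho r hr)]
    have hinj : Set.InjOn (fun r => r * z * r) E :=
      Finset.injOn_of_surjOn_of_card_le _ hmaps (fun s hs => hsurj s hs) le_rfl
    obtain ⟨a, ha⟩ : ∃ a, a ∉ H := by
      by_contra h; push Not at h; exact hH (eq_top_iff.2 fun a _ => h a)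
    set R := Finset.univ.filter (fun r => IsConj z r ∧ a⁻¹ * r ∈ H) with hR
    set A := Finset.univ.filter (fun s => IsConj z s ∧ s ∈ H) with hA
    have hRE : R ⊆ E := fun r hr => Finset.mem_filter.2 ⟨Finset.mem_univ _,
      (Finset.mem_filter.1 hr).2.1, fun h => ha (inv_mem_iff.1
        ((H.mul_mem_cancel_right h).1 (Finset.mem_filter.1 hr).2.2))⟩
    have hRA : R.card = A.card := by
      refine Finset.card_bij (fun r _ => a⁻¹ * (r * z * r) * a) ?_ ?_ ?_
      · intro r hr
        obtain ⟨hr, hrH⟩ := (Finset.mem_filter.1 hr).2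
        have := mul_mem (mul_mem hrH hzH) (inv_mem hrH)
        rw [mul_inv_rev, inv_inv, inv_eq_of_orderOf (ho r hr)] at this
        refine Finset.mem_filter.2 ⟨Finset.mem_univ _, isConj_iff.2 ⟨a⁻¹ * r, ?_⟩, ?_⟩
        · rw [mul_inv_rev, inv_inv, inv_eq_of_orderOf (ho r hr)]; group
        · simpa [mul_assoc] using this
      · intro r hr r' hr' h
        exact hinj (hRE hr) (hRE hr') (by simpa using h)
      · intro s hs
        obtain ⟨hs, hsH⟩ := (Finset.mem_filter.1 hs).2
        obtain ⟨g, rfl⟩ := isConj_iff.1 hs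
        have hg : g ∈ H := inv_mem_iff.1 ((h0 g⁻¹).1 (by simpa using hsH))
        obtain ⟨r, hr, h⟩ := hsurj (a * (g * z * g⁻¹) * a⁻¹) (Finset.mem_filter.2
          ⟨Finset.mem_univ _, hs.trans (isConj_iff.2 ⟨a, rfl⟩), fun h => ha (by
            have := (h0 (a * g)⁻¹).1 (by simpa [mul_assoc] using h)
            exact (H.mul_mem_cancel_right hg).1 (inv_mem_iff.1 this))⟩)
        have hr' := (Finset.mem_filter.1 hr).2.1
        refine ⟨r, Finset.mem_filter.2 ⟨Finset.mem_univ _, hr', ?_⟩, by rw [h]; group⟩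
        have := (h0 (r * a)).1 (by
          rw [mul_inv_rev, inv_eq_of_orderOf (ho r hr')]
          convert hsH using 1
          calc _ = a⁻¹ * (r * z * r) * a := by group
            _ = _ := by rw [h]; group)
        rw [← inv_mem_iff, mul_inv_rev, inv_eq_of_orderOf (ho r hr')] at this
        exact this
    obtain ⟨r, hr⟩ : R.Nonempty := by
      rw [← Finset.card_pos, hRA, Finset.card_pos]
      exact ⟨z, Finset.mem_filter.2 ⟨Finset.mem_univ _, IsConj.refl z, hzH⟩⟩
    have hRodd : R.card % 2 = 1 := by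
      obtain ⟨hr1, hr2⟩ := (Finset.mem_filter.1 hr).2
      have hr3 := mul_self_of_orderOf (ho r hr1)
      have hmul : ∀ s ∈ R, r * s ∈ H := fun s hs => by
        have := mul_mem (inv_mem hr2) (Finset.mem_filter.1 hs).2.2
        rw [mul_inv_rev, inv_inv, inv_eq_of_orderOf (ho r hr1)] at this
        simpa [mul_assoc] using this
      rw [card_filter_fixed_mod_two R (fun s => r * s * r⁻¹), Finset.card_eq_one.2 ⟨r, ?_⟩]
      · ext s
        simp only [Finset.mem_filter, Finset.mem_singleton]
        refine ⟨fun ⟨h2, h3⟩ => ?_, fun h => by rw [h]; exact ⟨hr, by simp⟩⟩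
        by_contra hne
        obtain ⟨hs1, hs2⟩ := (Finset.mem_filter.1 h2).2
        refine ha (hfix r s hr1 hs1 (Ne.symm hne) (mul_inv_eq_iff_eq_mul.1 h3) a (hmul s h2) ?_)
        have := mul_mem hr2 (inv_mem hs2)
        rw [mul_inv_rev, inv_inv, inv_eq_of_orderOf (ho s hs1)] at this
        simpa [mul_assoc] using this
      · intro s hs
        obtain ⟨hs1, hs2⟩ := (Finset.mem_filter.1 hs).2
        refine Finset.mem_filter.2 ⟨Finset.mem_univ _, hs1.trans (isConj_iff.2 ⟨r, rfl⟩), ?_⟩
        have := mul_mem hr2 (inv_mem (hmul s hs))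
        rw [mul_inv_rev, inv_eq_of_orderOf (ho s hs1)] at this
        simpa [mul_assoc] using this
      · intro s _
        rw [inv_eq_of_orderOf (ho r hr1)]
        calc _ = r * r * s * (r * r) := by group
          _ = s := by rw [hr3]; simp
    have hEeven : E.card % 2 = 0 := by
      rw [card_filter_fixed_mod_two E (fun s => z * s * z⁻¹), Finset.card_eq_zero.2]
      · rw [Finset.filter_eq_empty_iff]
        intro s hs h
        exact (Finset.mem_filter.1 hs).2.2 (hCz s (mul_inv_eq_iff_eq_mul.1 h).symm)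
      · intro s hs
        rw [inv_eq_of_orderOf hz]
        obtain ⟨hs, hsH⟩ := (Finset.mem_filter.1 hs).2
        refine Finset.mem_filter.2 ⟨Finset.mem_univ _, hs.trans (isConj_iff.2 ⟨z, by
          rw [inv_eq_of_orderOf hz]⟩), fun h => hsH ?_⟩
        exact (H.mul_mem_cancel_left hzH).1 ((H.mul_mem_cancel_right hzH).1 h)
      · intro s _
        rw [inv_eq_of_orderOf hz]
        calc _ = z * z * s * (z * z) := by group
          _ = s := by rw [hz1]; simp
    have hidx : (centralizer ({z} : Set G)).index = A.card + E.card := by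
      rw [← card_isConj_eq_index, card_subtype_eq_card_filter,
        ← Finset.card_filter_add_card_filter_not (fun s => s ∈ H), Finset.filter_filter,
        Finset.filter_filter]
    obtain ⟨P, hP⟩ := exists_sylow_le_of_not_dvd_index (p := 2) (H := centralizer ({z} : Set G))
      (by rw [hidx]; omega)
    obtain ⟨-, Q, h2, h3⟩ := (Cfsg.Agent.S0443.result z hz).2 ⟨P, hP⟩
    exact ⟨Q, ⟨z, h2⟩, mem_center_iff.2 fun g => Subtype.ext (h3 g g.2), rfl⟩
  · rintro ⟨⟨P, ⟨z', hz', hz''⟩⟩, h2⟩ t ht hne hc g
    have hPz : ∀ y ∈ P, y * z = z * y := fun y hy => by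
      rw [← hz'']; exact congrArg Subtype.val (mem_center_iff.1 hz' ⟨y, hy⟩)
    have hPH : (P : Subgroup G) ≤ H := fun y hy => hCz y (hPz y hy)
    refine ⟨fun h => ?_, fun h => mul_mem (mul_mem (inv_mem h) (mul_mem hzH (hCz t hc))) h⟩
    have hw : orderOf (z * t) = 2 := orderOf_mul_of_commute hz
      ((orderOf_eq_of_isConj ht).symm.trans hz) (Ne.symm hne) hc.symm
    obtain ⟨a, ha⟩ := exists_conj_mem_sylow_of_involution (P.subtype hPH) (t := ⟨_, h⟩) (by
      rw [← orderOf_coe]
      simpa [hw] using orderOf_conj' g⁻¹ (z * t))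
    have h3 := hPz _ ha
    have h4 := h2 t ht hne hc (mem_centralizer_singleton_iff.2
      (show ((a : G) * g⁻¹)⁻¹ * z * (a * g⁻¹) * (z * t) = _ from by
        change (a : G) * (g⁻¹ * (z * t) * g) * (a : G)⁻¹ * z =
          z * ((a : G) * (g⁻¹ * (z * t) * g) * (a : G)⁻¹) at h3
        generalize z * t = w at h3 ⊢
        calc _ = ((a : G) * g⁻¹)⁻¹ * (z * (a * (g⁻¹ * w * g) * (a : G)⁻¹)) * (a * g⁻¹) := by group
          _ = _ := by rw [← h3]; group))
    exact inv_mem_iff.1 ((H.mul_mem_cancel_left a.2).1 ((h0 _).1 h4))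

end Cfsg.Agent.S1922
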