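import Cfsg.Statements.S1930
import Cfsg.Agent.H3.FQ7
import Cfsg.Agent.L0.Components

set_option autoImplicit false
open Cfsg

namespace Cfsg.Agent.S1930

/-- Inside a finite group let G be a nontrivial subgroup and R an r-subgroup (r a prime) normalizing G, with the order of G prime to r. Let p > 3 be a prime with F*(G) = O_p(G), and let P be the intersection of all R-invariant Sylow p-subgroups of G. Then P has a nontrivial characteristic subgroup that is normalized by G. -/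
theorem result {X : Type*} [Group X] [Finite X] (G R : Subgroup X) (r : ℕ) [Fact r.Prime] (hR : IsPGroup r ↥R) (hcop : (Nat.card ↥G).Coprime r) (hnorm : R ≤ Subgroup.normalizer (G : Set X)) (hG : G ≠ ⊥) (p : ℕ) [Fact p.Prime] (hp : 3 < p) (hF : Cfsg.generalizedFittingSubgroup ↥G = Cfsg.pCore p ↥G) (P : Subgroup X) (hP : P = ⨅ S : {S : Sylow p ↥G // ∀ a ∈ R, ((S : Subgroup ↥G).map G.subtype).map (MulAut.conj a).toMonoidHom = (S : Subgroup ↥G).map G.subtype}, ((S : Sylow p ↥G) : Subgroup ↥G).map G.subtype) : ∃ C : Subgroup ↥P, C.Characteristic ∧ C ≠ ⊥ ∧ G ≤ Subgroup.normalizer ((C.map P.subtype : Subgroup X) : Set X) := by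
  have hmem : ∀ x, x ∈ P ↔ ∀ S, CfsgH2.IsSylowOf p S G → R ≤ Subgroup.normalizer (S : Set X) →
      x ∈ S := by
    intro x
    rw [hP, Subgroup.mem_iInf]
    constructor
    · intro h S hS hRS
      obtain ⟨Q, -, rfl⟩ := hS.exists_sylow
      exact h ⟨Q, fun a ha => CfsgH2.cj_eq_iff.2 (hRS ha)⟩
    · rintro h ⟨Q, hQ⟩
      exact h _ (CfsgH2.isSylowOf_map Q) fun a ha => CfsgH2.cj_eq_iff.1 (hQ a ha)
  obtain ⟨S, hS, hRS⟩ := CfsgH2.exists_invariant_sylow p hnorm
    (CfsgH2.coprime_card_of_isPGroup hR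
      ((Nat.Prime.coprime_iff_not_dvd Fact.out).1 hcop.symm))
    (Or.inl (CfsgH2.isSolvable_of_isPGroup hR))
  have hPS : P ≤ S := fun x hx => (hmem x).1 hx S hS hRS
  have hI : CfsgH3.FQ.Inv p G R P := by
    refine ⟨hPS.trans hS.1, hS.2.1.to_le hPS, fun a ha => CfsgL0.mem_normalizer_of_conj_mem
      fun x hx => (hmem _).2 fun S hS hRS =>
        CfsgH2.conj_mem_of_le_normalizer hRS ha ((hmem x).1 hx S hS hRS),
      fun c hc => CfsgL0.mem_normalizer_of_conj_mem fun x hx => (hmem _).2 fun S hS hRS => ?_⟩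
    have := (hmem x).1 hx _ (hS.cj_of_mem_normalizer (Subgroup.le_normalizer (inv_mem hc.1)))
      fun a ha => CfsgH2.cj_eq_iff.1 (by
        rw [← CfsgH2.cj_mul, inv_mem (Subgroup.mem_inf.1 hc).2 a ha, CfsgH2.cj_mul,
          CfsgH2.cj_eq_iff.2 (hRS ha)])
    rwa [CfsgH2.mem_cj, inv_inv] at this
  have hT : CfsgL0.pCoreOf p G ≤ P := fun x hx => (hmem x).2 fun S hS _ => by
    obtain ⟨Q, -, rfl⟩ := hS.exists_sylow
    exact Subgroup.map_mono (CfsgL0.pCore_le_sylow Q) hx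
  have hC : G ⊓ Subgroup.centralizer (CfsgL0.pCoreOf p G : Set X) ≤ CfsgL0.pCoreOf p G := by
    intro x hx
    refine ⟨⟨x, hx.1⟩, ?_, rfl⟩
    rw [← hF]
    refine CfsgL0.centralizer_genFitting_le fun y hy => Subtype.ext (hx.2 y ⟨y, ?_, rfl⟩)
    rwa [← hF]
  have hP0 : P ≠ ⊥ := fun e => hG (eq_bot_iff.2 fun x hx => by
    have e' : CfsgL0.pCoreOf p G = ⊥ := eq_bot_iff.2 (e ▸ hT)
    rw [e'] at hC
    exact hC ⟨hx, fun y hy => by rw [Subgroup.mem_bot.1 hy, one_mul, mul_one]⟩)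
  refine ⟨kInfUpper P, Subgroup.characteristic_iff_map_eq.2 fun φ =>
    (CfsgH3.isCharPFunctor_kInfUpper (p := p)).2 P P hI.pg φ,
    (CfsgH3.isCharPFunctor_kInfUpper (p := p)).1 P hI.pg ((Subgroup.nontrivial_iff_ne_bot P).2 hP0),
    ?_⟩
  rw [CfsgH3.map_kInfUpper]
  exact (CfsgH3.FQ.kinf_normal hp hR hcop hnorm hI hT hC).2

end Cfsg.Agent.S1930
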