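import Cfsg.Statements.S1936
import Cfsg.Agent.H4.AbHall

set_option autoImplicit false
open Cfsg

namespace Cfsg.Agent.S1936

/-- Let p be a prime and G a finite group in which every subgroup of order prime to p is abelian of exponent dividing p − 1. Then G is solvable. -/
theorem result {G : Type*} [Group G] [Finite G] (p : ℕ) [Fact p.Prime] (h : ∀ H : Subgroup G, (Nat.card ↥H).Coprime p → IsMulCommutative ↥H ∧ ∀ x ∈ H, x ^ (p - 1) = 1) : Group.IsSolvable G := by
  have hp : p.Prime := Fact.out
  by_cases hp5 : 5 ≤ p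
  · exact CfsgH4.abPP_solvable hp5 _ G rfl fun K hK =>
      (h K ((CfsgL0.isPi_compl_singleton_iff hp).1 hK)).1
  · refine CfsgH1.isSolvable_of_two_primes hp Nat.prime_two _ G rfl fun r hr hd => ?_
    by_contra hcon
    push Not at hcon
    haveI := Fact.mk hr
    obtain ⟨x, hx⟩ := exists_prime_orderOf_dvd_card' r hd
    have h1 := orderOf_dvd_of_pow_eq_one ((h (Subgroup.zpowers x) (by
      rw [Nat.card_zpowers, hx]; exact (Nat.coprime_primes hr hp).2 hcon.1)).2 x
      (Subgroup.mem_zpowers x))
    rw [hx] at h1
    have h2 := hp.two_le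
    have h3 := hr.two_le
    have h4 := Nat.le_of_dvd (by omega) h1
    have h5 : p ≠ 4 := by rintro rfl; exact absurd hp (by decide)
    omega

end Cfsg.Agent.S1936
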