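import Cfsg.Statements.S1944
import Cfsg.Agent.H1.Misc
import Cfsg.Agent.S1907

set_option autoImplicit false
open Cfsg

namespace Cfsg.Agent.S1944

open CfsgH1 Subgroup
open scoped commutatorElement
set_option maxHeartbeats 400000

/-- Let S be a Sylow p-subgroup of the finite group G and suppose that the centre Z(S) lies in O_{p',p}(G). The elements of S each of which is its only G-conjugate in S form a subgroup W of Z(S); W is then a direct factor of Z(S): there is a subgroup K of Z(S) with W ∩ K = 1 and WK = Z(S). -/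
theorem result {G : Type*} [Group G] [Finite G] {p : ℕ} [Fact p.Prime] (S : Sylow p G)
    (hZ : ((S : Subgroup G) ⊓ Subgroup.centralizer ((S : Subgroup G) : Set G)) ≤ Cfsg.pPrimePCore p G) :
    ∃ W K : Subgroup G, (∀ x : G, x ∈ W ↔ (x ∈ (S : Subgroup G) ∧ ∀ g : G, g * x * g⁻¹ ∈ (S : Subgroup G) → g * x * g⁻¹ = x)) ∧
      K ≤ ((S : Subgroup G) ⊓ Subgroup.centralizer ((S : Subgroup G) : Set G)) ∧ W ⊓ K = ⊥ ∧ W ⊔ K = ((S : Subgroup G) ⊓ Subgroup.centralizer ((S : Subgroup G) : Set G)) := by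
  set H := (S : Subgroup G) ⊓ Cfsg.pPrimePCore p G with hH
  have hSN : (S : Subgroup G) ≤ normalizer (H : Set G) := fun m hm => by
    rw [mem_normalizer_iff_cj, cj_inf, cj_eq_of_mem hm, cj_normal]
  have hZ' : (S : Subgroup G) ⊓ centralizer ((S : Subgroup G) : Set G) ≤
      H ⊓ centralizer (H : Set G) :=
    le_inf (le_inf inf_le_left hZ) (inf_le_right.trans (centralizer_le inf_le_left))
  obtain ⟨K, h1, h2, h3⟩ := exists_direct_factor (p := p) (V := H ⊓ centralizer (H : Set G)) hSN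
    (isSylowIn_of_le S hSN).not_dvd (S.isPGroup'.to_le (inf_le_left.trans inf_le_left))
    (CfsgH2.isMulCommutative_iff.mpr fun a ha b hb => hb.2 a ha.1)
    (CfsgH2.le_normalizer_inf le_rfl (normalizer_le_normalizer_centralizer H))
  have e : H ⊓ centralizer (H : Set G) ⊓ centralizer ((S : Subgroup G) : Set G) =
      (S : Subgroup G) ⊓ centralizer ((S : Subgroup G) : Set G) :=
    le_antisymm (inf_le_inf_right _ (inf_le_left.trans inf_le_left)) (le_inf hZ' inf_le_right)
  rw [e] at h1 h3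
  refine ⟨H ⊓ centralizer (H : Set G) ⊓ centralizer (normalizer (H : Set G) : Set G), K, fun x => ⟨fun hx => ⟨hx.1.1.1, fun g hg => ?_⟩, fun hx => ?_⟩, h1, h2, h3⟩
  · obtain ⟨n, hn, e⟩ := (Cfsg.Agent.S1907.result S).2 x _ hx.1.1.1 hg (isConj_iff.mpr ⟨g, rfl⟩)
    rw [← e, mul_inv_eq_iff_eq_mul]
    exact hx.2 n hn
  · have h4 := hZ' (show x ∈ _ from ⟨hx.1, fun s hs => mul_inv_eq_iff_eq_mul.mp
      (hx.2 s (mul_mem (mul_mem hs hx.1) (inv_mem hs)))⟩)
    exact ⟨h4, fun n hn => mul_inv_eq_iff_eq_mul.mp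
      (hx.2 n ((mem_normalizer_iff.mp hn x).mp h4.1).1)⟩

end Cfsg.Agent.S1944
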