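import Cfsg.Statements.S1946
import Cfsg.Agent.H1.Detect

set_option autoImplicit false
open Cfsg

namespace Cfsg.Agent.S1946

open CfsgH1 Subgroup
open scoped commutatorElement
set_option maxHeartbeats 400000

/-- Let P be a Sylow p-subgroup of the finite group G. Then G has a normal p-complement if and only if P controls the fusion of its elements of order dividing p (dividing 4 when p = 2): whenever such an element a of P has a G-conjugate g a g⁻¹ in P, that conjugate is already x a x⁻¹ for some x in P. -/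
theorem result {G : Type*} [Group G] [Finite G] {p : ℕ} [Fact p.Prime] (P : Sylow p G) :
    Cfsg.HasNormalPComplement p G ↔
      ∀ a ∈ (P : Subgroup G), (a ^ p = 1 ∨ (p = 2 ∧ a ^ 4 = 1)) → ∀ g : G, g * a * g⁻¹ ∈ (P : Subgroup G) →
        ∃ x ∈ (P : Subgroup G), g * a * g⁻¹ = x * a * x⁻¹ := by
  have hP := isSylowIn_top P
  rw [hasNormalPComplement_iff_top]
  refine ⟨fun h a ha _ g hg => ?_, fun h => hP.pNil_of_automizers fun U hU _ g _ hg hc => ?_⟩
  · obtain ⟨t, ht, e⟩ := h.exists_conj_eq hP (mem_top g)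
    exact ⟨t, ht, (e a ha hg).symm⟩
  obtain ⟨D, h1, h2, h3, -, h4⟩ := exists_detect (hP.pgroup.to_le hU)
  haveI := P.isPGroup'.isNilpotent
  obtain ⟨n, hn⟩ := Subgroup.nilpotent_iff_lowerCentralSeries.mp this
  refine h4 g hg hc (mem_centralizer_of_chain (hP.pgroup.to_le (h1.trans hU)) (h2 hg) hc
    (fun i => D ⊓ ((⊤ : Subgroup (P : Subgroup G)).lowerCentralSeries i).map
      (P : Subgroup G).subtype) (fun d hd => ⟨hd, ⟨d, hU (h1 hd)⟩, mem_top _, rfl⟩) ?_ (n := n)
      (by simp [hn]))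
  rintro i a ⟨ha, b, hb, rfl⟩ k
  have h5 := (mem_normalizer_iff.mp (zpow_mem (h2 hg) k) _).mp (D.inv_mem ha)
  obtain ⟨x, hx, e⟩ := h _ (hU (h1 (D.inv_mem ha))) (h3 _ (D.inv_mem ha)) (g ^ k) (hU (h1 h5))
  refine ⟨by simpa [commutatorElement_def, mul_assoc] using D.mul_mem ha h5,
    ⁅b, ⟨x, hx⟩⁆, commutator_mem_commutator hb (mem_top _), ?_⟩
  rw [commutatorElement_def, commutatorElement_def, mul_assoc, mul_assoc, mul_assoc, mul_assoc,
    ← mul_assoc (g ^ k), e]
  simp [mul_assoc]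

end Cfsg.Agent.S1946
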