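import Cfsg.Statements.S1947
import Cfsg.Agent.H1.Detect

set_option autoImplicit false
open Cfsg

namespace Cfsg.Agent.S1947

open CfsgH1 Subgroup
open scoped commutatorElement
set_option maxHeartbeats 400000

/-- Let G be a finite group and p a prime. If every element of G of order dividing p (dividing 4 when p = 2) lies in some fixed term Z_n(G) of the upper central series, then G has a normal p-complement. -/
theorem result {G : Type*} [Group G] [Finite G] {p : ℕ} [Fact p.Prime] (n : ℕ)
    (h : ∀ a : G, (a ^ p = 1 ∨ (p = 2 ∧ a ^ 4 = 1)) → a ∈ Subgroup.upperCentralSeries G n) : Cfsg.HasNormalPComplement p G := by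
  obtain ⟨S, hS⟩ := exists_isSylowIn p (⊤ : Subgroup G)
  rw [hasNormalPComplement_iff_top]
  refine hS.pNil_of_automizers fun U hU _ g _ hg hc => ?_
  obtain ⟨D, h1, h2, h3, -, h4⟩ := exists_detect (hS.pgroup.to_le hU)
  refine h4 g hg hc (mem_centralizer_of_chain (hS.pgroup.to_le (h1.trans hU)) (h2 hg) hc
    (fun i => Subgroup.upperCentralSeries G (n - i)) (fun d hd => h d (h3 d hd)) (fun i a ha k => ?_)
    (n := n) (by simp))
  rcases Nat.eq_zero_or_pos (n - i) with h0 | h0
  · rw [h0, Subgroup.upperCentralSeries_zero, mem_bot] at ha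
    simp [ha]
  · rw [show n - i = n - (i + 1) + 1 by omega] at ha
    exact Subgroup.mem_upperCentralSeries_succ_iff.mp ha _

end Cfsg.Agent.S1947
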