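import Cfsg.Statements.S2530


set_option autoImplicit false
open Cfsg

namespace Cfsg.Agent.S2530



section

variable {G : Type*} [Group G] (s : ℕ → G) (n : ℕ)

/-- the product of `m` consecutive generators -/
def T (a m : ℕ) : G := Nat.rec (motive := fun _ => ℕ → G) (fun _ => 1) (fun _ ih a => s a * ih (a + 1)) m a

theorem T_zero (a : ℕ) : T s a 0 = 1 := rfl
theorem T_succ (a m : ℕ) : T s a (m + 1) = s a * T s (a + 1) m := rfl

variable {s n} (h1 : ∀ i < n, s i * s i = 1) (h2 : ∀ i j, i + 1 < j → j < n → s i * s j = s j * s i)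
  (h3 : ∀ i, i + 1 < n → s (i + 1) * s i * s (i + 1) = s i * s (i + 1) * s i)

include h2 in
theorem comm_T (i m : ℕ) : ∀ a, i + 1 < a → a + m ≤ n → s i * T s a m = T s a m * s i := by
  induction m with
  | zero => intro a _ _; rw [T_zero, one_mul, mul_one]
  | succ m ih =>
    intro a ha hm
    rw [T_succ, ← mul_assoc, h2 i a ha (by omega), mul_assoc, ih (a + 1) (by omega) (by omega), mul_assoc]

include h2 h3 in
theorem shift_T (i m : ℕ) : ∀ a, a ≤ i → i + 1 < a + m → a + m ≤ n →
    s (i + 1) * T s a m = T s a m * s i := by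
  induction m with
  | zero => intro a _ _ _; omega
  | succ m ih =>
    intro a ha hi hm
    rcases ha.eq_or_lt with rfl | ha
    · obtain ⟨m, rfl⟩ : ∃ k, m = k + 1 := ⟨m - 1, by omega⟩
      rw [T_succ, T_succ, ← mul_assoc, ← mul_assoc, h3 a (by omega), mul_assoc, mul_assoc,
        comm_T h2 a m (a + 1 + 1) (by omega) (by omega)]
      simp only [mul_assoc]
    · rw [T_succ, ← mul_assoc, ← h2 a (i + 1) (by omega) (by omega), mul_assoc,
        ih (a + 1) ha (by omega) (by omega), mul_assoc]

include h1 h2 h3 in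
theorem card_le (k : ℕ) (hk : k ≤ n) :
    ((Submonoid.closure (s '' {i | i < k}) : Submonoid G) : Set G).Finite ∧
      ((Submonoid.closure (s '' {i | i < k}) : Submonoid G) : Set G).ncard ≤ (k + 1).factorial := by
  induction k with
  | zero => simp
  | succ k ih =>
    obtain ⟨f, c⟩ := ih (by omega)
    set M := Submonoid.closure (s '' {i | i < k})
    have hM : ∀ i < k, ∀ x ∈ M, s i * x ∈ M := fun i hi x hx =>
      M.mul_mem (Submonoid.subset_closure ⟨i, hi, rfl⟩) hx
    have key : ((Submonoid.closure (s '' {i | i < k + 1}) : Submonoid G) : Set G) ⊆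
        (fun p : ℕ × G => T s p.1 (k + 1 - p.1) * p.2) '' (Set.Iio (k + 2) ×ˢ (M : Set G)) := by
      intro g hg
      induction hg using Submonoid.closure_induction_left with
      | one => exact ⟨(k + 1, 1), ⟨Nat.lt_succ_self _, M.one_mem⟩, by simp [T_zero]⟩
      | mul_left x hx g _ ih =>
        obtain ⟨i, hi, rfl⟩ := hx
        obtain ⟨⟨j, y⟩, ⟨hj, hy⟩, rfl⟩ := ih
        simp only [Set.mem_ofPred_eq, Set.mem_Iio] at hi hj
        rcases lt_trichotomy (i + 1) j with h | rfl | h
        · exact ⟨(j, s i * y), ⟨hj, hM i (by omega) y hy⟩, by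
            simp only; rw [← mul_assoc, ← mul_assoc, comm_T h2 i _ j h (by omega)]⟩
        · exact ⟨(i, y), ⟨by simp only [Set.mem_Iio]; omega, hy⟩, by
            simp only
            rw [show k + 1 - i = k + 1 - (i + 1) + 1 by omega, T_succ, mul_assoc]⟩
        · rcases (Nat.lt_succ_iff.1 h).eq_or_lt with rfl | h
          · exact ⟨(j + 1, y), ⟨by simp only [Set.mem_Iio]; omega, hy⟩, by
              simp only
              rw [show k + 1 - j = k + 1 - (j + 1) + 1 by omega, T_succ, ← mul_assoc, ← mul_assoc,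
                h1 j (by omega), one_mul]⟩
          · obtain ⟨i, rfl⟩ : ∃ l, i = l + 1 := ⟨i - 1, by omega⟩
            exact ⟨(j, s i * y), ⟨hj, hM i (by omega) y hy⟩, by
              simp only
              rw [← mul_assoc, ← mul_assoc, shift_T h2 h3 i _ j (by omega) (by omega) (by omega)]⟩
    have hf := ((Set.finite_Iio (k + 2)).prod f)
    refine ⟨(hf.image _).subset key, ((Set.ncard_le_ncard key (hf.image _)).trans
      (Set.ncard_image_le hf)).trans ?_⟩
    rw [Set.ncard_prod, Nat.factorial_succ (k + 1), ← Finset.coe_Iio, Set.ncard_coe_finset, Nat.card_Iio]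
    exact Nat.mul_le_mul_left _ c

end

theorem liftable (n : ℕ) : (CoxeterMatrix.A n).IsLiftable
    fun i : Fin n => Equiv.swap i.castSucc i.succ := by
  intro i j
  show _ ^ (if i = j then 1 else if (j : ℕ) + 1 = i ∨ (i : ℕ) + 1 = j then 3 else 2) = _
  have e : ∀ a b : Fin n, (a : ℕ) + 1 = b →
      (Equiv.swap a.castSucc a.succ * Equiv.swap b.castSucc b.succ) ^ 3 = 1 := fun a b h => by
    have : b.castSucc = a.succ := Fin.ext h.symm
    rw [this, Equiv.swap_comm a.castSucc, ← orderOf_dvd_iff_pow_eq_one,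
      (Equiv.Perm.isThreeCycle_swap_mul_swap_same (Fin.castSucc_lt_succ).ne'
        (this ▸ Fin.castSucc_lt_succ.ne) (by
          intro h'; have := congrArg Fin.val h'; simp at this; omega)).orderOf]
  split_ifs with h h'
  · rw [h, pow_one, Equiv.swap_mul_self]
  · rcases h' with h' | h'
    · rw [← inv_eq_one, ← inv_pow, mul_inv_rev, Equiv.swap_inv, Equiv.swap_inv]; exact e j i h'
    · exact e i j h'
  · have hd : Equiv.Perm.Disjoint (Equiv.swap i.castSucc i.succ) (Equiv.swap j.castSucc j.succ) := by
      have := Fin.val_ne_of_ne h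
      apply Equiv.Perm.disjoint_swap_swap
      simp only [List.nodup_cons, List.mem_cons, List.not_mem_nil, Fin.ext_iff, Fin.val_castSucc,
        Fin.val_succ, List.nodup_nil, not_false_eq_true, or_false, and_true]
      omega
    rw [hd.commute.mul_pow, pow_two, pow_two, Equiv.swap_mul_self, Equiv.swap_mul_self, one_mul]

/-- The Coxeter presentation of the symmetric group: for every n, the symmetric group on n+1 letters is the Coxeter group of type A_n with the adjacent transpositions (i, i+1) as simple reflections; that is, it is presented by generators r_1, …, r_n subject to r_i² = 1, (r_i r_j)² = 1 for |i − j| > 1 and (r_i r_{i+1})³ = 1, with r_i mapping to (i, i+1). -/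
theorem result (n : ℕ) :
    ∃ cs : CoxeterSystem (CoxeterMatrix.A n) (Equiv.Perm (Fin (n + 1))), ∀ i : Fin n, cs.simple i = Equiv.swap i.castSucc i.succ := by
  let cs := (CoxeterMatrix.A n).toCoxeterSystem
  let φ := cs.lift ⟨_, liftable n⟩
  have hφ : ∀ i, φ (cs.simple i) = Equiv.swap i.castSucc i.succ := cs.lift_apply_simple (liftable n)
  have hs : Function.Surjective φ := by
    rw [← MonoidHom.mrange_eq_top, eq_top_iff, ← Equiv.Perm.mclosure_swap_castSucc_succ,
      Submonoid.closure_le]
    rintro _ ⟨i, rfl⟩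
    exact ⟨_, hφ i⟩
  let s : ℕ → (CoxeterMatrix.A n).Group := fun i => if h : i < n then cs.simple ⟨i, h⟩ else 1
  have hi : ∀ i, (s i)⁻¹ = s i := fun i => by
    simp only [s]; split_ifs <;> simp
  have hp : ∀ i j, i < j → j < n → (s i * s j) ^ (if i + 1 = j then 3 else 2) = 1 := fun i j h hj => by
    have := cs.simple_mul_simple_pow ⟨i, h.trans hj⟩ ⟨j, hj⟩
    change _ ^ (if (⟨i, h.trans hj⟩ : Fin n) = ⟨j, hj⟩ then 1 else if j + 1 = i ∨ i + 1 = j then 3 else 2) = _
      at this
    rw [if_neg (fun e => h.ne (congrArg Fin.val e))] at this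
    simp only [s, dif_pos hj, dif_pos (h.trans hj)]
    rw [← this]
    congr 1
    exact if_congr (by omega) rfl rfl
  obtain ⟨f, c⟩ := card_le (s := s) (n := n) (fun i _ => by nth_rw 1 [← hi i]; exact inv_mul_cancel _)
    (fun i j h hj => by
      have := hp i j (by omega) hj
      rw [if_neg h.ne, pow_two, mul_eq_one_iff_eq_inv, mul_inv_rev, hi, hi] at this
      exact this)
    (fun i h => by
      have := hp i (i + 1) (by omega) h
      rw [if_pos rfl, show (s i * s (i + 1)) ^ 3 = (s i * s (i + 1) * s i) * (s (i + 1) * s i * s (i + 1)) by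
        simp only [pow_succ, pow_zero, one_mul, mul_assoc], mul_eq_one_iff_eq_inv, mul_inv_rev, mul_inv_rev,
        hi, hi, ← mul_assoc] at this
      exact this.symm) n le_rfl
  have : s '' {i | i < n} = Set.range cs.simple := by
    ext x
    exact ⟨fun ⟨i, hi, e⟩ => ⟨⟨i, hi⟩, by rw [← e]; simp only [s, dif_pos (show i < n from hi)]⟩,
      fun ⟨i, e⟩ => ⟨i, i.2, by rw [← e]; exact dif_pos i.2⟩⟩
  rw [this, cs.submonoid_closure_range_simple, Submonoid.coe_top] at f c
  have : Finite (CoxeterMatrix.A n).Group := Set.finite_univ_iff.1 f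
  have hb : Function.Bijective φ := hs.bijective_of_nat_card_le (by
    rw [Nat.card_eq_fintype_card (α := Equiv.Perm _), Fintype.card_perm, Fintype.card_fin,
      ← Set.ncard_univ]
    exact c)
  exact ⟨cs.map (MulEquiv.ofBijective φ hb), fun i => hφ i⟩

end Cfsg.Agent.S2530
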