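import Cfsg.Statements.S2551
import Cfsg.Agent.H5.A8f

set_option autoImplicit false
open Cfsg

namespace Cfsg.Agent.S2551

open CfsgH5 MulAction
open scoped Pointwise

noncomputable section

/-- chain of the alternating group of degree 7 in both representations -/
def c7 : List Level :=
  [⟨1, [0xbd2d0ace514b90f114646a98b304e0], 0xfffe,
    ap 120 0xffffffffffffffffffffffffffffff 0xbc676a42550992e5b064289aa7a0e0bd636a4e1260566415e270d2451da0bda54ace303282d411e32a44e59d80bced4aca304158170d4778966491a0bc291b56721b8890b0cb415e251da0bca93b46151154d305c95b0647a0e0bc2568d674491c332c2c2a04f51da0bcab69c6146a8a2724c162c837a0e0bd2d0956717a8663896e091a84b0a0bd690b4e51231e7718ad4844a1ad00bc2758d2d262d2e535e820c26114e0bc612a5ab3339633bd42231212b500bc6b6942937886e2a124598ea0b1a0bd2d0ace514b90f114646a98b304e0bdab49ca307b9ac5a928398a418820000000000000000000000000000000,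
    ap 2 3 0xa13d1440, ap 3 7 0x71b4da91b840⟩,
   ⟨2, [0xbc675942963994b73c622910963420], 0xfffc,
    ap 120 0xffffffffffffffffffffffffffffff 0xbc255b523310dee2152852ce663420bd230b4e55188a46354b425cf39820bd2b684e512144352d8d4a1ee39820bc276ad23273c624a0855a8c763420bc65684eb42914b10dac4a0c773c20bc6d2ac2935a8c7189cf2152863420bda7095691399ac42443215cf5a820bc675942963994b73c622910963420bd612b4674424e62156a10dac73c20bd6969467031d285a8851898d73c20bd25385ab1291ee31d8d424435a820bd2309dab273c85634c74a0625a820bc6b3a4ad05a9097b98d31ca410c20bdab49ca307b9ac5a928398a418820000000000000000000000000000000000000000000000000000000000000,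
    ap 2 3 0x62642200, ap 3 7 0x51baa1713800⟩,
   ⟨4, [0xbca74846d54254b31c856b1ee18820, 0xbda13a4a35635cf4a16a31c8518820], 0xfff0,
    ap 120 0xffffffffffffffffffffffffffffff 0xbc6b385a54214c77b9ac4254b18820bc614ada53290e6635cf52d0918820bc675a5a5031c8573d8d5a92818820bc6909da55398a46b1ee4a16a18820bcab0a46d35a928214c7635cf18820bca159c6d44a16a290e67b9ac18820bca74846d54254b31c856b1ee18820bca93ac6d052d09398a473d8d18820bda9584a336b1ee52d09214c718820bda70aca3473d8d4254b290e618820bda13a4a35635cf4a16a31c8518820bdab49ca307b9ac5a928398a418820000000000000000000000000000000000000000000000000000000000000000000000000000000000000000000000000000000000000000000000000,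
    ap 1 1 0x2c20, ap 3 7 0x69b4ca908000⟩]

theorem c7_check : checkC (permOps 5 31 (16 + 8)) c7 = true := by decide +kernel

theorem c7_valid : ∀ s ∈ gens c7,
    l42P.In ((⊤ : Subgroup _).prod (C8.grp (gens (cA8.drop 1)))) s :=
  l42P.valid (exists_gl _ 4 15) (fun p h => in8 (by decide +kernel) h) (by decide +kernel)

theorem c7_le : l42P.grp (gens c7) ≤ l42P.grp (gens l42A) :=
  l42P.grp_le fun s hs => @Codes.in_of_memC _ _ _ _ l42P.act l42P.C _ _
    (l42P.valid_top l42A_valid) l42A_check _ (l42P.valid_top c7_valid s hs)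
      (by revert s; decide +kernel)

theorem ais {α : Type*} (f : Equiv.Perm α) (x : α) : f (f⁻¹ x) = x := f.apply_symm_apply x
theorem ias {α : Type*} (f : Equiv.Perm α) (x : α) : f⁻¹ (f x) = x := f.symm_apply_apply x

theorem two_trans {O : Ops} {G : Type*} [Group G] [Finite G] {α : Type*} [MulAction G α]
    (C : Codes O G α) {l l' : Level} {r : List Level} (hv : ∀ s ∈ gens (l :: l' :: r), C.In ⊤ s)
    (hc : checkC O (l :: l' :: r) = true) {a b : α} (ha : C.enc a = l.b) (hb : C.enc b = l'.b)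
    {x y : α} (hx : l.B.testBit (C.enc x) = true)
    (hy : ∀ g : G, g • a = x → l'.B.testBit (C.enc (g⁻¹ • y)) = true) :
    ∃ g ∈ C.grp (gens (l :: l' :: r)), g • a = x ∧ g • b = y := by
  obtain ⟨g, hg, e⟩ := (C.orbit_iff hv hc ha x).2 hx
  obtain ⟨k, hk, e'⟩ := (C.orbit_iff (C.valid_tail hv) (Codes.checkC_cons.1 hc).2 hb _).2 (hy g e)
  have := (C.mem_tail_iff hv hc ha k).1 hk
  exact ⟨g * k, Subgroup.mul_mem _ hg this.1, by rw [mul_smul, this.2, e], by
    rw [mul_smul, e', smul_inv_smul]⟩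

theorem move (v w : Fin 4 → ZMod 2) (hv : v ≠ 0) (hw : w ≠ 0) (h : v ≠ w) :
    ∃ d ∈ l42P.grp (gens c7), (d.1 : Matrix (Fin 4) (Fin 4) (ZMod 2)).mulVec ![1, 0, 0, 0] = v ∧
      (d.1 : Matrix (Fin 4) (Fin 4) (ZMod 2)).mulVec ![0, 1, 0, 0] = w := by
  have k1 : ∀ u : Fin 4 → ZMod 2, u ≠ 0 → Nat.testBit 0xfffe ((vecEnc (zmodEnc 2) 4).enc u) = true := by
    decide +kernel
  have k2 : ∀ u : Fin 4 → ZMod 2, u ≠ 0 → u ≠ ![1, 0, 0, 0] →
      Nat.testBit 0xfffc ((vecEnc (zmodEnc 2) 4).enc u) = true := by decide +kernel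
  obtain ⟨d, hd, e1, e2⟩ := @two_trans _ _ _ _ _ l42P.act l42P.C _ _ _ (l42P.valid_top c7_valid)
    c7_check (Sum.inl ![1, 0, 0, 0]) (Sum.inl ![0, 1, 0, 0]) (by decide +kernel) (by decide +kernel)
    (Sum.inl v) (Sum.inl w) (k1 v hv) (fun g hg => by
      have hg' : glHom 4 (ZMod 2) g.1 ![1, 0, 0, 0] = v := Sum.inl_injective hg
      refine k2 (glHom 4 (ZMod 2) g.1⁻¹ w) (fun e => hw ?_) fun e => h ?_
      · have := congrArg (glHom 4 (ZMod 2) g.1) e
        rwa [map_inv, ais, glHom_apply, Matrix.mulVec_zero] at this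
      · rw [← hg', ← e, map_inv, ais])
  exact ⟨d, hd, Sum.inl_injective e1, Sum.inl_injective e2⟩

/-- overgroups of order 2520 -/
def Fr (S : List ℕ) : Prop :=
  ∀ H : Subgroup (Equiv.Perm (Fin 8)), H ≤ alternatingGroup (Fin 8) → Nat.card H = 2520 →
    C8.grp S ≤ H → ∃ y : Equiv.Perm (Fin 8), C8.grp (gens (cA8.drop 1)) ≤ MulAut.conj y • H

theorem Fr.step {U : List ℕ} {W : List Level} {tg : List (List ℕ)}
    (st : ∀ {H : Subgroup (Equiv.Perm (Fin 8))}, H ≤ alternatingGroup (Fin 8) → C8.grp U ≤ H →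
      H ≤ C8.grp (gens W) ∨ 11 ∣ Nat.card H ∨
        ∃ S ∈ tg, ∃ y : Equiv.Perm (Fin 8), C8.grp S ≤ MulAut.conj y • H)
    (k : ℕ) (hW : band (ok8 W) (Nat.beq (ordC ops8 W) k) = true) (hk : k < 2520)
    (ht : ∀ S ∈ tg, Fr S) : Fr U := by
  intro H hH hq hU
  rcases st hH hU with h | h | ⟨S, hS, y, h⟩
  · have := Subgroup.card_le_of_le h
    rw [card8 hW] at this
    omega
  · exact absurd h (not11 hH)
  · obtain ⟨z, hz⟩ := ht S hS _ (conj_le_alt hH y) (by rwa [card_conj_smul]) h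
    exact ⟨z * y, by rwa [← conj_smul_conj_smul]⟩

theorem fr7 : Fr (gens (cA8.drop 1)) := fun H _ _ h => ⟨1, by rwa [map_one, one_smul]⟩
theorem frS6 : Fr (gens gS6) := Fr.step stS6 720 (by decide +kernel) (by norm_num)
  (by simp only [List.forall_mem_cons]; exact ⟨fr7, by simp⟩)
theorem fr6 : Fr (gens (cA8.drop 2)) := Fr.step stA6 360 (by decide +kernel) (by norm_num)
  (by simp only [List.forall_mem_cons]; exact ⟨fr7, frS6, by simp⟩)
theorem fr53 : Fr (gens gA53) := Fr.step stA53 360 (by decide +kernel) (by norm_num)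
  (by simp only [List.forall_mem_cons]; exact ⟨fr6, by simp⟩)
theorem frS5 : Fr (gens gS5) := Fr.step stS5 120 (by decide +kernel) (by norm_num)
  (by simp only [List.forall_mem_cons]; exact ⟨fr6, fr53, by simp⟩)
theorem fr5 : Fr (gens (cA8.drop 3)) := Fr.step stA5 60 (by decide +kernel) (by norm_num)
  (by simp only [List.forall_mem_cons]; exact ⟨fr6, frS5, fr53, by simp⟩)
theorem frT5 : Fr (gens gT5) := Fr.step stT5 120 (by decide +kernel) (by norm_num)
  (by simp only [List.forall_mem_cons]; exact ⟨fr5, by simp⟩)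
theorem frP5 : Fr (gens gP5) := Fr.step stP5 60 (by decide +kernel) (by norm_num)
  (by simp only [List.forall_mem_cons]; exact ⟨frT5, fr5, by simp⟩)
theorem frC5 : Fr (gens gC5) := Fr.step stC5 60 (by decide +kernel) (by norm_num)
  (by simp only [List.forall_mem_cons]; exact ⟨fr5, frP5, by simp⟩)

theorem conj_even {H : Subgroup (Equiv.Perm (Fin 8))} (hH : H ≤ alternatingGroup (Fin 8))
    (hc : Nat.card H = 2520) :
    ∃ y ∈ alternatingGroup (Fin 8), C8.grp (gens (cA8.drop 1)) ≤ MulAut.conj y • H := by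
  have : Fact (Nat.Prime 5) := ⟨by norm_num⟩
  obtain ⟨y, hy⟩ := exists_conj_le (p := 5) (k := 1) (C8.grp (gens gC5))
    (card8 (by decide +kernel)) (by rw [card_S8]; decide) (H := H) (by rw [hc]; decide)
  obtain ⟨z, hz⟩ := frC5 _ (conj_le_alt hH y) (by rwa [card_conj_smul]) hy
  rw [conj_smul_conj_smul] at hz
  by_cases h : z * y ∈ alternatingGroup (Fin 8)
  · exact ⟨_, h, hz⟩
  · refine ⟨Equiv.swap 0 1 * (z * y), ?_, fun x hx => ?_⟩
    · rw [Equiv.Perm.mem_alternatingGroup] at h ⊢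
      rw [map_mul, Equiv.Perm.sign_swap (by decide), (Int.units_eq_one_or _).resolve_left h]
      rfl
    · rw [← conj_smul_conj_smul, mem_conj_smul]
      apply hz
      have hn : C8.grp [0xfac681] ≤ Subgroup.normalizer (C8.grp (gens (cA8.drop 1))) :=
        C8.le_normalizer (C8.valid_drop cA8_valid 1) (check_drop cA8_check 1) (by decide +kernel)
      have hs : Equiv.swap (0 : Fin 8) 1 ∈ C8.grp [0xfac681] := C8.mem_grp (by decide +kernel)
      exact (Subgroup.mem_normalizer_iff''.1 (hn hs) x).1 hx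

theorem main (H : Subgroup (GL (Fin 4) (ZMod 2))) (hc : Nat.card H = 2520)
    (v w v' w' : Fin 4 → ZMod 2) (hv : v ≠ 0) (hw : w ≠ 0) (h : v ≠ w) (hv' : v' ≠ 0) (hw' : w' ≠ 0)
    (h' : v' ≠ w') : ∃ g ∈ H, glHom 4 (ZMod 2) g v = v' ∧ glHom 4 (ZMod 2) g w = w' := by
  obtain ⟨f, hf, hr, hD⟩ := exists_L42
  obtain ⟨y, hy, hle⟩ := conj_even (H := H.map f) (hr ▸ Subgroup.map_le_range f H)
    (by rwa [Subgroup.card_map_of_injective hf])
  obtain ⟨k, rfl⟩ := hr.ge hy
  have hm : ∀ d ∈ l42P.grp (gens c7), k⁻¹ * d.1 * k ∈ H := by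
    intro d hd
    have e := l42P.eq_one_of_fst (l42P.valid_top l42A_valid) l42A_check (by decide +kernel) _
      (Subgroup.mul_mem _ (Subgroup.inv_mem _ (hD d.1)) (c7_le hd)) (inv_mul_cancel _)
    have e2 : f d.1 = d.2 := inv_mul_eq_one.1 (congrArg Prod.snd e)
    have := (mem_conj_smul _ _ _).1 (hle (l42P.grp_le c7_valid hd).2)
    rw [← e2, ← map_inv, ← map_mul, ← map_mul] at this
    exact (Subgroup.mem_map_iff_mem hf).1 this
  have hz : ∀ u, u ≠ 0 → glHom 4 (ZMod 2) k u ≠ 0 := fun u hu e => hu ((glHom 4 (ZMod 2) k).injective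
    (by rw [e, glHom_apply, Matrix.mulVec_zero]))
  obtain ⟨d, hd, e1, e2⟩ := move _ _ (hz v hv) (hz w hw) ((glHom 4 (ZMod 2) k).injective.ne h)
  obtain ⟨d', hd', e1', e2'⟩ := move _ _ (hz v' hv') (hz w' hw')
    ((glHom 4 (ZMod 2) k).injective.ne h')
  rw [← glHom_apply] at e1 e2 e1' e2'
  refine ⟨_, H.mul_mem (hm d' hd') (H.inv_mem (hm d hd)), ?_, ?_⟩
  · simp only [map_mul, map_inv, mul_inv_rev, inv_inv, Equiv.Perm.mul_apply, ais]
    rw [← e1, ias, e1', ias]
  · simp only [map_mul, map_inv, mul_inv_rev, inv_inv, Equiv.Perm.mul_apply, ais]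
    rw [← e2, ias, e2', ias]

end

/-- Let F be the field with 2 elements. GL_4(F) (≅ A_8) has a subgroup isomorphic to the alternating group A_7, and every such subgroup acts 2-transitively on the 15 non-zero vectors of F⁴: any ordered pair of distinct non-zero vectors is carried to any other by some element of the subgroup. -/
theorem result {F : Type*} [Field F] [Fintype F] (hF : Fintype.card F = 2) : (∃ H : Subgroup (Matrix.GeneralLinearGroup (Fin 4) F), Nonempty (H ≃* alternatingGroup (Fin 7))) ∧ ∀ H : Subgroup (Matrix.GeneralLinearGroup (Fin 4) F), Nonempty (H ≃* alternatingGroup (Fin 7)) → ∀ v w v' w' : Fin 4 → F, v ≠ 0 → w ≠ 0 → v ≠ w → v' ≠ 0 → w' ≠ 0 → v' ≠ w' → ∃ g ∈ H, (g : Matrix (Fin 4) (Fin 4) F).mulVec v = v' ∧ (g : Matrix (Fin 4) (Fin 4) F).mulVec w = w' := by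
  obtain ⟨e⟩ := nonempty_equiv_zmod 2 hF
  constructor
  · obtain ⟨f, hf, hr, -⟩ := exists_L42
    obtain ⟨i⟩ := isoA7
    have hle : C8.grp (gens (cA8.drop 1)) ≤ (f.comp (glEquiv e 4).toMonoidHom).range := by
      rw [range_comp_equiv, hr, ← grp_cA8]
      exact le8 (by decide +kernel)
    have hf' : Function.Injective (f.comp (glEquiv e 4).toMonoidHom) := hf.comp (glEquiv e 4).injective
    exact ⟨(C8.grp (gens (cA8.drop 1))).comap _, ⟨((Subgroup.equivMapOfInjective _ _ hf').trans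
      (MulEquiv.subgroupCongr (Subgroup.map_comap_eq_self hle))).trans i⟩⟩
  · rintro H ⟨i⟩ v w v' w' hv hw h hv' hw' h'
    have hi : Function.Injective fun (u : Fin 4 → F) => e ∘ u := fun a b hab =>
      funext fun j => e.injective (congrFun hab j)
    have hz : ∀ u : Fin 4 → F, u ≠ 0 → e ∘ u ≠ 0 := fun u hu hh => hu (hi (by
      show e ∘ u = e ∘ (0 : Fin 4 → F)
      rw [hh]; funext j; simp))
    obtain ⟨_, ⟨g, hg, rfl⟩, e1, e2⟩ := main (H.map (glEquiv e 4).toMonoidHom)
      (by rw [Subgroup.card_map_of_injective (f := (glEquiv e 4).toMonoidHom) (glEquiv e 4).injective,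
        Nat.card_congr i.toEquiv, card_A7])
      _ _ _ _ (hz v hv) (hz w hw) (hi.ne h) (hz v' hv') (hz w' hw') (hi.ne h')
    have key : ∀ u : Fin 4 → F, glHom 4 (ZMod 2) ((glEquiv e 4).toMonoidHom g) (e ∘ u) =
        e ∘ (g : Matrix (Fin 4) (Fin 4) F).mulVec u := fun u => by
      funext j
      exact (RingHom.map_mulVec e.toRingHom (g : Matrix (Fin 4) (Fin 4) F) u j).symm
    exact ⟨g, hg, hi ((key v).symm.trans e1), hi ((key w).symm.trans e2)⟩

end Cfsg.Agent.S2551
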