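import Cfsg.Statements.S2651
import Cfsg.Agent.H5.Coh23b
import Cfsg.Agent.H5.Coh23c

set_option autoImplicit false
open Cfsg

namespace Cfsg.Agent.S2651

open CfsgH5 MulAction

theorem lifts {E : Type*} [Group E] [Finite E] (N : Subgroup E) (π : E →* Equiv.Perm GolayPt)
    (hπ : π.ker = N) (hr : π.range = Spor.M23) (θ : W24 →+ Additive N) (hsurj : Function.Surjective θ)
    (hker : ∀ w : W24, θ w = 0 ↔ (w ∈ golayCode ∨ w + Pi.single none 1 ∈ golayCode))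
    (hθ : ∀ (g : E) (w : W24), ((θ (w ∘ ⇑(π g)⁻¹)).toMul : E) = g * ((θ w).toMul : E) * g⁻¹)
    (hns : ∀ H : Subgroup E, H ⊓ N = ⊥ → H ⊔ N ≠ ⊤) :
    ∃ x : ℕ → E, (∀ i, C24.code (π (x i)) = xc23 i) ∧ ∀ s ∈ pc23,
      ev x (lw23 s) = ((θ (word (cocA s))).toMul : E) * ev x (rw23 s) := by
  let X := cocExt N π hπ θ hsurj hker hθ
  obtain ⟨x, hx⟩ := exists_lifts23 π hr
  obtain ⟨x', hx', t, h⟩ := X.main hx (by norm_num) (by decide) (fun _ _ => rfl) c11_lt rel23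
    (fun _ => rfl) cocChk
  have ht : ∀ t : ZMod 2, t = 0 ∨ t = 1 := by decide
  rcases ht t with rfl | rfl
  · obtain ⟨H, h1, h2⟩ := split23 π hr X.ker_comm X.ker_sq hx' fun s hs => by
      obtain ⟨a, ha, e⟩ := h s hs
      rw [zero_smul] at ha
      rw [e, X.uniq ha X.one, one_mul]
    exact absurd (hπ ▸ h2) (hns H (hπ ▸ h1))
  · refine ⟨x', hx', fun s hs => ?_⟩
    obtain ⟨a, ha, e⟩ := h s hs
    rw [one_smul] at ha
    rw [e, ← show ((θ (word (cocA s))).toMul : E) = a from ha]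

theorem equiv_of_fst {E E' : Type*} [Group E] [Group E'] (K : Subgroup (E × E'))
    (h1 : ∀ k ∈ K, k.1 = 1 → k = 1) (h2 : ∀ e, ∃ k ∈ K, k.1 = e) : Nonempty (K ≃* E) :=
  ⟨MulEquiv.ofBijective ((MonoidHom.fst E E').comp K.subtype)
    ⟨(injective_iff_map_eq_one _).2 fun k hk => Subtype.ext (h1 k k.2 hk),
      fun e => (h2 e).elim fun k hk => ⟨⟨k, hk.1⟩, hk.2⟩⟩⟩

theorem equiv_of_snd {E E' : Type*} [Group E] [Group E'] (K : Subgroup (E × E'))
    (h1 : ∀ k ∈ K, k.2 = 1 → k = 1) (h2 : ∀ e, ∃ k ∈ K, k.2 = e) : Nonempty (K ≃* E') :=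
  ⟨MulEquiv.ofBijective ((MonoidHom.snd E E').comp K.subtype)
    ⟨(injective_iff_map_eq_one _).2 fun k hk => Subtype.ext (h1 k k.2 hk),
      fun e => (h2 e).elim fun k hk => ⟨⟨k, hk.1⟩, hk.2⟩⟩⟩

theorem main {E : Type*} [Group E] [Finite E] (N : Subgroup E) (π : E →* Equiv.Perm GolayPt)
    (hπ : π.ker = N) (hr : π.range = Spor.M23) (θ : W24 →+ Additive N) (hsurj : Function.Surjective θ)
    (hker : ∀ w : W24, θ w = 0 ↔ (w ∈ golayCode ∨ w + Pi.single none 1 ∈ golayCode))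
    (hθ : ∀ (g : E) (w : W24), ((θ (w ∘ ⇑(π g)⁻¹)).toMul : E) = g * ((θ w).toMul : E) * g⁻¹)
    (hns : ∀ H : Subgroup E, H ⊓ N = ⊥ → H ⊔ N ≠ ⊤)
    {E' : Type*} [Group E'] [Finite E'] (N' : Subgroup E') (π' : E' →* Equiv.Perm GolayPt)
    (hπ' : π'.ker = N') (hr' : π'.range = Spor.M23) (θ' : W24 →+ Additive N')
    (hsurj' : Function.Surjective θ')
    (hker' : ∀ w : W24, θ' w = 0 ↔ (w ∈ golayCode ∨ w + Pi.single none 1 ∈ golayCode))
    (hθ' : ∀ (g : E') (w : W24), ((θ' (w ∘ ⇑(π' g)⁻¹)).toMul : E') = g * ((θ' w).toMul : E') * g⁻¹)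
    (hns' : ∀ H : Subgroup E', H ⊓ N' = ⊥ → H ⊔ N' ≠ ⊤) : Nonempty (E ≃* E') := by
  obtain ⟨x, hx, h⟩ := lifts N π hπ hr θ hsurj hker hθ hns
  obtain ⟨x', hx', h'⟩ := lifts N' π' hπ' hr' θ' hsurj' hker' hθ' hns'
  have X := (cocExt N π hπ θ hsurj hker hθ).ker_comm
  have X2 := (cocExt N π hπ θ hsurj hker hθ).ker_sq
  have X' := (cocExt N' π' hπ' θ' hsurj' hker' hθ').ker_comm
  have X2' := (cocExt N' π' hπ' θ' hsurj' hker' hθ').ker_sq
  let D : Subgroup (E × E') := (π.comp (MonoidHom.fst E E')).eqLocus (π'.comp (MonoidHom.snd E E'))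
  have hD : ∀ d : D, π d.1.1 = π' d.1.2 := fun d => d.2
  let πD : D →* Equiv.Perm GolayPt := (π.comp (MonoidHom.fst E E')).comp D.subtype
  have hθ1 : ∀ w, π ((θ w).toMul : E) = 1 := fun w => hπ.ge (θ w).toMul.2
  have hθ1' : ∀ w, π' ((θ' w).toMul : E') = 1 := fun w => hπ'.ge (θ' w).toMul.2
  let δ : Multiplicative W24 →* D := MonoidHom.mk'
    (fun w => ⟨(((θ w.toAdd).toMul : E), ((θ' w.toAdd).toMul : E')), (hθ1 _).trans (hθ1' _).symm⟩)
    fun a b => Subtype.ext (Prod.ext (by simp) (by simp))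
  have hΔ : δ.range.Normal := ⟨fun _ ⟨w, hw⟩ g => ⟨Multiplicative.ofAdd (w.toAdd ∘ ⇑(π g.1.1)⁻¹), by
    rw [← hw]
    exact Subtype.ext (Prod.ext (hθ _ _) (by rw [hD g]; exact hθ' _ _))⟩⟩
  have hle : δ.range ≤ πD.ker := fun _ ⟨w, hw⟩ => hw ▸ hθ1 _
  let ρ := QuotientGroup.lift δ.range πD hle
  have hρ : ∀ d : D, ρ (QuotientGroup.mk d) = π d.1.1 := fun d => rfl
  have hlift : ∀ e : E, ∃ d : D, d.1.1 = e := fun e => by
    obtain ⟨e', he'⟩ := (hr.trans hr'.symm).le ⟨e, rfl⟩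
    exact ⟨⟨(e, e'), he'.symm⟩, rfl⟩
  have hlift' : ∀ e : E', ∃ d : D, d.1.2 = e := fun e => by
    obtain ⟨e', he'⟩ := (hr.trans hr'.symm).ge ⟨e, rfl⟩
    exact ⟨⟨(e', e), he'⟩, rfl⟩
  let y : ℕ → D := fun i => ⟨(x i, x' i), C24.code_inj ((hx i).trans (hx' i).symm)⟩
  obtain ⟨H, h1, h2⟩ := split23 ρ (x := fun i => QuotientGroup.mk' _ (y i))
    (by
      rw [← hr]
      ext g
      refine ⟨fun ⟨q, hq⟩ => ?_, fun ⟨e, he⟩ => ?_⟩
      · obtain ⟨d, rfl⟩ := QuotientGroup.mk_surjective q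
        exact ⟨_, hq⟩
      · obtain ⟨d, rfl⟩ := hlift e
        exact ⟨QuotientGroup.mk d, he⟩)
    (fun a ha b hb => by
      obtain ⟨a, rfl⟩ := QuotientGroup.mk_surjective a
      obtain ⟨b, rfl⟩ := QuotientGroup.mk_surjective b
      rw [← QuotientGroup.mk_mul, ← QuotientGroup.mk_mul]
      congr 1
      exact Subtype.ext (Prod.ext (X _ ha _ hb) (X' _ ((hD a).symm.trans ha) _ ((hD b).symm.trans hb))))
    (fun a ha => by
      obtain ⟨a, rfl⟩ := QuotientGroup.mk_surjective a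
      rw [← QuotientGroup.mk_mul, ← QuotientGroup.mk_one]
      congr 1
      exact Subtype.ext (Prod.ext (X2 _ ha) (X2' _ ((hD a).symm.trans ha))))
    hx (fun s hs => by
      have e : ev y (lw23 s) = δ (Multiplicative.ofAdd (word (cocA s))) * ev y (rw23 s) := by
        refine Subtype.ext (Prod.ext ?_ ?_)
        · exact (map_ev ((MonoidHom.fst E E').comp D.subtype) y _).trans ((h s hs).trans
            (congrArg _ (map_ev ((MonoidHom.fst E E').comp D.subtype) y _).symm))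
        · exact (map_ev ((MonoidHom.snd E E').comp D.subtype) y _).trans ((h' s hs).trans
            (congrArg _ (map_ev ((MonoidHom.snd E E').comp D.subtype) y _).symm))
      rw [← map_ev, ← map_ev, e, map_mul, QuotientGroup.mk'_apply,
        (QuotientGroup.eq_one_iff (N := δ.range) _).2 ⟨_, rfl⟩, one_mul])
  let K := H.comap (QuotientGroup.mk' δ.range)
  have hK1 : ∀ d ∈ K, π d.1.1 = 1 → ∃ w, ((θ w).toMul : E) = d.1.1 ∧ ((θ' w).toMul : E') = d.1.2 := by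
    intro d hd hd1
    have : (QuotientGroup.mk d : D ⧸ δ.range) ∈ H ⊓ ρ.ker := ⟨hd, hd1⟩
    rw [h1, Subgroup.mem_bot, QuotientGroup.eq_one_iff] at this
    obtain ⟨w, rfl⟩ := this
    exact ⟨_, rfl, rfl⟩
  have hK2 : ∀ d : D, ∃ k ∈ K, π k.1.1 = π d.1.1 := by
    intro d
    have : (QuotientGroup.mk d : D ⧸ δ.range) ∈ ((H ⊔ ρ.ker : Subgroup _) : Set _) := by
      rw [h2]; trivial
    rw [Subgroup.mul_normal] at this
    obtain ⟨a, ha, b, hb, e⟩ := this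
    obtain ⟨k, rfl⟩ := QuotientGroup.mk_surjective a
    refine ⟨k, ha, ?_⟩
    rw [← hρ, ← hρ, ← e, map_mul, show ρ b = 1 from hb, mul_one]
  have hδ : ∀ w, δ w ∈ K := fun w => by
    show QuotientGroup.mk (δ w) ∈ H
    rw [(QuotientGroup.eq_one_iff (N := δ.range) _).2 ⟨_, rfl⟩]
    exact H.one_mem
  have hz : ∀ w, ((θ w).toMul : E) = 1 ↔ ((θ' w).toMul : E') = 1 := fun w => by
    rw [OneMemClass.coe_eq_one, OneMemClass.coe_eq_one, toMul_eq_one, toMul_eq_one, hker, hker']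
  obtain ⟨e1⟩ := equiv_of_fst (K.map D.subtype) (by
      rintro _ ⟨d, hd, rfl⟩ h0
      obtain ⟨w, a, b⟩ := hK1 d hd (by rw [show d.1.1 = 1 from h0, map_one])
      exact Prod.ext h0 (b.symm.trans ((hz w).1 (a.trans h0))))
    (fun e => by
      obtain ⟨d, rfl⟩ := hlift e
      obtain ⟨k, hk, e⟩ := hK2 d
      obtain ⟨w, hw⟩ := hsurj (Additive.ofMul ⟨k.1.1⁻¹ * d.1.1, hπ.le (by
        rw [MonoidHom.mem_ker, map_mul, map_inv, e, inv_mul_cancel])⟩)
      refine ⟨_, ⟨_, K.mul_mem hk (hδ (Multiplicative.ofAdd w)), rfl⟩, ?_⟩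
      show k.1.1 * ((θ w).toMul : E) = _
      rw [hw]; exact mul_inv_cancel_left _ _)
  obtain ⟨e2⟩ := equiv_of_snd (K.map D.subtype) (by
      rintro _ ⟨d, hd, rfl⟩ h0
      obtain ⟨w, a, b⟩ := hK1 d hd (by rw [hD, show d.1.2 = 1 from h0, map_one])
      exact Prod.ext (a.symm.trans ((hz w).2 (b.trans h0))) h0)
    (fun e => by
      obtain ⟨d, rfl⟩ := hlift' e
      obtain ⟨k, hk, e⟩ := hK2 d
      obtain ⟨w, hw⟩ := hsurj' (Additive.ofMul ⟨k.1.2⁻¹ * d.1.2, hπ'.le (by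
        rw [MonoidHom.mem_ker, map_mul, map_inv, ← hD, e, hD, inv_mul_cancel])⟩)
      refine ⟨_, ⟨_, K.mul_mem hk (hδ (Multiplicative.ofAdd w)), rfl⟩, ?_⟩
      show k.1.2 * ((θ' w).toMul : E') = _
      rw [hw]; exact mul_inv_cancel_left _ _)
  exact ⟨e1.symm.trans e2⟩

/-- The non-split extension of the Mathieu group M₂₃ by its cocode module is unique. Suppose E and E' are finite groups, each with a normal subgroup (N, N'), an isomorphism of the quotient onto M₂₃ = `Spor.M23`, and a surjective additive homomorphism from the binary words on the 24 points `GolayPt` onto the normal subgroup with kernel the Golay code `golayCode` together with its translate by the unit vector at the extra point `none`, intertwining the coordinate permutation w ↦ w ∘ σ⁻¹ (σ the image of gN) with conjugation by g; and suppose that in each group the normal subgroup has no complement. Then E and E' are isomorphic. -/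
theorem result
    {E : Type*} [Group E] [Finite E] (N : Subgroup E) [hN : N.Normal]
    (φ : E ⧸ N ≃* ↥Cfsg.Spor.M23) (θ : (Cfsg.GolayPt → ZMod 2) →+ Additive ↥N)
    (hsurj : Function.Surjective θ)
    (hker : ∀ w : Cfsg.GolayPt → ZMod 2, θ w = 0 ↔ (w ∈ Cfsg.golayCode ∨ w + Pi.single none 1 ∈ Cfsg.golayCode))
    (hθ : ∀ (g : E) (w : Cfsg.GolayPt → ZMod 2),
      ((θ (w ∘ ⇑(((φ (QuotientGroup.mk g) : ↥Cfsg.Spor.M23) : Equiv.Perm Cfsg.GolayPt)⁻¹))).toMul : E)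
        = g * ((θ w).toMul : E) * g⁻¹)
    (hns : ∀ H : Subgroup E, H ⊓ N = ⊥ → H ⊔ N ≠ ⊤)
    {E' : Type*} [Group E'] [Finite E'] (N' : Subgroup E') [hN' : N'.Normal]
    (φ' : E' ⧸ N' ≃* ↥Cfsg.Spor.M23) (θ' : (Cfsg.GolayPt → ZMod 2) →+ Additive ↥N')
    (hsurj' : Function.Surjective θ')
    (hker' : ∀ w : Cfsg.GolayPt → ZMod 2, θ' w = 0 ↔ (w ∈ Cfsg.golayCode ∨ w + Pi.single none 1 ∈ Cfsg.golayCode))
    (hθ' : ∀ (g : E') (w : Cfsg.GolayPt → ZMod 2),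
      ((θ' (w ∘ ⇑(((φ' (QuotientGroup.mk g) : ↥Cfsg.Spor.M23) : Equiv.Perm Cfsg.GolayPt)⁻¹))).toMul : E')
        = g * ((θ' w).toMul : E') * g⁻¹)
    (hns' : ∀ H : Subgroup E', H ⊓ N' = ⊥ → H ⊔ N' ≠ ⊤) :
    Nonempty (E ≃* E') := by
  exact main N (projM N φ) (projM_ker N φ) (projM_range N φ) θ hsurj hker hθ hns
    N' (projM N' φ') (projM_ker N' φ') (projM_range N' φ') θ' hsurj' hker' hθ' hns'

end Cfsg.Agent.S2651
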