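import Cfsg.Statements.S2652
import Cfsg.Agent.H5.F23V

set_option autoImplicit false
open Cfsg

namespace Cfsg.Agent.S2652

open CfsgH5 CfsgH5.F23 Subgroup

theorem ea_map {G : Type*} [Group G] (e : G ≃* G) {A : Subgroup G} (h : IsElementaryAbelian 2 A) :
    IsElementaryAbelian 2 (A.map e.toMonoidHom) := by
  refine ⟨⟨⟨?_⟩⟩, ?_⟩
  · rintro ⟨_, x, hx, rfl⟩ ⟨_, y, hy, rfl⟩
    exact Subtype.ext ((map_mul e x y).symm.trans
      ((congrArg (fun t : A => e t) (h.1.1.1 ⟨x, hx⟩ ⟨y, hy⟩)).trans (map_mul e y x)))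
  · rintro _ ⟨x, hx, rfl⟩
    rw [← map_pow, h.2 x hx, map_one]

/-- Let T be a Sylow 2-subgroup of the Fischer group Fi₂₃ (the finitely presented group `Spor.Fi23`; T has order 2¹⁸). Then every elementary abelian subgroup of Fi₂₃ contained in T and normal in T has order at most 2¹¹, and there is exactly one such subgroup of order 2¹¹. -/
theorem result
    (T : Sylow 2 Cfsg.Spor.Fi23) :
    (∀ A : Subgroup Cfsg.Spor.Fi23, A ≤ T → (A.subgroupOf T).Normal → Cfsg.IsElementaryAbelian 2 A →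
        Nat.card A ≤ 2 ^ 11) ∧
    ∃! A : Subgroup Cfsg.Spor.Fi23, A ≤ T ∧ (A.subgroupOf T).Normal ∧ Cfsg.IsElementaryAbelian 2 A ∧
        Nat.card A = 2 ^ 11 := by
  obtain ⟨k, hk⟩ := exists_conj_into T0 card_T0 (by rw [card_eq]; norm_num) T.2
  let e := MulAut.conj k
  have hT : T0.comap e.toMonoidHom = T :=
    T.3 ((IsPGroup.of_card card_T0).comap_of_injective _ e.injective) hk
  have hc : ∀ A : Subgroup Spor.Fi23, Nat.card (A.map e.toMonoidHom) = Nat.card A := fun A =>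
    card_map_of_injective e.injective
  have hV : (V.map e.symm.toMonoidHom).map e.toMonoidHom = V := by
    rw [Subgroup.map_map]; simp
  have main : ∀ A : Subgroup Spor.Fi23, A ≤ T → IsElementaryAbelian 2 A →
      A = V.map e.symm.toMonoidHom ∨ Nat.card A < 2048 := fun A h1 h2 =>
    (key (map_le_iff_le_comap.2 (hT ▸ h1)) (ea_map e h2)).imp
      (fun h => map_injective e.injective (h.trans hV.symm)) fun h => hc A ▸ h
  have h0 : Nat.card (V.map e.symm.toMonoidHom) = 2 ^ 11 := by rw [← hc, hV, card_V]; norm_num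
  refine ⟨fun A h1 _ h2 => (main A h1 h2).elim (fun h => h ▸ h0.le) fun h => h.le,
    _, ⟨?_, ⟨fun x hx y => ?_⟩, ea_map e.symm V_ea, h0⟩,
    fun A h => (main A h.1 h.2.2.1).resolve_right (by rw [h.2.2.2]; norm_num)⟩
  · rw [← hT, ← map_le_iff_le_comap, hV]; exact V_le_T0
  · obtain ⟨v, hv, e1⟩ := hx
    refine ⟨_, conj_V (x := e y) (hT.ge y.2) hv, ?_⟩
    simp only [MulEquiv.toMonoidHom_eq_coe, MonoidHom.coe_coe] at e1
    simp [e1]

end Cfsg.Agent.S2652
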