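import Cfsg.Statements.S2739
import Cfsg.Agent.H5.L34
import Cfsg.Agent.H5.Alt

set_option autoImplicit false
open scoped Pointwise
open Cfsg

namespace Cfsg.Agent.S2739

open CfsgH5 MulAction

/-- chain of a Sylow 3-subgroup -/
noncomputable def cP : List Level :=
  [⟨2, [0xbdaa53a0d19d2495b14d7c1c311020, 0xbdab4234d1139130bcf21c0ac4a80b], 0x8969c,
    ap 120 0xffffffffffffffffffffffffffffff 0xbdaae122301964f09e6d21a8a6240b000000000000000000000000000000000000000000000000000000000000000000000000000000000000000000bdab4234d1139130bcf21c0ac4a80b000000000000000000000000000000000000000000000000000000000000bdaae548d1495a200c886428f99d61000000000000000000000000000000bdab46220653a440086d4c4b33bd61bdaa54b6306510301052519c77cd61000000000000000000000000000000bdaa51ca06251a70cde8145c95300b000000000000000000000000000000000000000000000000000000000000bdaae7b6063950a5a5929c68220c20bdaa53a0d19d2495b14d7c1c311020bdab49ca307b9ac5a928398a418820000000000000000000000000000000000000000000000000000000000000,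
    ap 1 1 0x89680, ap 3 7 0x600204098402200⟩]

theorem main {Q : Type*} [Group Q] (f : Q →* Equiv.Perm (Fin 24)) (hf : Function.Injective f)
    (hr : f.range = CF24.grp (gens c34)) : ∃ x0 : Q, ∀ X : Subgroup Q, Nat.card X = 3 →
      ∃ g : Q, MulAut.conj g • X = Subgroup.zpowers x0 := by
  have : Finite Q := Finite.of_injective f hf
  have : Fact (Nat.Prime 3) := ⟨by norm_num⟩
  letI := MulAction.compHom (Fin 24) f
  let C := CF24.pull f hf
  have hin : ∀ p, band (isPerm 5 31 24 p) (memC ops24 c34 p) = true → C.In ⊤ p := fun p h => by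
    rw [band_eq, Bool.and_eq_true] at h
    exact CF24.pull_in_of_memC f hf c34_valid c34_check hr (CF24_in h.1) h.2
  obtain ⟨x0, -, e0⟩ := hin 0xbdaa53a0d19d2495b14d7c1c311020 (by decide +kernel)
  refine ⟨x0, fun X hX => ?_⟩
  obtain ⟨x, h1, h3, rfl⟩ := exists_zpowers_of_prime (by norm_num) hX
  have hv : ∀ s ∈ gens cP, C.In ⊤ s := fun s hs => hin s (by revert s; decide +kernel)
  have hc : checkC ops24 cP = true := by decide +kernel
  obtain ⟨g, hg⟩ := exists_conj_mem (p := 3) (k := 2) (j := 1) (C.grp (gens cP))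
    (by rw [C.card_grp hv hc]; decide +kernel)
    (by rw [CF24.card_of_range f hf c34_valid c34_check hr]; decide +kernel) h3
  have := C.allC_one hv hc (fun p => bor (Nat.beq p ops24.one) (anyL [0xbdab49ca307b9ac5a928398a418820, 0xbdaa53a0d07b9a3088929c68962960, 0xbdab01acae5182f411209d22c11db2, 0xbdab25382b236838bd853811312606, 0xbdaa16410d22cc970cf19c80a788b4, 0xbdab06068e1456f92480394c354da8, 0xbdaab219a8606022a9f19c8033a5d4, 0xbdaa8139614b4ac33c749824751211] fun w =>
    band (band (isPerm 5 31 24 w) (memC ops24 c34 w))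
      (Nat.beq (ops24.mul (ops24.mul w p) (ops24.inv w)) 0xbdaa53a0d19d2495b14d7c1c311020))) (by decide +kernel) _ hg
  rw [bor_eq, Bool.or_eq_true, beq_true_iff, ← C.code_one, C.code_inj.eq_iff, anyL_iff] at this
  obtain ⟨w, -, hw⟩ := this.resolve_left (by simpa using h1)
  rw [band_eq, Bool.and_eq_true, beq_true_iff] at hw
  obtain ⟨w, -, rfl⟩ := hin w hw.1
  rw [← C.code_mul, ← C.code_inv, ← C.code_mul, ← e0, C.code_inj.eq_iff] at hw
  exact ⟨w * g, by rw [← conj_smul_conj_smul, conj_smul_zpowers, conj_smul_zpowers, hw.2]⟩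

/-- In the projective special linear group PSL(3, 4) all subgroups of order 3 are conjugate. -/
theorem result (F : Type*) [Field F] [Fintype F] (hF : Fintype.card F = 4) (X Y : Subgroup (Matrix.ProjectiveSpecialLinearGroup (Fin 3) F)) (hX : Nat.card ↥X = 3) (hY : Nat.card ↥Y = 3) : ∃ g : Matrix.ProjectiveSpecialLinearGroup (Fin 3) F, MulAut.conj g • X = Y := by
  obtain ⟨f, hf, hr⟩ := exists_L34 F hF
  obtain ⟨x0, h⟩ := main f hf hr
  obtain ⟨g, hg⟩ := h X hX
  obtain ⟨k, hk⟩ := h Y hY
  exact ⟨k⁻¹ * g, by rw [← conj_smul_conj_smul, hg, ← hk, conj_smul_conj_smul, inv_mul_cancel, map_one,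
    one_smul]⟩

end Cfsg.Agent.S2739
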