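import Cfsg.Statements.S4394
import Cfsg.Agent.L0.PSolv
import Cfsg.Agent.H2.Schmidt
import Cfsg.Agent.H3.ZJApp

set_option autoImplicit false
open Cfsg

namespace Cfsg.Agent.S4394
open Subgroup CfsgH2 CfsgL0
open scoped commutatorElement

theorem isSolvable_sup {G : Type*} [Group G] {N A : Subgroup G} (h : A ≤ normalizer (N : Set G))
    (hN : Group.IsSolvable N) (hA : Group.IsSolvable A) : Group.IsSolvable (N ⊔ A : Subgroup G) := by
  haveI : (N.subgroupOf (N ⊔ A)).Normal :=
    Subgroup.normal_subgroupOf_of_le_normalizer (sup_le le_normalizer h)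
  haveI : Group.IsSolvable (↥(N ⊔ A) ⧸ N.subgroupOf (N ⊔ A)) :=
    Group.isSolvable_of_surjective (f := (QuotientGroup.mk' _).comp (inclusion le_sup_right)) fun y => by
      obtain ⟨⟨y, hy⟩, rfl⟩ := QuotientGroup.mk_surjective y
      obtain ⟨n, hn, a, ha, rfl⟩ := (mem_sup_of_le_normalizer h).mp hy
      refine ⟨⟨a, ha⟩, QuotientGroup.eq.mpr ?_⟩
      change a⁻¹ * (n * a) ∈ N
      rw [← mul_assoc]
      exact conj_mem_of_le_normalizer' h ha hn
  refine Group.isSolvable_of_ker_le_range (inclusion le_sup_left)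
    (QuotientGroup.mk' (N.subgroupOf (N ⊔ A))) fun y hy => ⟨⟨y, ?_⟩, rfl⟩
  rwa [QuotientGroup.ker_mk'] at hy

theorem main1 {G : Type*} [Group G] [Finite G] [Group.IsSolvable G] {p q : ℕ} [hp : Fact p.Prime]
    [Fact q.Prime] (hpq : p ≠ q) {P R : Subgroup G} (hP : IsPGroup p P) {α : MulAut P}
    (h : Schm q α) (hna : ¬ IsMulCommutative P) [R.Normal] (hRP : R ≤ P)
    (hC : centralizer (R : Set G) ≤ R) {x : G} (hx : R ⊔ zpowers x = P) : P ≤ pCore p G := by
  obtain ⟨⟨-, hΦ, hD⟩, -⟩ := h.special hP hpq hna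
  have hcz : ∀ x y : P, ⁅x, y⁆ ∈ center P := fun x y => hD ▸ comm_mem_commutator x y
  have hze : ∀ z ∈ center P, z ^ p = 1 := by
    rw [← hD, commutator_eq_closure]
    refine pow_eq_one_of_mem_closure ?_ fun a ha b hb h1 h2 => ?_
    · rintro _ ⟨a, b, rfl⟩
      rw [← comm_pow_left (commute_of_mem_center (hcz _ _) _), comm_eq_one_iff]
      exact (commute_of_mem_center (hΦ ▸ pow_mem_frattini hP a) b).symm
    · rw [← commutator_eq_closure, hD] at hb
      rw [(commute_of_mem_center hb a).mul_pow, h1, h2, mul_one]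
  have hcP : ∀ w ∈ center P, (w : G) ∈ centralizer (P : Set G) := fun w hw g hg =>
    congrArg Subtype.val (mem_center_iff.mp hw ⟨g, hg⟩)
  have hW : ∀ w ∈ center P, (w : G) ∈ omegaOne p (CfsgH3.Zc R) := fun w hw =>
    CfsgH3.mem_omegaOne (mem_inf.mpr ⟨hC (centralizer_le hRP (hcP w hw)),
      centralizer_le hRP (hcP w hw)⟩) (congrArg Subtype.val (hze w hw))
  have hN : ∀ Z : Subgroup G, Z.Normal → (∀ w ∈ center P, (w : G) ∈ Z) →
      ∀ s ∈ normalClosure (P : Set G), ⁅R, zpowers s⁆ ≤ Z := fun Z _ hZ s hs => by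
    rw [commutator_comm]
    refine CfsgH3.le_cmod_normal_iff.mp (zpowers_le.mpr (normalClosure_le_normal ?_ hs))
    exact fun g hg => CfsgH3.mem_cmod_normal.mpr fun b hb => hZ _ (hcz ⟨g, hg⟩ ⟨b, hRP hb⟩)
  have hZ0 : omegaOne p (CfsgH3.Zc R) ≤ CfsgH3.Zc R := CfsgH3.omegaOne_le _
  have hZp : IsPGroup p (omegaOne p (CfsgH3.Zc R)) := hP.to_le (hZ0.trans (inf_le_left.trans hRP))
  set S := CfsgH1.resIn p (normalClosure (P : Set G)) with hS
  by_cases hWS : center P ≤ (centralizer (S : Set G)).subgroupOf P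
  · refine le_normalClosure.trans (le_pCore (CfsgH3.isPGroup_of_forall_coprime fun s hs hc => ?_))
    have h1 := le_centralizer_of_commutator_le (A := zpowers s)
      (N := omegaOne p (CfsgH3.Zc R) ⊓ centralizer (S : Set G))
      (CfsgH3.coprime_card_zpowers hc (hZp.to_le inf_le_left)) (Or.inl inferInstance)
      (inf_le_right.trans (centralizer_le (zpowers_le.mpr (CfsgH1.mem_resIn hs hc))))
      (hN _ inferInstance (fun w hw => mem_inf.mpr ⟨hW w hw, hWS hw⟩) s hs)
    obtain ⟨k, hk⟩ := IsPGroup.exists_pow_eq_one hP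
      (hRP (hC (le_centralizer_iff.mp h1 (mem_zpowers s))))
    exact eq_one_of_pow_coprime (pow_orderOf_eq_one s) hk (hc.pow_right k)
  have hxP : x ∈ P := hx ▸ mem_sup_right (mem_zpowers x)
  have key : ∀ a ∈ R, ∀ s ∈ normalClosure (P : Set G), (orderOf s).Coprime p →
      ∃ z ∈ omegaOne p (CfsgH3.Zc R), ∃ c ∈ centralizer (zpowers s : Set G), a = z * c :=
    fun a ha s hs hc => exists_eq_mul_centralizer le_normalizer_of_normal
      (CfsgH3.coprime_card_zpowers hc hZp) (Or.inl inferInstance) fun b hb =>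
        hN _ inferInstance hW s hs (commutator_mem_commutator ha hb)
  have hSC : ∀ y : G, (∀ s ∈ normalClosure (P : Set G), (orderOf s).Coprime p →
      y ∈ centralizer (zpowers s : Set G)) → y ∈ centralizer (S : Set G) := fun y hy =>
    zpowers_le.mp (le_centralizer_iff.mp (CfsgH1.resIn_le_iff.mpr fun s hs hc =>
      le_centralizer_iff.mp (zpowers_le.mpr (hy s hs hc)) (mem_zpowers s)))
  have h3 : 3 < p := by
    refine h.three_lt hP hpq hna (R := R.subgroupOf P) (x := ⟨x, hxP⟩) ?_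
      (fun w hw => (hZ0 (hW w hw)).1) hWS (fun a ha b hb => hSC _ fun s hs hc => ?_)
      fun a ha => hSC _ fun s hs hc => ?_
    · apply map_injective P.subtype_injective
      rw [Subgroup.map_sup, map_subgroupOf_eq_of_le hRP, MonoidHom.map_zpowers, ← MonoidHom.range_eq_map,
        range_subtype]
      exact hx
    · obtain ⟨z, hz, c, hc1, e1⟩ := key a ha s hs hc
      replace hb : (b : G) ∈ R := hb
      obtain ⟨z', hz', c', hc2, e2⟩ := key b hb s hs hc
      have hcR : c ∈ R := (mul_mem_cancel_left (mem_inf.mp (hZ0 hz)).1).mp (e1 ▸ ha)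
      have hcR' : c' ∈ R := (mul_mem_cancel_left (mem_inf.mp (hZ0 hz')).1).mp (e2 ▸ hb)
      have e : ((⁅a, b⁆ : P) : G) = ⁅c, c'⁆ := by
        change ⁅(a : G), (b : G)⁆ = _
        have hz1 : ∀ r ∈ R, Commute z r := fun r hr => ((hZ0 hz).2 r hr).symm
        have hz2 : ∀ r ∈ R, Commute z' r := fun r hr => ((hZ0 hz').2 r hr).symm
        have hcm : ∀ u ∈ R, ∀ v ∈ R, ⁅u, v⁆ ∈ R := fun u hu v hv =>
          commutator_le_of_le le_rfl le_rfl (commutator_mem_commutator hu hv)
        rw [e1, comm_mul_left_of_commute (hz1 _ (hcm _ hcR _ hb)),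
          comm_eq_one_iff.mpr (hz1 _ hb), mul_one, e2]
        rw [← commutatorElement_inv, comm_mul_left_of_commute (hz2 _ (hcm _ hcR' _ hcR)),
          comm_eq_one_iff.mpr (hz2 _ hcR), mul_one, commutatorElement_inv]
      rw [coe_subtype, e]
      exact commutator_le_of_le le_rfl le_rfl (commutator_mem_commutator hc1 hc2)
    · obtain ⟨z, hz, c, hc1, e1⟩ := key a ha s hs hc
      have hcR : c ∈ R := (mul_mem_cancel_left (mem_inf.mp (hZ0 hz)).1).mp (e1 ▸ ha)
      rw [coe_subtype, Subgroup.coe_pow, e1, Commute.mul_pow ((hZ0 hz).2 c hcR).symm,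
        CfsgH3.omegaOne_pow_of_comm (CfsgH3.isMulCommutative_Zc _) z hz, one_mul]
      exact pow_mem hc1 p
  intro g hg
  refine ((CfsgH3.pStab_of_not_isSec (by omega) (CfsgH3.not_isSec_QD_of_isSolvable h3)).nStab ⊤ R
    inferInstance (hP.to_le hRP) g (mem_top g) ?_).mem_pCore (hP.to_le (hC.trans hRP))
  rw [commutator_eq_bot_iff_le_centralizer]
  refine le_trans ?_ (centralizer_le (zpowers_le.mpr hg))
  rw [commutator_le]
  exact fun a ha b hb => hcP _ (hcz ⟨a, hRP ha⟩ ⟨b, zpowers_le.mpr hg hb⟩)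

theorem main2 {G : Type*} [Group G] [Finite G] {p q : ℕ} [hp : Fact p.Prime]
    [Fact q.Prime] (hpq : p ≠ q) (hG : IsPSolvable p G) (h0 : pPrimeCore p G = ⊥) {P : Subgroup G}
    (hP : IsPGroup p P) (hRP : pCore p G ≤ P) {α : MulAut P} (h : Schm q α) : P ≤ pCore p G := by
  have hC := centralizer_pCore_le hG h0
  by_cases hna : IsMulCommutative P
  · exact fun a ha => hC fun b hb => isMulCommutative_iff.mp hna b (hRP hb) a ha
  obtain ⟨⟨-, -, hD⟩, -⟩ := h.special hP hpq hna
  let π := QuotientGroup.mk' (pCore p G)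
  have hπ : Function.Surjective π := QuotientGroup.mk'_surjective _
  have hker : π.ker = pCore p G := QuotientGroup.ker_mk' _
  have hPc : IsMulCommutative (P.map π) := isMulCommutative_iff.mpr (by
    rintro _ ⟨a, ha, rfl⟩ _ ⟨b, hb, rfl⟩
    refine comm_mem_iff_commute_mk.mp (hC fun g hg => ?_)
    exact congrArg Subtype.val (mem_center_iff.mp
      (hD ▸ comm_mem_commutator (⟨a, ha⟩ : P) ⟨b, hb⟩) ⟨g, hRP hg⟩))
  have hPp : IsPGroup p (P.map π) := hP.map π
  have hT := not_dvd_card_pPrimeCore (G ⧸ pCore p G) p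
  have hC2 := centralizer_pPrimeCore_le (isPSolvable_quotient hG (pCore p G)) (pCore_quotient G p)
  suffices hs : pPrimeCore p (G ⧸ pCore p G) ≤ centralizer (P.map π : Set (G ⧸ pCore p G)) by
    rw [← hker, ← Subgroup.map_eq_bot_iff]
    exact (disjoint_of_coprime_card (coprime_card_of_isPGroup hPp hT)).eq_bot_of_le
      ((le_centralizer_iff.mp hs).trans hC2)
  refine CfsgH2.le_of_forall_sylow fun r hr hrd => ?_
  haveI := Fact.mk hr
  obtain ⟨T, hTs, hPT⟩ := exists_invariant_sylow r (A := P.map π)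
    (H := pPrimeCore p (G ⧸ pCore p G)) le_normalizer_of_normal (coprime_card_of_isPGroup hPp hT)
    (Or.inl (isSolvable_of_isPGroup hPp))
  refine ⟨T, hTs, le_of_cocyclic hPc hPT (coprime_card_of_isPGroup hPp
    fun h => hT (h.trans (card_dvd_of_le hTs.1))) fun B hB => ?_⟩
  obtain ⟨hBP, _, ⟨x, hxP, rfl⟩, hBx⟩ := hB
  set T1 := T ⊓ centralizer (B : Set (G ⧸ pCore p G)) with hT1
  have hBc : P.map π ≤ centralizer (B : Set (G ⧸ pCore p G)) := fun a ha b hb =>
    isMulCommutative_iff.mp hPc b (hBP hb) a ha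
  have hPT1 : P.map π ≤ normalizer (T1 : Set (G ⧸ pCore p G)) :=
    le_normalizer_inf hPT (hBc.trans le_normalizer)
  have hT1r : IsPGroup r T1 := hTs.2.1.to_le inf_le_left
  set G1 := (T1 ⊔ P.map π).comap π with hG1
  have hPG1 : P ≤ G1 := map_le_iff_le_comap.mp le_sup_right
  have hs1 : Group.IsSolvable (T1 ⊔ P.map π : Subgroup _) :=
    isSolvable_sup hPT1 (isSolvable_of_isPGroup hT1r) (isSolvable_of_isPGroup hPp)
  haveI : Group.IsSolvable G1 := by
    haveI := isSolvable_of_isPGroup (isPGroup_pCore G p)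
    refine Group.isSolvable_of_ker_le_range (inclusion (hRP.trans hPG1))
      (π.subgroupComap (T1 ⊔ P.map π)) fun y hy => ⟨⟨y, ?_⟩, rfl⟩
    exact hker ▸ congrArg Subtype.val hy
  have hBP' : B.comap π ≤ P := by
    rw [← sup_eq_left.mpr (hker.le.trans hRP), ← comap_map_eq]
    exact comap_mono hBP
  have hRB : pCore p G ≤ B.comap π := hker.ge.trans (ker_le_comap π B)
  haveI : ((B.comap π).subgroupOf G1).Normal := Subgroup.normal_subgroupOf_of_le_normalizer
    ((comap_mono ((sup_le inf_le_right hBc).trans (centralizer_le_normalizer _))).trans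
      (le_normalizer_comap π))
  have hm := main1 (G := G1) hpq (P := P.subgroupOf G1) (R := (B.comap π).subgroupOf G1)
    hP.comap_subtype (h.of_equiv (subgroupOfEquivOfLe hPG1).symm)
    (fun hc => hna (isMulCommutative_iff.mpr fun a ha b hb => congrArg Subtype.val
      (isMulCommutative_iff.mp hc ⟨a, hPG1 ha⟩ ha ⟨b, hPG1 hb⟩ hb))) (comap_mono hBP')
    (fun c hc => hRB (hC fun g hg => congrArg Subtype.val
      (hc ⟨g, hPG1 (hRP hg)⟩ (hRB hg)))) (x := ⟨x, hPG1 hxP⟩) (by
        apply map_injective G1.subtype_injective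
        rw [Subgroup.map_sup, map_subgroupOf_eq_of_le hPG1,
          map_subgroupOf_eq_of_le (hBP'.trans hPG1), MonoidHom.map_zpowers]
        refine le_antisymm (sup_le hBP' (zpowers_le.mpr hxP)) ?_
        refine (le_comap_map π P).trans ?_
        rw [← hBx, ← MonoidHom.map_zpowers, ← comap_sup_eq π _ _ hπ, comap_map_eq, hker]
        exact sup_le le_sup_left (sup_le le_sup_right (hRB.trans le_sup_left)))
  set K := ((pCore p G1).map G1.subtype).map π
  have hKp : IsPGroup p K := ((isPGroup_pCore G1 p).map _).map _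
  have hTK : T1 ≤ normalizer (K : Set (G ⧸ pCore p G)) := by
    refine le_trans ?_ ((map_mono (CfsgH2.le_normalizer_map_subtype (pCore p G1))).trans
      (le_normalizer_map π))
    rw [hG1, map_comap_eq_self_of_surjective hπ]
    exact le_sup_left
  have hPK : P.map π ≤ K := map_mono (map_subgroupOf_eq_of_le hPG1 ▸ map_mono hm)
  intro t ht a ha
  have := comm_mem_inf_of_normalizer ht (hPK ha) (hTK ht) (hPT1 ha)
  rw [inf_comm, (disjoint_of_coprime_card (coprime_card_of_isPGroup hKp fun h => hT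
    (h.trans (card_dvd_of_le (inf_le_left.trans hTs.1))))).eq_bot] at this
  exact (comm_eq_one_iff.mp (mem_bot.mp this)).symm

/-- Let X be a finite minimal non-nilpotent group (not nilpotent, every proper subgroup nilpotent) with a nontrivial normal Sylow p-subgroup P. If G is a finite p-solvable group whose Sylow p-subgroups are isomorphic to P, then G has p-length at most 1. -/
theorem result {G X : Type*} [Group G] [Finite G] [Group X] [Finite X] (p : ℕ) [Fact p.Prime]
    (hX : Cfsg.IsMinimalNonNilpotent X) (P : Sylow p X) (hPn : (P : Subgroup X).Normal) (hP1 : (P : Subgroup X) ≠ ⊥)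
    (hG : Cfsg.IsPSolvable p G) (Q : Sylow p G) (hQ : Nonempty (↥(Q : Subgroup G) ≃* ↥(P : Subgroup X))) : Cfsg.PLengthLE p 1 G := by
  obtain ⟨e⟩ := hQ
  have hp : p.Prime := Fact.out
  obtain ⟨q, hq, hpq, g, k, hk, hg⟩ : ∃ q : ℕ, q.Prime ∧ p ≠ q ∧ ∃ g : X, ∃ k : ℕ, g ^ q ^ k = 1 ∧
      g ∉ centralizer ((P : Subgroup X) : Set X) := by
    by_contra hcon
    push Not at hcon
    obtain ⟨H, hH⟩ := exists_right_complement'_of_coprime P.card_coprime_index
    have hHp : ¬ p ∣ Nat.card H := hH.symm.index_eq_card ▸ P.not_dvd_index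
    have hHC : H ≤ centralizer ((P : Subgroup X) : Set X) :=
      CfsgH2.le_of_forall_sylow fun r hr hrd => by
        haveI := Fact.mk hr
        obtain ⟨T, hT⟩ := exists_isSylowOf r H
        refine ⟨T, hT, fun t ht => ?_⟩
        obtain ⟨k, hk⟩ := IsPGroup.exists_pow_eq_one hT.2.1 ht
        exact hcon r hr (fun e => hHp (e ▸ hrd)) t k hk
    haveI : H.Normal := normalizer_eq_top_iff.mp (eq_top_iff.mpr (hH.sup_eq_top ▸ sup_le
      ((le_centralizer_iff.mp hHC).trans (centralizer_le_normalizer _)) le_normalizer))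
    have := isNilpotent_sup_of_normal (P : Subgroup X) H P.isPGroup'.isNilpotent
      (hX.2 H fun e => hP1 (hH.disjoint.eq_bot_of_le (e ▸ le_top)))
    rw [hH.sup_eq_top] at this
    exact hX.1 (Group.nilpotent_of_mulEquiv topEquiv)
  haveI := Fact.mk hq
  obtain ⟨-, _, hS⟩ := schm_of_minimal hpq (fun K hK => by
      haveI := hX.2 K hK
      refine CfsgH1.pNil_top_iff.mp (CfsgH1.pNil_of_pow_mem (not_dvd_card_pPrimeCore K p)
        fun x _ => ?_)
      obtain ⟨a, ha, b, hb, rfl⟩ := (mem_sup_of_le_normalizer le_normalizer_of_normal).mp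
        (pCore_sup_pPrimeCore (G := K) p ▸ mem_top x)
      obtain ⟨k, hk⟩ := IsPGroup.exists_pow_eq_one (isPGroup_pCore K p) ha
      have : Commute a b := comm_eq_one_iff.mp (mem_bot.mp (commutator_pCore_pPrimeCore K p ▸
        commutator_mem_commutator ha hb))
      exact ⟨k, by rw [this.mul_pow, hk, one_mul]; exact pow_mem hb _⟩)
    P.isPGroup' (mem_normalizer_of_normal _ g) hk hg
  let π := QuotientGroup.mk' (pPrimeCore p G)
  have hπ : Function.Surjective π := QuotientGroup.mk'_surjective _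
  let e2 : (Q : Subgroup G) ≃* (Q : Subgroup G).map π := MulEquiv.ofBijective (π.subgroupMap _)
    ⟨(injective_iff_map_eq_one _).mpr fun a ha => Subtype.ext (mem_bot.mp
      ((disjoint_of_coprime_card (coprime_card_of_isPGroup Q.isPGroup'
        (not_dvd_card_pPrimeCore G p))).le_bot (mem_inf.mpr ⟨a.2,
          (QuotientGroup.eq_one_iff _).mp (congrArg Subtype.val ha)⟩))),
      π.subgroupMap_surjective _⟩
  have hm := main2 hpq (isPSolvable_quotient hG _) (pPrimeCore_quotient G p) (Q.isPGroup'.map π)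
    (pCore_le_sylow (Q.mapSurjective hπ)) (hS.of_equiv (e.symm.trans e2))
  have hQ2 : (Q : Subgroup G) ≤ (upperPSeries p G 2).1 := by
    rw [upperPSeries_two]; exact map_le_iff_le_comap.mp hm
  haveI := (upperPSeries p G 2).2
  rw [PLengthLE, upperPSeries_succ_even (by decide), eq_top_iff]
  refine le_piCoreMod _ _ ((isPi_compl_singleton_iff' hp).mpr ?_)
  rw [relIndex_top_right]
  exact fun h => Q.not_dvd_index (h.trans (index_dvd_of_le hQ2))

end Cfsg.Agent.S4394
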