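import Cfsg.Statements.S4419
import Cfsg.Agent.H1.Misc
import Cfsg.Agent.H2.LinAct
import Cfsg.Agent.H2.RankOne

set_option autoImplicit false
open Cfsg

namespace Cfsg.Agent.S4419

open CfsgH1 Subgroup
open scoped commutatorElement
set_option maxHeartbeats 400000

theorem two_gen {X Y : Type*} [Group X] [Group Y] [IsCyclic Y] (f : X →* Y) (h : IsCyclic f.ker) :
    ∃ a b : X, zpowers a ⊔ zpowers b = ⊤ := by
  obtain ⟨a, ha⟩ := CfsgH2.exists_zpowers_eq_of_isCyclic h
  obtain ⟨c, hc⟩ := CfsgH2.exists_zpowers_eq_of_isCyclic (A := f.range) inferInstance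
  obtain ⟨b, rfl⟩ : c ∈ f.range := hc ▸ mem_zpowers c
  refine ⟨a, b, eq_top_iff.mpr fun x _ => ?_⟩
  obtain ⟨k, hk⟩ := mem_zpowers_iff.mp (hc.ge ⟨x, rfl⟩)
  rw [← inv_mul_cancel_right x (b ^ k)]
  refine mul_mem (mem_sup_left ?_) (mem_sup_right (zpow_mem_zpowers b k))
  rw [ha, MonoidHom.mem_ker, map_mul, map_inv, map_zpow, hk, mul_inv_cancel]

theorem aut_pow {X : Type*} [Group X] [Finite X] {p : ℕ} [hp : Fact p.Prime] (hX : IsPGroup p X)
    {a b : X} (hab : zpowers a ⊔ zpowers b = ⊤) {α : MulAut X} (hα : (orderOf α).Coprime p) :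
    α ^ (p * (p ^ 2 - 1) ^ 2) = 1 := by
  have h1 : Nat.card X ∣ Nat.card (frattini X) * p ^ 2 := by
    haveI := CfsgH2.normal_sup_zpowers (K := frattini X) (x := a) (CfsgH2.comm_mem_frattini hX a)
    have h2 := CfsgH2.card_sup_zpowers_dvd (K := frattini X) (x := a)
      (le_normalizer_of_normal (mem_top a)) (CfsgH2.pow_mem_frattini hX a)
    have h3 := CfsgH2.card_sup_zpowers_dvd (K := frattini X ⊔ zpowers a) (x := b)
      (le_normalizer_of_normal (mem_top b)) (mem_sup_left (CfsgH2.pow_mem_frattini hX b))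
    rw [sup_assoc, hab, sup_top_eq, card_top] at h3
    rw [pow_two, ← mul_assoc]
    exact h3.trans (Nat.mul_dvd_mul_right h2 p)
  rw [← (frattini X).card_mul_index] at h1
  obtain ⟨d, hd, e⟩ := (Nat.dvd_prime_pow hp.out).mp (Nat.dvd_of_mul_dvd_mul_left Nat.card_pos h1)
  have h2 := CfsgH2.card_mulAut_of_elementary (E := X ⧸ frattini X) (p := p) (d := d)
    ⟨⟨fun x y => by
      obtain ⟨x, rfl⟩ := QuotientGroup.mk_surjective x
      obtain ⟨y, rfl⟩ := QuotientGroup.mk_surjective y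
      exact CfsgH2.comm_mem_iff_commute_mk.mp (CfsgH2.comm_mem_frattini hX x y)⟩⟩
    (fun x => by
      obtain ⟨x, rfl⟩ := QuotientGroup.mk_surjective x
      exact (QuotientGroup.eq_one_iff _).mpr (CfsgH2.pow_mem_frattini hX x)) e
  have h3 : CfsgH2.glCard p d ∣ p * (p ^ 2 - 1) ^ 2 := by
    have h4 : p - 1 ∣ p ^ 2 - 1 := by simpa using Nat.sub_dvd_pow_sub_pow p 1 2
    have h5 : p ^ 2 - p = p * (p - 1) := by rw [Nat.mul_sub, pow_two, mul_one]
    interval_cases d
    · simp [CfsgH2.glCard]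
    · simpa [CfsgH2.glCard] using (h4.trans (dvd_pow_self _ two_ne_zero)).mul_left p
    · simp only [CfsgH2.glCard, Fin.prod_univ_two, Fin.val_zero, Fin.val_one, pow_zero,
        pow_one, h5]
      rw [mul_left_comm, pow_two (p ^ 2 - 1)]
      exact Nat.mul_dvd_mul_left p (Nat.mul_dvd_mul_left _ h4)
  let ψ := CfsgH2.quotAut (MonoidHom.id (MulAut X)) (frattini X)
    fun a x hx => CfsgH2.Characteristic.apply_mem inferInstance a hx
  set β := α ^ (p * (p ^ 2 - 1) ^ 2) with hβ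
  have h4 : zpowers β ≤ ψ.ker := zpowers_le.mpr (by
    rw [MonoidHom.mem_ker, hβ, map_pow, ← orderOf_dvd_iff_pow_eq_one]
    exact (_root_.orderOf_dvd_natCard _).trans (h2 ▸ h3))
  have h5 := CfsgH2.fixAut_eq_top_of_frattini (zpowers β).subtype (by
      rw [Nat.card_zpowers]
      exact CfsgH2.coprime_card_of_coprime_p hX
        (Nat.Coprime.coprime_dvd_left (orderOf_pow_dvd _) hα))
    (CfsgH2.commAut_le.mpr fun x _ γ => QuotientGroup.eq.mp
      (MulEquiv.congr_fun (h4 γ.2) (x : X ⧸ frattini X)).symm)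
  ext x
  exact h5.ge (mem_top x) ⟨β, mem_zpowers β⟩

/-- Let p be a prime and G a finite group whose Sylow p-subgroups are metacyclic (a cyclic normal subgroup with cyclic quotient). Then G has a normal p-complement if and only if the order of G/O_{p′,p}(G) is coprime to p² − 1. -/
theorem result {G : Type*} [Group G] [Finite G] (p : ℕ) [Fact p.Prime] (S : Sylow p G) (hS : Cfsg.IsMetacyclic ↥(S : Subgroup G)) : Cfsg.HasNormalPComplement p G ↔ Nat.Coprime (Nat.card (G ⧸ Cfsg.pPrimePCore p G)) (p ^ 2 - 1) := by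
  have hP := isSylowIn_top S
  rw [hasNormalPComplement_iff_top]
  refine ⟨fun h => ?_, fun h => hP.pNil_of_automizers fun U hU _ g _ hg hc => ?_⟩
  · have : Cfsg.pPrimePCore p G = ⊤ := by
      rw [eq_top_iff]
      intro x _
      rw [mem_pPrimePCore_iff]
      refine CfsgL0.le_pCore (N := ⊤) (isPGroup_iff_forall.mpr fun y _ => ?_) (mem_top _)
      obtain ⟨y, rfl⟩ := QuotientGroup.mk_surjective y
      obtain ⟨k, hk⟩ := exists_pow_mem_resIn (p := p) (mem_top y)
      exact ⟨k, (QuotientGroup.eq_one_iff _).mpr (CfsgL0.le_pPrimeCore h.coprime hk)⟩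
    rw [← index_eq_card, this, index_top]
    exact Nat.coprime_one_left _
  obtain ⟨N, _, h1, h2⟩ := hS
  obtain ⟨a, b, hab⟩ := two_gen ((QuotientGroup.mk' N).comp (inclusion hU)) (by
    rw [← MonoidHom.comap_ker, QuotientGroup.ker_mk']
    exact isCyclic_of_injective ((inclusion hU).subgroupComap N)
      fun x y e => Subtype.ext (inclusion_injective hU (congrArg Subtype.val e)))
  have h3 := aut_pow (hP.pgroup.to_le hU) hab (α := CfsgH2.conjAut le_rfl ⟨g, hg⟩)
    (Nat.Coprime.coprime_dvd_left ((orderOf_map_dvd _ _).trans (by rw [← orderOf_coe])) hc)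
  rw [← map_pow, ← MonoidHom.mem_ker, CfsgH2.ker_conjAut] at h3
  have h4 : g ^ Nat.card (G ⧸ Cfsg.pPrimePCore p G) ∈ centralizer (U : Set G) :=
    mem_centralizer_of_cj_le not_dvd_card_pPrimeCore hP.pgroup hU
      (mem_pPrimeCore_of_coprime (pow_index_mem _ g)
        (Nat.Coprime.coprime_dvd_left (orderOf_pow_dvd _) hc))
      ((cj_eq_of_mem_normalizer (pow_mem hg _)).le.trans hU)
  have h5 : (g ^ (p ^ 2 - 1) ^ 2) ^ p ∈ centralizer (U : Set G) := by
    rw [← pow_mul, mul_comm]; exact h3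
  have h6 := mem_of_pow_mem_of_coprime (Nat.Coprime.coprime_dvd_left (orderOf_pow_dvd _) hc) h5
  obtain ⟨u, v, e⟩ := Nat.isCoprime_iff_coprime.mpr (Nat.Coprime.pow_right 2 h)
  rw [← zpow_one g, ← e, zpow_add, mul_comm u, mul_comm v, zpow_mul, zpow_mul, zpow_natCast,
    zpow_natCast]
  exact mul_mem (zpow_mem h4 _) (zpow_mem h6 _)

end Cfsg.Agent.S4419
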