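import Cfsg.Statements.S4423

set_option autoImplicit false
open Cfsg

namespace Cfsg.Agent.S4423

open Polynomial Finset

theorem dvd_geom {q e l : ℕ} (hq : 2 ≤ q) (he : 0 < e) (hl : l.Prime) (h : l ∣ e) :
    (cyclotomic e ℤ).eval (q : ℤ) ∣ ∑ j ∈ range l, ((q : ℤ) ^ (e / l)) ^ j := by
  obtain ⟨n, rfl⟩ := h
  have hn : 0 < n := Nat.pos_of_mul_pos_left he
  rw [Nat.mul_div_cancel_left _ hl.pos]
  have h1 := eval_dvd (x := (q : ℤ)) (X_pow_sub_one_mul_cyclotomic_dvd_X_pow_sub_one_of_dvd ℤ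
    (d := n) (n := l * n) (Nat.mem_properDivisors.2 ⟨dvd_mul_left _ _, by nlinarith [hl.two_le]⟩))
  simp only [eval_mul, eval_sub, eval_pow, eval_X, eval_one] at h1
  rw [mul_comm l n, pow_mul, ← mul_geom_sum ((q : ℤ) ^ n) l] at h1
  rw [mul_comm l n]
  refine (mul_dvd_mul_iff_left ?_).1 h1
  have : (1 : ℤ) < (q : ℤ) ^ n := one_lt_pow₀ (by exact_mod_cast hq) hn.ne'
  omega

theorem bad_prime {q e r i : ℕ} (hq : 2 ≤ q) (he : 3 ≤ e) (hr : r.Prime)
    (h1 : (r : ℤ) ∣ (cyclotomic e ℤ).eval (q : ℤ)) (hi : 1 ≤ i) (hie : i < e) (h2 : r ∣ q ^ i - 1) :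
    r ∣ e ∧ (∀ s : ℕ, s.Prime → s ∣ e → s ≤ r) ∧ ¬ (r : ℤ) ^ 2 ∣ (cyclotomic e ℤ).eval (q : ℤ) := by
  haveI := Fact.mk hr
  have h0 : ∀ j : ℕ, (r : ℤ) ∣ (q : ℤ) ^ j - 1 ↔ orderOf (q : ZMod r) ∣ j := fun j => by
    rw [orderOf_dvd_iff_pow_eq_one, ← ZMod.intCast_zmod_eq_zero_iff_dvd, ← sub_eq_zero (b := 1)]
    simp
  have hde : orderOf (q : ZMod r) ∣ e := (h0 e).1 (h1.trans (by
    simpa using eval_dvd (x := (q : ℤ)) (cyclotomic.dvd_X_pow_sub_one e ℤ)))
  have hdi : orderOf (q : ZMod r) ∣ i := (h0 i).1 (by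
    have := Int.natCast_dvd_natCast.2 h2
    rwa [Nat.cast_sub (Nat.one_le_pow _ _ (by omega)), Nat.cast_pow, Nat.cast_one] at this)
  have hq0 : (q : ZMod r) ≠ 0 := fun h => by
    have := orderOf_dvd_iff_pow_eq_one.1 hde
    rw [h, zero_pow (by omega)] at this
    exact zero_ne_one this
  have hdr : orderOf (q : ZMod r) ∣ r - 1 :=
    orderOf_dvd_of_pow_eq_one (ZMod.pow_card_sub_one_eq_one hq0)
  obtain ⟨c, hc⟩ := hde
  set d := orderOf (q : ZMod r)
  have hy : ∀ l : ℕ, l.Prime → l ∣ c → (r : ℤ) ∣ (q : ℤ) ^ (e / l) - 1 := fun l hl h => by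
    obtain ⟨k, rfl⟩ := h
    rw [h0, hc, mul_left_comm, Nat.mul_div_cancel_left _ hl.pos]
    exact dvd_mul_right _ _
  have key : ∀ l : ℕ, l.Prime → l ∣ c → l = r := fun l hl h => by
    have h3 := h1.trans (dvd_geom hq (by omega) hl (hc ▸ h.mul_left d))
    have h4 : (r : ℤ) ∣ ∑ j ∈ range l, (((q : ℤ) ^ (e / l)) ^ j - 1) :=
      dvd_sum fun j _ => (hy l hl h).trans (by simpa using sub_dvd_pow_sub_pow _ (1 : ℤ) j)
    rw [sum_sub_distrib, dvd_sub_right h3] at h4
    exact ((Nat.prime_dvd_prime_iff_eq hr hl).1 (by simpa [Int.natCast_dvd_natCast] using h4)).symm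
  have hc1 : c ≠ 1 := fun h => by
    have := Nat.le_of_dvd hi hdi
    rw [h, mul_one] at hc
    omega
  have hrc : r ∣ c := key _ (Nat.minFac_prime hc1) (Nat.minFac_dvd c) ▸ Nat.minFac_dvd c
  have hre : r ∣ e := hc ▸ hrc.mul_left d
  refine ⟨hre, fun s hs h => ?_, fun h => ?_⟩
  · rcases (hs.dvd_mul.1 (hc ▸ h)) with h | h
    · have := Nat.le_of_dvd (by have := hr.two_le; omega) (h.trans hdr)
      omega
    · exact (key s hs h).le
  · have h3 := h.trans (dvd_geom hq (by omega) hr hre)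
    obtain ⟨t, ht⟩ := hy r hr hrc
    rcases hr.eq_two_or_odd' with rfl | ho
    · have hd1 : d = 1 := Nat.dvd_one.1 hdr
      rw [hd1, one_mul] at hc
      subst hc
      obtain ⟨n, rfl⟩ := hrc
      have hn : 2 ∣ n := key _ (Nat.minFac_prime (n := n) (by omega))
        ((Nat.minFac_dvd n).mul_left 2) ▸ Nat.minFac_dvd n
      obtain ⟨k, rfl⟩ := hn
      obtain ⟨s, hs⟩ := (h0 k).2 (hd1 ▸ one_dvd k)
      simp only [sum_range_succ, range_zero, sum_empty, Nat.mul_div_cancel_left _ two_pos,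
        pow_mul'] at h3
      rw [show (q : ℤ) ^ k = 1 + 2 * s by push_cast at hs; omega] at h3
      obtain ⟨u, hu⟩ := h3
      push_cast at hu
      have : 2 + 4 * (s + s ^ 2) = 4 * u := by linarith
      omega
    · have h4 := odd_sq_dvd_geom_sum₂_sub (R := ℤ) (p := r) 1 t ho
      simp only [one_pow, mul_one] at h4
      rw [show (1 : ℤ) + r * t = (q : ℤ) ^ (e / r) by omega, dvd_sub_right h3, pow_two] at h4
      have h5 : (r : ℤ) ∣ 1 := (mul_dvd_mul_iff_left (by exact_mod_cast hr.ne_zero)).1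
        (h4.trans (mul_one _).symm.dvd)
      exact hr.one_lt.ne' (by exact_mod_cast Int.eq_one_of_dvd_one (by positivity) h5)

theorem exists_prim {q e : ℕ} (hq : 2 ≤ q) (he : 3 ≤ e) : ∃ m : ℕ, m ∣ q ^ e - 1 ∧
    (∀ i : ℕ, 1 ≤ i → i < e → Nat.Coprime m (q ^ i - 1)) ∧
    ((cyclotomic e ℤ).eval (q : ℤ)).natAbs ≤ e * m := by
  set P := ((cyclotomic e ℤ).eval (q : ℤ)).natAbs with hP
  have h1 : P ∣ q ^ e - 1 := by
    rw [← Int.natCast_dvd_natCast, Nat.cast_sub (Nat.one_le_pow _ _ (by omega)), hP, Int.natAbs_dvd]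
    simpa using eval_dvd (x := (q : ℤ)) (cyclotomic.dvd_X_pow_sub_one e ℤ)
  by_cases h : ∃ r i : ℕ, r.Prime ∧ r ∣ P ∧ 1 ≤ i ∧ i < e ∧ r ∣ q ^ i - 1
  · obtain ⟨r, i, hr, ⟨m, hm⟩, hi, hie, h2⟩ := h
    obtain ⟨a1, a2, a3⟩ := bad_prime hq he hr (Int.natCast_dvd.2 ⟨m, hm⟩) hi hie h2
    refine ⟨m, (Dvd.intro_left _ hm.symm).trans h1, fun j hj hje => ?_,
      hm ▸ Nat.mul_le_mul_right _ (Nat.le_of_dvd (by omega) a1)⟩
    refine Nat.coprime_of_dvd fun s hs hsm hsj => ?_
    obtain ⟨b1, b2, -⟩ := bad_prime hq he hs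
      (Int.natCast_dvd.2 (hsm.trans (Dvd.intro_left _ hm.symm))) hj hje hsj
    obtain rfl : s = r := le_antisymm (a2 s hs b1) (b2 r hr a1)
    refine a3 ?_
    rw [← Nat.cast_pow, Int.natCast_dvd, ← hP, hm, pow_two]
    exact mul_dvd_mul_left _ hsm
  · exact ⟨P, h1, fun j hj hje => Nat.coprime_of_dvd fun s hs h2 h3 => h ⟨s, j, hs, h2, hj, hje, h3⟩,
      Nat.le_mul_of_pos_left _ (by omega)⟩

theorem le_tot (n : ℕ) : n ≤ (if 2 ∣ n then 2 else 1) * n.totient ^ 2 := by
  induction n using Nat.recOnPrimeCoprime with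
  | zero => simp
  | prime_pow p k hp =>
    rcases k with _ | k
    · simp
    rw [Nat.totient_prime_pow_succ hp, mul_pow, pow_succ]
    have h0 : p ^ k ≤ (p ^ k) ^ 2 := Nat.le_self_pow (by norm_num) _
    rcases hp.eq_two_or_odd' with rfl | ho
    · rw [if_pos (dvd_mul_left _ _)]; simp; omega
    · have h3 : 3 ≤ p := by have := hp.two_le; obtain ⟨a, rfl⟩ := ho; omega
      have h4 : p ≤ (p - 1) ^ 2 := by
        obtain ⟨a, rfl⟩ := Nat.exists_eq_add_of_le h3
        rw [show 3 + a - 1 = 2 + a by omega]; nlinarith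
      refine (Nat.mul_le_mul h0 h4).trans (Nat.le_mul_of_pos_left _ ?_)
      split_ifs <;> norm_num
  | coprime a b ha hb h iha ihb =>
    rw [Nat.totient_mul h, mul_pow]
    refine (Nat.mul_le_mul iha ihb).trans (le_of_eq ?_)
    by_cases h1 : 2 ∣ a
    · have h2 : ¬ 2 ∣ b := fun h2 => by simpa using Nat.dvd_gcd h1 h2 |>.trans h.dvd
      simp [h1, h2, h1.mul_right b]; ring
    · by_cases h2 : 2 ∣ b
      · simp [h1, h2, h2.mul_left a]; ring
      · simp [h1, h2, Nat.prime_two.dvd_mul]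

theorem two_pow_ge (l : ℕ) (hl : 3 ≤ l) : 3 * (3 / 2 : ℝ) ^ (l - 1) ≤ 2 ^ l - 1 := by
  induction l, hl using Nat.le_induction with
  | base => norm_num
  | succ n hn ih =>
    rw [show n + 1 - 1 = n - 1 + 1 by omega, pow_succ, pow_succ]
    have : (1 : ℝ) ≤ 2 ^ n := one_le_pow₀ (by norm_num)
    nlinarith

theorem cyc_two {e : ℕ} (he : 3 ≤ e) : (3 / 2 : ℝ) ^ e.totient ≤ (cyclotomic e ℝ).eval 2 := by
  have A : ∀ l n : ℕ, l.Prime → l ∣ n → (3 / 2 : ℝ) ^ (n * l).totient ≤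
      (cyclotomic (n * l) ℝ).eval 2 := fun l n hl h => by
    rw [← cyclotomic_expand_eq_cyclotomic hl h, expand_eval, mul_comm,
      Nat.totient_mul_of_prime_of_dvd hl h, pow_mul]
    refine le_trans (pow_le_pow_left₀ (by positivity) ?_ _)
      (sub_one_pow_totient_le_cyclotomic_eval (one_lt_pow₀ (by norm_num) hl.ne_zero) n)
    rcases hl.two_le.eq_or_lt with rfl | h3
    · norm_num
    · have := two_pow_ge l h3
      rw [show l = l - 1 + 1 by omega, pow_succ, show l - 1 + 1 = l by omega]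
      have : (0 : ℝ) ≤ (3 / 2) ^ (l - 1) := by positivity
      linarith
  by_cases h4 : 4 ∣ e
  · obtain ⟨k, rfl⟩ := h4
    rw [show 4 * k = 2 * k * 2 by ring]
    exact A 2 _ Nat.prime_two (dvd_mul_right _ _)
  obtain ⟨l, hl, h3, n, rfl⟩ : ∃ l : ℕ, l.Prime ∧ 3 ≤ l ∧ l ∣ e := by
    obtain ⟨m, hm, h1, h2⟩ : ∃ m, m ∣ e ∧ m ≠ 1 ∧ ¬ 2 ∣ m := by
      by_cases h2 : 2 ∣ e
      · exact ⟨e / 2, Nat.div_dvd_of_dvd h2, by omega, by omega⟩
      · exact ⟨e, dvd_rfl, by omega, h2⟩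
    refine ⟨_, Nat.minFac_prime h1, ?_, (Nat.minFac_dvd m).trans hm⟩
    exact (Nat.minFac_prime h1).two_le.lt_of_ne fun h => h2 (h ▸ Nat.minFac_dvd m)
  rw [mul_comm]
  by_cases h : l ∣ n
  · exact A l n hl h
  have e1 := congrArg (eval (2 : ℝ)) (cyclotomic_expand_eq_cyclotomic_mul hl h ℝ)
  rw [expand_eval, eval_mul] at e1
  have e2 := sub_one_pow_totient_le_cyclotomic_eval (q := 2 ^ l)
    (one_lt_pow₀ (by norm_num) hl.ne_zero) n
  have e3 := cyclotomic_eval_le_add_one_pow_totient (q := 2) (by norm_num) n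
  have e4 := cyclotomic_pos' (n * l) (R := ℝ) (x := 2) (by norm_num)
  have e5 := pow_le_pow_left₀ (by positivity) (two_pow_ge l h3) n.totient
  rw [mul_comm n, Nat.totient_mul_of_prime_of_not_dvd hl h, pow_mul, mul_comm l]
  rw [mul_pow] at e5
  refine le_of_mul_le_mul_left (a := 3 ^ n.totient) ?_ (by positivity)
  calc _ ≤ _ := e5
    _ ≤ _ := e2
    _ = _ := e1
    _ ≤ _ := by rw [mul_comm]; exact mul_le_mul_of_nonneg_right (by norm_num at e3 ⊢; exact e3) e4.le

theorem cyc_ge {q e : ℕ} (hq : 2 ≤ q) (he : 3 ≤ e) :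
    3 ^ e.totient ≤ 2 ^ e.totient * ((cyclotomic e ℤ).eval (q : ℤ)).natAbs := by
  rcases hq.eq_or_lt with rfl | h3
  · have h1 := cyc_two he
    have h2 := cyclotomic.eval_apply (2 : ℤ) e (algebraMap ℤ ℝ)
    rw [div_pow, div_le_iff₀ (by positivity), mul_comm] at h1
    have h4 : (((cyclotomic e ℤ).eval ((2 : ℕ) : ℤ)).natAbs : ℝ) = (cyclotomic e ℝ).eval 2 := by
      rw [Nat.cast_natAbs, abs_of_pos (cyclotomic_pos' e (by norm_num))]
      simpa using h2.symm
    rw [← h4] at h1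
    exact_mod_cast h1
  · have h1 := sub_one_pow_totient_lt_natAbs_cyclotomic_eval (n := e) (q := q) (by omega) (by omega)
    refine le_trans ?_ (Nat.mul_le_mul_left _ h1.le)
    rw [← mul_pow]
    exact Nat.pow_le_pow_left (by omega) _

theorem big (f : ℕ) (hf : 44 ≤ f) : 2 ^ f * (12 * f ^ 4 + 2 * f ^ 2) ≤ 3 ^ f := by
  induction f, hf using Nat.le_induction with
  | base => norm_num
  | succ n hn ih =>
    rw [pow_succ 3, pow_succ 2, mul_assoc]
    refine le_trans ?_ (Nat.mul_le_mul_right 3 ih)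
    rw [mul_assoc]
    refine Nat.mul_le_mul_left _ ?_
    obtain ⟨a, rfl⟩ := Nat.exists_eq_add_of_le hn
    ring_nf
    omega

/-- strip the common factors -/
def strip (a : ℕ) : ℕ → ℕ → ℕ
  | 0, m => m
  | k + 1, m => if Nat.gcd m a = 1 then m else strip a k (m / Nat.gcd m a)

/-- candidate primitive part -/
def prim (q e : ℕ) : ℕ := (List.range e).foldl (fun m i => if i = 0 then m else strip (q ^ i - 1) 9 m)
  (q ^ e - 1)

/-- direct check -/
def dir (q e : ℕ) : Bool :=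
  let m := prim q e
  (q ^ e - 1) % m == 0 && (List.range e).all (fun i => i == 0 || Nat.gcd m (q ^ i - 1) == 1) &&
    Nat.ble (3 * e + 1) m

/-- a lower bound for the totient -/
def cnt (e : ℕ) : ℕ := ((if e < 250 then List.range e else
  [2, 3, 5, 7, 11, 13, 17, 19, 23, 29, 31, 37, 41, 43, 47, 53, 59, 61, 67, 71, 73, 79, 83, 89, 97, 101, 103, 107, 109, 113, 127, 131, 137, 139, 149, 151, 157, 163, 167, 173, 179, 181, 191, 193, 197, 199, 211, 223, 227]).filter fun i => Nat.gcd e i == 1).length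

theorem cnt_le (e : ℕ) : cnt e ≤ e.totient := by
  rw [cnt, ← List.toFinset_card_of_nodup (List.Nodup.filter _ (by
    split_ifs; exacts [List.nodup_range, by decide])), Nat.totient]
  refine card_le_card fun i hi => ?_
  simp only [List.mem_toFinset, List.mem_filter, beq_iff_eq] at hi
  refine mem_filter.2 ⟨mem_range.2 ?_, hi.2⟩
  have := hi.1
  split_ifs at this with h
  · exact List.mem_range.1 this
  · exact lt_of_lt_of_le ((by decide : ∀ j ∈ [2, 3, 5, 7, 11, 13, 17, 19, 23, 29, 31, 37, 41, 43, 47, 53, 59, 61, 67, 71, 73, 79, 83, 89, 97, 101, 103, 107, 109, 113, 127, 131, 137, 139, 149, 151, 157, 163, 167, 173, 179, 181, 191, 193, 197, 199, 211, 223, 227], j < 250) i this) (not_lt.1 h)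

theorem ck : (List.range 3699).all (fun e => Nat.ble e 2 || Nat.ble 44 (cnt e) ||
    (Nat.ble (e * (3 * e + 1)) (11 ^ cnt e) && (List.range 12).all fun q => Nat.ble q 1 ||
      decide ((q, e) ∈ [(2, 6), (2, 4), (2, 10), (2, 12), (2, 18), (3, 4), (3, 6), (5, 6), (2, 3), (2, 8),
        (2, 20), (4, 3), (4, 6)]) || dir q e)) = true := by
  decide +kernel

theorem small {N A B C m : ℕ} (k : ℕ) (h : N ∣ A * (B * C) ^ k) (hm : m ∣ N) (h1 : m.Coprime B)
    (h2 : m.Coprime C) (hA : 0 < A) : m ≤ A :=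
  Nat.le_of_dvd hA (((h1.mul_right h2).pow_right k).dvd_of_dvd_mul_right (hm.trans h))


/-- Size of the primitive part of `q^e - 1`. For a prime power `q` and `e ≥ 3`, call a divisor of `q^e - 1` primitive when it is coprime to `q^i - 1` for every `1 ≤ i < e`; the primitive part is the largest primitive divisor. Apart from thirteen exceptional pairs, the primitive part is at least `3e + 1`: there is a primitive divisor `m ≥ 3e + 1` unless `(q, e)` is `(2, 6)` (where every primitive divisor is 1), one of `(2,4), (2,10), (2,12), (2,18), (3,4), (3,6), (5,6)` (where the primitive part is exactly `e + 1`), or one of `(2,3), (2,8), (2,20), (4,3), (4,6)` (where it is exactly `2e + 1`). The statement asserts the existence of a primitive divisor `m ≥ 3e + 1` outside the thirteen pairs, and that every primitive divisor is at most `2e + 1` for the thirteen pairs. -/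
theorem result (q e : ℕ) (hq : IsPrimePow q) (he : 3 ≤ e) :
    ((q, e) ∉ [(2, 6), (2, 4), (2, 10), (2, 12), (2, 18), (3, 4), (3, 6), (5, 6), (2, 3), (2, 8), (2, 20), (4, 3), (4, 6)] →
      ∃ m : ℕ, m ∣ q ^ e - 1 ∧ (∀ i : ℕ, 1 ≤ i → i < e → Nat.Coprime m (q ^ i - 1)) ∧ 3 * e + 1 ≤ m) ∧
    ((q, e) ∈ [(2, 6), (2, 4), (2, 10), (2, 12), (2, 18), (3, 4), (3, 6), (5, 6), (2, 3), (2, 8), (2, 20), (4, 3), (4, 6)] →
      ∀ m : ℕ, m ∣ q ^ e - 1 → (∀ i : ℕ, 1 ≤ i → i < e → Nat.Coprime m (q ^ i - 1)) → m ≤ 2 * e + 1) := by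
  have hq2 : 2 ≤ q := hq.two_le
  refine ⟨fun hne => ?_, fun hin m hm hc => ?_⟩
  · obtain ⟨m, h1, h2, h3⟩ := exists_prim hq2 he
    have B : e * (3 * e + 1) ≤ ((cyclotomic e ℤ).eval (q : ℤ)).natAbs → ∃ m : ℕ, m ∣ q ^ e - 1 ∧
        (∀ i : ℕ, 1 ≤ i → i < e → Nat.Coprime m (q ^ i - 1)) ∧ 3 * e + 1 ≤ m := fun h =>
      ⟨m, h1, h2, Nat.le_of_mul_le_mul_left (h.trans h3) (by omega)⟩
    have t : e ≤ 2 * e.totient ^ 2 :=
      (le_tot e).trans (Nat.mul_le_mul_right _ (by split_ifs <;> norm_num))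
    by_cases hf : 44 ≤ e.totient
    · refine B (Nat.le_of_mul_le_mul_left (le_trans ?_ ((big _ hf).trans (cyc_ge hq2 he)))
        (pow_pos two_pos e.totient))
      exact Nat.mul_le_mul_left _ (by nlinarith)
    have c := cnt_le e
    have k := List.all_eq_true.1 ck e (List.mem_range.2 (by nlinarith))
    simp only [Bool.or_eq_true, Nat.ble_eq, Bool.and_eq_true, List.all_eq_true, List.mem_range,
      decide_eq_true_eq] at k
    obtain ⟨k1, k2⟩ := k.resolve_left (by omega)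
    by_cases h12 : q < 12
    · have k3 := (k2 q h12).resolve_left (by rintro (h | h); omega; exact hne h)
      simp only [dir, Bool.and_eq_true, beq_iff_eq, List.all_eq_true, List.mem_range,
        Bool.or_eq_true, Nat.ble_eq] at k3
      exact ⟨_, Nat.dvd_of_mod_eq_zero k3.1.1, fun i h4 h5 => (k3.1.2 i h5).resolve_left (by omega),
        k3.2⟩
    · refine B (k1.trans ((Nat.pow_le_pow_right (by norm_num) c).trans (le_trans
        (Nat.pow_le_pow_left (by omega) _)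
        (sub_one_pow_totient_lt_natAbs_cyclotomic_eval (by omega) (by omega)).le)))
  · simp only [List.mem_cons, Prod.mk.injEq, List.not_mem_nil, or_false] at hin
    rcases hin with ⟨rfl, rfl⟩ | ⟨rfl, rfl⟩ | ⟨rfl, rfl⟩ | ⟨rfl, rfl⟩ | ⟨rfl, rfl⟩ | ⟨rfl, rfl⟩ |
      ⟨rfl, rfl⟩ | ⟨rfl, rfl⟩ | ⟨rfl, rfl⟩ | ⟨rfl, rfl⟩ | ⟨rfl, rfl⟩ | ⟨rfl, rfl⟩ | ⟨rfl, rfl⟩
    · exact (small (A := 1) 2 (by norm_num) hm (hc 2 (by norm_num) (by norm_num)) (hc 3 (by norm_num) (by norm_num)) (by norm_num)).trans (by norm_num)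
    · exact (small (A := 5) 2 (by norm_num) hm (hc 1 (by norm_num) (by norm_num)) (hc 2 (by norm_num) (by norm_num)) (by norm_num)).trans (by norm_num)
    · exact (small (A := 11) 2 (by norm_num) hm (hc 2 (by norm_num) (by norm_num)) (hc 5 (by norm_num) (by norm_num)) (by norm_num)).trans (by norm_num)
    · exact (small (A := 13) 2 (by norm_num) hm (hc 3 (by norm_num) (by norm_num)) (hc 4 (by norm_num) (by norm_num)) (by norm_num)).trans (by norm_num)
    · exact (small (A := 19) 2 (by norm_num) hm (hc 6 (by norm_num) (by norm_num)) (hc 9 (by norm_num) (by norm_num)) (by norm_num)).trans (by norm_num)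
    · exact (small (A := 5) 2 (by norm_num) hm (hc 1 (by norm_num) (by norm_num)) (hc 1 (by norm_num) (by norm_num)) (by norm_num)).trans (by norm_num)
    · exact (small (A := 7) 2 (by norm_num) hm (hc 1 (by norm_num) (by norm_num)) (hc 3 (by norm_num) (by norm_num)) (by norm_num)).trans (by norm_num)
    · exact (small (A := 7) 2 (by norm_num) hm (hc 2 (by norm_num) (by norm_num)) (hc 3 (by norm_num) (by norm_num)) (by norm_num)).trans (by norm_num)
    · exact (small (A := 7) 2 (by norm_num) hm (hc 1 (by norm_num) (by norm_num)) (hc 1 (by norm_num) (by norm_num)) (by norm_num)).trans (by norm_num)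
    · exact (small (A := 17) 2 (by norm_num) hm (hc 1 (by norm_num) (by norm_num)) (hc 4 (by norm_num) (by norm_num)) (by norm_num)).trans (by norm_num)
    · exact (small (A := 41) 2 (by norm_num) hm (hc 4 (by norm_num) (by norm_num)) (hc 10 (by norm_num) (by norm_num)) (by norm_num)).trans (by norm_num)
    · exact (small (A := 7) 2 (by norm_num) hm (hc 1 (by norm_num) (by norm_num)) (hc 1 (by norm_num) (by norm_num)) (by norm_num)).trans (by norm_num)
    · exact (small (A := 13) 2 (by norm_num) hm (hc 2 (by norm_num) (by norm_num)) (hc 3 (by norm_num) (by norm_num)) (by norm_num)).trans (by norm_num)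

end Cfsg.Agent.S4423
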