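import Cfsg.Statements.S5051
import Cfsg.Agent.H7.RIDisc
import Cfsg.Agent.H7.RI6

set_option autoImplicit false
open Cfsg

namespace Cfsg.Agent.S5051


/-- Let G be a finite group generated by a set D of odd transpositions, d ∈ D, x ∈ D with dx of odd order greater than 1, and X the subgroup generated by x together with the members of D having the same commuting members as d. Then X/O₂(X) is isomorphic to L₂(q) or Sz(q) for a power q > 2 of 2, or is a dihedral group. -/
theorem result {G : Type*} [Group G] [Finite G] {D : Set G} (hD : Cfsg.IsOddTranspositionSet D) {d x : G} (hd : d ∈ D)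
    (hx : x ∈ Cfsg.oddPartners D d) :
    (∃ (F : Type) (_ : Field F) (_ : Fintype F), CharP F 2 ∧ 4 ≤ Fintype.card F ∧
      Nonempty ((↥(Subgroup.closure (Cfsg.sameCommutingClass D d ∪ {x})) ⧸
        Cfsg.pCore 2 ↥(Subgroup.closure (Cfsg.sameCommutingClass D d ∪ {x}))) ≃* Matrix.ProjectiveSpecialLinearGroup (Fin 2) F)) ∨
    Cfsg.Lie.IsoSuzuki ((↥(Subgroup.closure (Cfsg.sameCommutingClass D d ∪ {x})) ⧸
        Cfsg.pCore 2 ↥(Subgroup.closure (Cfsg.sameCommutingClass D d ∪ {x})))) ∨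
    (∃ n : ℕ, Nonempty ((↥(Subgroup.closure (Cfsg.sameCommutingClass D d ∪ {x})) ⧸
        Cfsg.pCore 2 ↥(Subgroup.closure (Cfsg.sameCommutingClass D d ∪ {x}))) ≃* DihedralGroup n)) := by
  have hT := CfsgH7.RI.ot_of_set hD
  let X := Subgroup.closure (Cfsg.sameCommutingClass D d ∪ {x})
  have hd' : d ∈ X := Subgroup.subset_closure (Or.inl ⟨hd, rfl⟩)
  have hx' : x ∈ X := Subgroup.subset_closure (Or.inr rfl)
  refine CfsgH7.RI.s5051_core (CfsgH7.RI.specDisc _) (hT.preim X) (fun e he g => hD.1.conj_mem _ he g)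
    (E := Subtype.val ⁻¹' Cfsg.sameCommutingClass D d) (d := ⟨d, hd'⟩) (x := ⟨x, hx'⟩)
    (fun e he => ⟨he.1, fun y hy => ?_⟩) ⟨hd, rfl⟩ hx.1 (CfsgH7.RI.od_coe.1 (CfsgH9.mem_oddPartners.1 hx).2) ?_
  · rw [← CfsgH7.RI.commute_coe, ← CfsgH7.RI.commute_coe]
    exact CfsgH7.RI.eqv_iff.2 he.2 y hy
  · rw [← Subgroup.closure_closure_coe_preimage (k := Cfsg.sameCommutingClass D d ∪ {x})]
    congr 1
    ext y
    simp only [Set.mem_union, Set.mem_preimage, Set.mem_singleton_iff, Subtype.ext_iff]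

end Cfsg.Agent.S5051
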